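import Cfsg.Agent.Lib.Char.TwoTrans
import Cfsg.Agent.Lib.Perm.ThreeTransitive

/-! Groups of prime degree `p` with Sylow normalizer of order `2 p`: permutation facts. -/

set_option autoImplicit false
set_option linter.style.haveILetI false

namespace Cfsg.Agent.DegreePTwo

open MulAction

universe u v

variable {G : Type u} [Group G] {Ω : Type v} [MulAction G Ω]

/-- Fixed embeddings are embeddings into the fixed points. -/
theorem card_fixedBy_emb [Finite Ω] (k : ℕ) (g : G) :
    Nat.card (fixedBy (Fin k ↪ Ω) g) = (Nat.card (fixedBy Ω g)).descFactorial k := by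
  classical
  haveI : Fintype Ω := Fintype.ofFinite Ω
  have e : fixedBy (Fin k ↪ Ω) g ≃ (Fin k ↪ fixedBy Ω g) :=
    { toFun := fun x => ⟨fun i => ⟨x.1 i, congrArg (fun f : Fin k ↪ Ω => f i) x.2⟩,
        fun i j h => x.1.injective (congrArg Subtype.val h)⟩
      invFun := fun y => ⟨y.trans (Function.Embedding.subtype _),
        Function.Embedding.ext fun i => (y i).2⟩
      left_inv := fun x => Subtype.ext (Function.Embedding.ext fun i => rfl)
      right_inv := fun y => Function.Embedding.ext fun i => Subtype.ext rfl }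
  rw [Nat.card_congr e, Nat.card_eq_fintype_card, Fintype.card_embedding_eq, Fintype.card_fin,
    Nat.card_eq_fintype_card]

theorem sum_descFactorial [Fintype G] [Finite Ω] (k : ℕ) :
    ∑ g : G, (Nat.card (fixedBy Ω g)).descFactorial k =
      Nat.card (Quotient (orbitRel G (Fin k ↪ Ω))) * Nat.card G := by
  rw [← Cfsg.Agent.Char.sum_natCard_fixedBy (Fin k ↪ Ω)]
  exact Finset.sum_congr rfl fun g _ => (card_fixedBy_emb k g).symm

theorem sum_descFactorial_of_trans [Fintype G] [Finite Ω] (k : ℕ)
    (h : IsMultiplyPretransitive G Ω k) (hk : k ≤ Nat.card Ω) :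
    ∑ g : G, (Nat.card (fixedBy Ω g)).descFactorial k = Nat.card G := by
  haveI : Fintype Ω := Fintype.ofFinite Ω
  rw [sum_descFactorial k]
  suffices h1 : Nat.card (Quotient (orbitRel G (Fin k ↪ Ω))) = 1 by rw [h1, one_mul]
  rw [Nat.card_eq_one_iff_unique]
  refine ⟨⟨fun x y => ?_⟩, ?_⟩
  · induction x using Quotient.ind with | _ a => ?_
    induction y using Quotient.ind with | _ b => ?_
    exact Quotient.sound (h.exists_smul_eq b a)
  · rw [Nat.card_eq_fintype_card] at hk
    obtain ⟨e⟩ := Function.Embedding.nonempty_of_card_le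
      (α := Fin k) (β := Ω) (by rwa [Fintype.card_fin])
    exact ⟨Quotient.mk _ e⟩

/-- The data of a nonsolvable group of prime degree with Sylow normalizer of order `2 p`. -/
structure Setup (G : Type u) [Group G] (Ω : Type v) [MulAction G Ω] (p : ℕ) : Prop where
  prime : p.Prime
  five : 5 ≤ p
  faithful : FaithfulSMul G Ω
  card : Nat.card Ω = p
  trans : IsPretransitive G Ω
  three : IsMultiplyPretransitive G Ω 3
  sylow : ∀ P : Sylow p G, Nat.card (P : Subgroup G) = p
  normalizer : ∀ P : Sylow p G, Nat.card (Subgroup.normalizer ((P : Subgroup G) : Set G)) = 2 * p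

namespace Setup

variable {p : ℕ} (S : Setup G Ω p) [Finite G]

include S

theorem orbit_univ {x : G} (hx : orderOf x = p) (a b : Ω) :
    ∃ y ∈ Subgroup.zpowers x, y • a = b := by
  classical
  haveI := Fact.mk S.prime
  haveI := S.faithful
  haveI : Finite Ω := Nat.finite_of_card_ne_zero (S.card ▸ S.prime.ne_zero)
  haveI : Fintype Ω := Fintype.ofFinite Ω
  set σ : Equiv.Perm Ω := toPermHom G Ω x with hσ
  have hσord : orderOf σ = p := by
    rw [hσ, orderOf_injective (toPermHom G Ω) MulAction.toPerm_injective, hx]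
  have hcard : Fintype.card Ω = p := by rw [← Nat.card_eq_fintype_card, S.card]
  have hcyc : σ.IsCycle := Equiv.Perm.isCycle_of_prime_order'' (hcard ▸ S.prime) (hσord.trans hcard.symm)
  have hsupp : σ.support = Finset.univ := by
    apply Finset.eq_univ_of_card
    rw [← hcyc.orderOf, hσord, hcard]
  obtain ⟨i, hi⟩ := hcyc.exists_zpow_eq
    (Equiv.Perm.mem_support.1 (hsupp ▸ Finset.mem_univ a))
    (Equiv.Perm.mem_support.1 (hsupp ▸ Finset.mem_univ b))
  refine ⟨x ^ i, ⟨i, rfl⟩, ?_⟩
  rw [hσ, ← map_zpow] at hi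
  exact hi

/-- A centralizer of an element of order `p` is cyclic of order `p`. -/
theorem card_centralizer {x : G} (hx : orderOf x = p) :
    Nat.card (Subgroup.centralizer ({x} : Set G)) = p := by
  haveI := S.faithful
  haveI : Finite Ω := Nat.finite_of_card_ne_zero (S.card ▸ S.prime.ne_zero)
  obtain ⟨a⟩ : Nonempty Ω := (Nat.card_pos_iff.1 (S.card ▸ S.prime.pos)).1
  refine le_antisymm ?_ ?_
  · conv_rhs => rw [← S.card]
    refine Nat.card_le_card_of_injective (fun c : Subgroup.centralizer ({x} : Set G) => (c : G) • a) ?_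
    intro c d hcd
    apply Subtype.ext
    refine FaithfulSMul.eq_of_smul_eq_smul fun b : Ω => ?_
    obtain ⟨y, ⟨i, rfl⟩, rfl⟩ := S.orbit_univ hx a b
    have hc : Commute (c : G) (x ^ i) :=
      (show Commute (c : G) x from Subgroup.mem_centralizer_singleton_iff.1 c.2).zpow_right i
    have hd : Commute (d : G) (x ^ i) :=
      (show Commute (d : G) x from Subgroup.mem_centralizer_singleton_iff.1 d.2).zpow_right i
    simp only at hcd ⊢
    rw [smul_smul, smul_smul, hc.eq, hd.eq, mul_smul, mul_smul, hcd]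
  · rw [← hx, ← Nat.card_zpowers]
    exact Nat.le_of_dvd Nat.card_pos (Subgroup.card_dvd_of_le (by
      rw [Subgroup.zpowers_le, Subgroup.mem_centralizer_singleton_iff]))

theorem no_fixed {x : G} (hx : orderOf x = p) (a : Ω) : x • a ≠ a := by
  intro h
  haveI := S.faithful
  have : x = 1 := by
    refine FaithfulSMul.eq_of_smul_eq_smul fun b : Ω => ?_
    obtain ⟨y, ⟨i, rfl⟩, rfl⟩ := S.orbit_univ hx a b
    rw [one_smul, smul_smul, ← ((Commute.refl x).zpow_left i).eq, mul_smul, h]
  rw [this, orderOf_one] at hx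
  exact S.prime.ne_one hx.symm

/-- A `p`-singular element has order `p` and no fixed points. -/
theorem singular {g : G} (hg : p ∣ orderOf g) :
    orderOf g = p ∧ Nat.card (fixedBy Ω g) = 0 := by
  have hpow : orderOf (g ^ (orderOf g / p)) = p := orderOf_pow_orderOf_div (orderOf_pos g).ne' hg
  have hmem : g ∈ Subgroup.centralizer ({g ^ (orderOf g / p)} : Set G) :=
    Subgroup.mem_centralizer_singleton_iff.2 ((Commute.refl g).pow_right _).eq
  have h1 : orderOf g ∣ p := by
    have := Subgroup.orderOf_dvd_natCard _ hmem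
    rwa [S.card_centralizer hpow] at this
  have h2 : orderOf g = p := Nat.dvd_antisymm h1 hg
  refine ⟨h2, ?_⟩
  haveI : IsEmpty (fixedBy Ω g) := ⟨fun a => S.no_fixed h2 a.1 a.2⟩
  exact Nat.card_of_isEmpty

/-- The number of `p`-singular elements. -/
theorem card_singular [Fintype G] :
    2 * p * Nat.card {g : G // p ∣ orderOf g} = Nat.card G * (p - 1) := by
  classical
  haveI := Fact.mk S.prime
  have hone : ∀ (Q : Sylow p G) (g : G), g ∈ (Q : Subgroup G) → g ≠ 1 →
      orderOf g = p ∧ Subgroup.zpowers g = (Q : Subgroup G) := by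
    intro Q g hgQ hg
    have h1 : orderOf g = p := (S.prime.eq_one_or_self_of_dvd _
      ((S.sylow Q) ▸ Subgroup.orderOf_dvd_natCard _ hgQ)).resolve_left
        (fun h => hg (orderOf_eq_one_iff.1 h))
    refine ⟨h1, Subgroup.eq_of_le_of_card_ge (Subgroup.zpowers_le.2 hgQ) ?_⟩
    rw [S.sylow Q, Nat.card_zpowers, h1]
  let f : (Σ Q : Sylow p G, {g : (Q : Subgroup G) // g ≠ 1}) → {g : G // p ∣ orderOf g} :=
    fun z => ⟨(z.2.1 : G),
      by rw [(hone z.1 _ z.2.1.2 (fun h => z.2.2 (Subtype.ext h))).1]⟩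
  have hf : Function.Bijective f := by
    constructor
    · rintro ⟨Q, g, hg⟩ ⟨Q', g', hg'⟩ h
      have h1 : (g : G) = g' := congrArg Subtype.val h
      have e : Q = Q' := by
        apply Sylow.ext
        rw [← (hone Q _ g.2 fun h => hg (Subtype.ext h)).2,
          ← (hone Q' _ g'.2 fun h => hg' (Subtype.ext h)).2, h1]
      subst e
      have h2 : g = g' := Subtype.ext h1
      subst h2
      rfl
    · rintro ⟨g, hg⟩
      have h2 := (S.singular hg).1
      have hp : IsPGroup p (Subgroup.zpowers g) :=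
        IsPGroup.of_card (n := 1) (by rw [Nat.card_zpowers, h2, pow_one])
      obtain ⟨Q, hQ⟩ := hp.exists_le_sylow
      refine ⟨⟨Q, ⟨g, hQ (Subgroup.mem_zpowers g)⟩, fun h => ?_⟩, rfl⟩
      have : g = 1 := congrArg Subtype.val h
      rw [this, orderOf_one] at h2
      exact S.prime.ne_one h2.symm
  rw [← Nat.card_congr (Equiv.ofBijective f hf), Nat.card_sigma]
  have hfib : ∀ Q : Sylow p G, Nat.card {g : (Q : Subgroup G) // g ≠ 1} = p - 1 := by
    intro Q
    rw [Nat.card_eq_fintype_card, Fintype.card_subtype_compl, Fintype.card_subtype_eq,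
      ← Nat.card_eq_fintype_card, S.sylow Q]
  rw [Finset.sum_congr rfl (fun Q _ => hfib Q), Finset.sum_const, Finset.card_univ, smul_eq_mul,
    ← Nat.card_eq_fintype_card (α := Sylow p G)]
  obtain ⟨Q⟩ : Nonempty (Sylow p G) := inferInstance
  have hidx : (Subgroup.normalizer ((Q : Subgroup G) : Set G)).index * (2 * p) = Nat.card G := by
    rw [← S.normalizer Q, Subgroup.index_mul_card]
  have hc : Nat.card (Sylow p G) = (Subgroup.normalizer ((Q : Subgroup G) : Set G)).index :=
    Sylow.card_eq_index_normalizer Q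
  rw [hc, ← hidx]
  ring

end Setup

end Cfsg.Agent.DegreePTwo
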