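import Cfsg.Agent.Lib.Char.Indicator
import Cfsg.Agent.Lib.Char.GaloisRat
import Cfsg.Agent.Lib.Char.Integral

/-! The exterior square of a character, and sums over subgroups. -/

set_option autoImplicit false
set_option linter.style.haveILetI false

namespace Cfsg.Agent.DegreePTwo

open Cfsg.Agent.Char Module
open scoped ComplexConjugate Matrix

universe u

variable {G : Type u} [Group G] {n : ℕ}

/-- The skew projection on square matrices. -/
noncomputable def skewProj (n : ℕ) : Matrix (Fin n) (Fin n) ℂ →ₗ[ℂ] Matrix (Fin n) (Fin n) ℂ :=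
  (1 / 2 : ℂ) • (LinearMap.id - matT n)

/-- The skew matrices as a subrepresentation of the congruence action. -/
noncomputable def skewSub (ρ : Representation ℂ G (Fin n → ℂ)) : Subrepresentation (congRep ρ) where
  toSubmodule := LinearMap.ker (LinearMap.id + matT n)
  apply_mem_toSubmodule g v hv := by
    rw [LinearMap.mem_ker, LinearMap.add_apply, LinearMap.id_apply, matT_apply] at hv ⊢
    rw [congRep_apply, Matrix.transpose_mul, Matrix.transpose_mul, Matrix.transpose_transpose,
      ← Matrix.mul_assoc, ← Matrix.add_mul, ← Matrix.mul_add, hv, Matrix.mul_zero, Matrix.zero_mul]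

theorem trace_skewSub (ρ : Representation ℂ G (Fin n → ℂ)) (g : G) :
    (skewSub ρ).toRepresentation.character g =
      (ρ.character g * ρ.character g - ρ.character (g * g)) / 2 := by
  set W := (skewSub ρ).toSubmodule with hW
  have hmemP : ∀ A, (congRep ρ g ∘ₗ skewProj n) A ∈ W := by
    intro A
    refine (skewSub ρ).apply_mem_toSubmodule g ?_
    change skewProj n A ∈ LinearMap.ker (LinearMap.id + matT n)
    simp only [skewProj, LinearMap.mem_ker, LinearMap.add_apply, LinearMap.id_apply,
      LinearMap.smul_apply, LinearMap.sub_apply, matT_apply, Matrix.transpose_smul,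
      Matrix.transpose_sub, Matrix.transpose_transpose]
    rw [← smul_add, sub_add_sub_cancel, sub_self, smul_zero]
  have h1 : LinearMap.trace ℂ W ((congRep ρ g ∘ₗ skewProj n).restrict (fun x _ => hmemP x)) =
      LinearMap.trace ℂ _ (congRep ρ g ∘ₗ skewProj n) := by
    have e := LinearMap.trace_comp_comm' (R := ℂ) W.subtype
      ((congRep ρ g ∘ₗ skewProj n).codRestrict W hmemP)
    rw [LinearMap.subtype_comp_codRestrict] at e
    exact e
  have h2 : (skewSub ρ).toRepresentation g =
      (congRep ρ g ∘ₗ skewProj n).restrict (fun x _ => hmemP x) := by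
    refine LinearMap.ext fun A => Subtype.ext ?_
    change congRep ρ g A.1 = congRep ρ g (skewProj n A.1)
    congr 1
    have hA : A.1 + A.1ᵀ = 0 := A.2
    rw [skewProj, LinearMap.smul_apply, LinearMap.sub_apply, LinearMap.id_apply, matT_apply,
      show A.1ᵀ = -A.1 from eq_neg_of_add_eq_zero_right hA, sub_neg_eq_add, ← two_smul ℂ A.1, smul_smul]
    norm_num
  rw [Representation.character, h2, h1, skewProj, LinearMap.comp_smul, map_smul, LinearMap.comp_sub,
    LinearMap.comp_id, map_sub]
  have h3 : LinearMap.trace ℂ _ (congRep ρ g ∘ₗ matT n) = ρ.character (g * g) := by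
    rw [← Module.End.mul_eq_comp, LinearMap.trace_mul_comm, Module.End.mul_eq_comp,
      trace_matT_congRep]
  rw [h3, show LinearMap.trace ℂ _ (congRep ρ g) = (congRep ρ).character g from rfl, trace_congRep,
    smul_eq_mul]
  ring

/-- The exterior square of a character is a character. -/
theorem isCharacter_extSquare {χ : G → ℂ} (h : Cfsg.IsCharacter G χ) :
    Cfsg.IsCharacter G (fun g => (χ g * χ g - χ (g * g)) / 2) := by
  obtain ⟨m, ρ, rfl⟩ := h
  have := isCharacter_of_rep (skewSub ρ).toRepresentation
  rwa [show (skewSub ρ).toRepresentation.character =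
      fun g => (ρ.character g * ρ.character g - ρ.character (g * g)) / 2 from
    funext fun g => trace_skewSub ρ g] at this

/-- A character without trivial constituent on `H` has none on a larger subgroup. -/
theorem sum_subgroup_eq_zero [Fintype G] {χ : G → ℂ} (h : Cfsg.IsCharacter G χ)
    {H K : Subgroup G} [Fintype H] [Fintype K] (hle : H ≤ K) (hH : ∑ x : H, χ (x : G) = 0) :
    ∑ x : K, χ (x : G) = 0 := by
  obtain ⟨m, ρ, rfl⟩ := h
  have e1 := sum_char_eq_finrank_invariants (G := H) (ρ.comp H.subtype)
  have e2 := sum_char_eq_finrank_invariants (G := K) (ρ.comp K.subtype)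
  have e1' : ∑ x : H, Representation.character (ρ.comp H.subtype : Representation ℂ H (Fin m → ℂ)) x = 0 := hH
  rw [e1', mul_zero] at e1
  have hbot : Representation.invariants (ρ.comp H.subtype : Representation ℂ H (Fin m → ℂ)) = ⊥ :=
    Submodule.finrank_eq_zero.1 (by exact_mod_cast e1.symm)
  have hbot' : Representation.invariants (ρ.comp K.subtype : Representation ℂ K (Fin m → ℂ)) = ⊥ := by
    rw [eq_bot_iff, ← hbot]
    intro x hx
    rw [Representation.mem_invariants] at hx ⊢
    exact fun y => hx ⟨y.1, hle y.2⟩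
  rw [hbot', finrank_bot, Nat.cast_zero, mul_eq_zero] at e2
  exact e2.resolve_left (inv_ne_zero (Nat.cast_ne_zero.2 Nat.card_pos.ne'))

/-- The sum of a character over a subgroup is a natural multiple of its order. -/
theorem exists_sum_subgroup [Fintype G] {χ : G → ℂ} (h : Cfsg.IsCharacter G χ) (H : Subgroup G)
    [Fintype H] : ∃ m : ℕ, ∑ x : H, χ (x : G) = (m : ℂ) * (Nat.card H : ℂ) := by
  obtain ⟨m, ρ, rfl⟩ := h
  have e1 := sum_char_eq_finrank_invariants (G := H) (ρ.comp H.subtype)
  rw [inv_mul_eq_iff_eq_mul₀ (Nat.cast_ne_zero.2 Nat.card_pos.ne')] at e1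
  exact ⟨_, e1.trans (mul_comm _ _)⟩

/-- A character fixed by every automorphism of `ℂ` has integer values. -/
theorem exists_int_of_fixed [Finite G] {χ : G → ℂ} (h : Cfsg.IsCharacter G χ)
    (hfix : ∀ (σ : ℂ ≃+* ℂ) (g : G), σ (χ g) = χ g) (g : G) : ∃ z : ℤ, χ g = (z : ℂ) := by
  obtain ⟨q, hq⟩ := Cfsg.Agent.CharGalois.eq_rat_of_fixed (IsCharacter.isIntegral h g) (fun σ => hfix σ g)
  obtain ⟨z, hz⟩ := Cfsg.Agent.Char.exists_int_of_isIntegral (hq ▸ IsCharacter.isIntegral h g)
  exact ⟨z, by rw [hq, hz]; simp⟩

end Cfsg.Agent.DegreePTwo
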