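import Cfsg.Agent.Lib.DegreePTwo.Chars
import Cfsg.Agent.Lib.DegreePTwo.Square

/-! Groups whose principal `p`-block has characters `1`, `θ` of degree `p - 1` and `(p - 1) / 2`
exceptional characters of degree `p - 2`. -/

set_option autoImplicit false
set_option linter.style.haveILetI false

namespace Cfsg.Agent.DegreePTwo

open Cfsg Cfsg.Agent.Char
open scoped ComplexConjugate

universe u

variable {G : Type u} [Group G] [Fintype G] {p : ℕ} {one θ : IrrCharacter G}
  {Y : Finset (IrrCharacter G)}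

/-- The principal block data. -/
structure Blk (p : ℕ) (one θ : IrrCharacter G) (Y : Finset (IrrCharacter G)) : Prop where
  prime : p.Prime
  five : 5 ≤ p
  sylow : ∀ P : Sylow p G, Nat.card (P : Subgroup G) = p
  normalizer : ∀ P : Sylow p G, Nat.card (Subgroup.normalizer ((P : Subgroup G) : Set G)) = 2 * p
  card_centralizer : ∀ x : G, orderOf x = p → Nat.card (Subgroup.centralizer ({x} : Set G)) = p
  one_apply : ∀ g, (one : G → ℂ) g = 1
  ne : one ≠ θ
  one_notMem : one ∉ Y
  th_notMem : θ ∉ Y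
  card_Y : Y.card = (p - 1) / 2
  deg : (θ : G → ℂ) 1 = (p : ℂ) - 1
  sing : ∀ g : G, p ∣ orderOf g → (θ : G → ℂ) g = -1
  degY : ∀ χ ∈ Y, (χ : G → ℂ) 1 = (p : ℂ) - 2
  regY : ∀ χ ∈ Y, ∀ g : G, ¬ p ∣ orderOf g → (χ : G → ℂ) g = (θ : G → ℂ) g - 1
  ker : ∀ g : G, (θ : G → ℂ) g = (p : ℂ) - 1 → g = 1

namespace Blk

variable (S : Blk p one θ Y)

include S

/-- A `p`-singular element has order `p`. -/
theorem singular {g : G} (hg : p ∣ orderOf g) : orderOf g = p := by
  have hpow : orderOf (g ^ (orderOf g / p)) = p := orderOf_pow_orderOf_div (orderOf_pos g).ne' hg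
  have hmem : g ∈ Subgroup.centralizer ({g ^ (orderOf g / p)} : Set G) :=
    Subgroup.mem_centralizer_singleton_iff.2 ((Commute.refl g).pow_right _).eq
  have h1 := Subgroup.orderOf_dvd_natCard _ hmem
  rw [S.card_centralizer _ hpow] at h1
  exact Nat.dvd_antisymm h1 hg

/-- The number of `p`-singular elements. -/
theorem card_singular :
    2 * p * Nat.card {g : G // p ∣ orderOf g} = Nat.card G * (p - 1) := by
  classical
  haveI := Fact.mk S.prime
  have hone : ∀ (Q : Sylow p G) (g : G), g ∈ (Q : Subgroup G) → g ≠ 1 →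
      orderOf g = p ∧ Subgroup.zpowers g = (Q : Subgroup G) := by
    intro Q g hgQ hg
    have h1 : orderOf g = p := (S.prime.eq_one_or_self_of_dvd _
      ((S.sylow Q) ▸ Subgroup.orderOf_dvd_natCard _ hgQ)).resolve_left
        (fun h => hg (orderOf_eq_one_iff.1 h))
    refine ⟨h1, Subgroup.eq_of_le_of_card_ge (Subgroup.zpowers_le.2 hgQ) ?_⟩
    rw [S.sylow Q, Nat.card_zpowers, h1]
  let f : (Σ Q : Sylow p G, {g : (Q : Subgroup G) // g ≠ 1}) → {g : G // p ∣ orderOf g} :=
    fun z => ⟨(z.2.1 : G),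
      by rw [(hone z.1 _ z.2.1.2 (fun h => z.2.2 (Subtype.ext h))).1]⟩
  have hf : Function.Bijective f := by
    constructor
    · rintro ⟨Q, g, hg⟩ ⟨Q', g', hg'⟩ h
      have h1 : (g : G) = g' := congrArg Subtype.val h
      have e : Q = Q' := by
        apply Sylow.ext
        rw [← (hone Q _ g.2 fun h => hg (Subtype.ext h)).2,
          ← (hone Q' _ g'.2 fun h => hg' (Subtype.ext h)).2, h1]
      subst e
      have h2 : g = g' := Subtype.ext h1
      subst h2
      rfl
    · rintro ⟨g, hg⟩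
      have h2 := S.singular hg
      have hp : IsPGroup p (Subgroup.zpowers g) :=
        IsPGroup.of_card (n := 1) (by rw [Nat.card_zpowers, h2, pow_one])
      obtain ⟨Q, hQ⟩ := hp.exists_le_sylow
      refine ⟨⟨Q, ⟨g, hQ (Subgroup.mem_zpowers g)⟩, fun h => ?_⟩, rfl⟩
      have : g = 1 := congrArg Subtype.val h
      rw [this, orderOf_one] at h2
      exact S.prime.ne_one h2.symm
  rw [← Nat.card_congr (Equiv.ofBijective f hf), Nat.card_sigma]
  have hfib : ∀ Q : Sylow p G, Nat.card {g : (Q : Subgroup G) // g ≠ 1} = p - 1 := by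
    intro Q
    rw [Nat.card_eq_fintype_card, Fintype.card_subtype_compl, Fintype.card_subtype_eq,
      ← Nat.card_eq_fintype_card, S.sylow Q]
  rw [Finset.sum_congr rfl (fun Q _ => hfib Q), Finset.sum_const, Finset.card_univ, smul_eq_mul,
    ← Nat.card_eq_fintype_card (α := Sylow p G)]
  obtain ⟨Q⟩ : Nonempty (Sylow p G) := inferInstance
  have hidx : (Subgroup.normalizer ((Q : Subgroup G) : Set G)).index * (2 * p) = Nat.card G := by
    rw [← S.normalizer Q, Subgroup.index_mul_card]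
  have hc : Nat.card (Sylow p G) = (Subgroup.normalizer ((Q : Subgroup G) : Set G)).index :=
    Sylow.card_eq_index_normalizer Q
  rw [hc, ← hidx]
  ring

theorem sum_singular [DecidablePred fun g : G => p ∣ orderOf g] :
    (p : ℂ) * ((Finset.univ.filter fun g : G => p ∣ orderOf g).card : ℂ) =
      (((p - 1) / 2 : ℕ) : ℂ) * (Nat.card G : ℂ) := by
  have h := S.card_singular
  rw [Nat.card_eq_fintype_card (α := {g : G // p ∣ orderOf g}), Fintype.card_subtype] at h
  have h2 : (p - 1) = 2 * ((p - 1) / 2) := by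
    have := S.five
    obtain ⟨r, hr⟩ := S.prime.odd_of_ne_two (by omega)
    omega
  rw [h2] at h
  have h3 : p * (Finset.univ.filter fun g : G => p ∣ orderOf g).card =
      (p - 1) / 2 * Nat.card G := by
    refine Nat.eq_of_mul_eq_mul_left (show 0 < 2 by norm_num) ?_
    rw [← mul_assoc, h]
    ring
  exact_mod_cast h3

/-- Other characters vanish on singular elements. -/
theorem vanishing :
    ∀ ψ : IrrCharacter G, ψ ≠ one → ψ ≠ θ → ψ ∉ Y → ∀ g : G, p ∣ orderOf g → (ψ : G → ℂ) g = 0 := by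
  classical
  suffices hzero : ∀ ψ : IrrCharacter G, ψ ∉ insert one (insert θ Y) →
      ∀ g : G, p ∣ orderOf g → (ψ : G → ℂ) g = 0 from
    fun ψ h1 h2 h3 => hzero ψ (by simp [h1, h2, h3])
  have hp2 : p ≠ 2 := by have := S.five; omega
  have hne1 : θ ≠ one := S.ne.symm
  have h1B : one ∉ insert θ Y := by simp [S.ne, S.one_notMem]
  set B : Finset (IrrCharacter G) := insert one (insert θ Y) with hB
  have m1 : ∑ g : G, (θ : G → ℂ) g = 0 := by
    have h := sum_irr θ one
    rw [if_neg hne1] at h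
    simpa [S.one_apply] using h
  set T : Finset G := Finset.univ.filter fun g : G => p ∣ orderOf g with hT
  have hsp := S.sum_singular
  rw [← hT] at hsp
  have hcol : ∀ g ∈ T, ∑ ψ : IrrCharacter G, (ψ : G → ℂ) g * conj ((ψ : G → ℂ) g) = (p : ℂ) := by
    intro g hg
    rw [column_orth_of_isConj (IsConj.refl g),
      S.card_centralizer _ (S.singular (Finset.mem_filter.1 hg).2)]
  have hsY : ∀ χ ∈ Y, ∑ g ∈ T, (χ : G → ℂ) g * conj ((χ : G → ℂ) g) =
      4 * (T.card : ℂ) - (Nat.card G : ℂ) := by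
    intro χ hχ
    have hn : ∑ _g : G, (1 : ℂ) = (Nat.card G : ℂ) := by simp [Nat.card_eq_fintype_card]
    have hall : ∑ g : G, (χ : G → ℂ) g * conj ((χ : G → ℂ) g) = (Nat.card G : ℂ) := by
      rw [sum_irr, if_pos rfl]
    have hall' : ∑ g : G, ((θ : G → ℂ) g - 1) * conj ((θ : G → ℂ) g - 1) = 2 * (Nat.card G : ℂ) := by
      have e : ∀ g : G, ((θ : G → ℂ) g - 1) * conj ((θ : G → ℂ) g - 1) =
          (θ : G → ℂ) g * conj ((θ : G → ℂ) g) - ((θ : G → ℂ) g + conj ((θ : G → ℂ) g)) + 1 := fun g => by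
        rw [map_sub, map_one]; ring
      have m1' : ∑ g : G, conj ((θ : G → ℂ) g) = 0 := by rw [← map_sum, m1, map_zero]
      rw [Finset.sum_congr rfl (fun g _ => e g), Finset.sum_add_distrib, Finset.sum_sub_distrib,
        Finset.sum_add_distrib, m1, m1', hn, sum_irr, if_pos rfl]
      ring
    have hdiff : ∑ g : G, ((χ : G → ℂ) g * conj ((χ : G → ℂ) g) -
        ((θ : G → ℂ) g - 1) * conj ((θ : G → ℂ) g - 1)) =
        ∑ g ∈ T, ((χ : G → ℂ) g * conj ((χ : G → ℂ) g) - 4) := by
      rw [hT, Finset.sum_filter]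
      refine Finset.sum_congr rfl fun g _ => ?_
      split_ifs with hg
      · rw [S.sing _ hg]; simp; ring
      · rw [S.regY χ hχ g hg]; ring
    rw [Finset.sum_sub_distrib, Finset.sum_sub_distrib, hall, hall', Finset.sum_const,
      nsmul_eq_mul] at hdiff
    linear_combination -hdiff
  have htot : ∑ ψ ∈ B, ∑ g ∈ T, (ψ : G → ℂ) g * conj ((ψ : G → ℂ) g) = (p : ℂ) * (T.card : ℂ) := by
    have e1 : ∑ g ∈ T, (one : G → ℂ) g * conj ((one : G → ℂ) g) = (T.card : ℂ) := by
      simp [S.one_apply]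
    have e2 : ∑ g ∈ T, (θ : G → ℂ) g * conj ((θ : G → ℂ) g) = (T.card : ℂ) := by
      rw [Finset.card_eq_sum_ones T, Nat.cast_sum]
      refine Finset.sum_congr rfl fun g hg => ?_
      rw [S.sing _ (Finset.mem_filter.1 hg).2]
      norm_num
    rw [hB, Finset.sum_insert h1B, Finset.sum_insert S.th_notMem, e1, e2, Finset.sum_congr rfl hsY,
      Finset.sum_const, S.card_Y, nsmul_eq_mul]
    have hh : (2 : ℂ) * (((p - 1) / 2 : ℕ) : ℂ) + 1 = (p : ℂ) := by
      obtain ⟨r, hr⟩ := S.prime.odd_of_ne_two hp2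
      have : 2 * ((p - 1) / 2) + 1 = p := by omega
      exact_mod_cast this
    linear_combination hsp + 2 * (T.card : ℂ) * hh
  have hrest : ∑ ψ ∈ Finset.univ \ B, ∑ g ∈ T, (ψ : G → ℂ) g * conj ((ψ : G → ℂ) g) = 0 := by
    have h := Finset.sum_sdiff (Finset.subset_univ B)
      (f := fun ψ : IrrCharacter G => ∑ g ∈ T, (ψ : G → ℂ) g * conj ((ψ : G → ℂ) g))
    rw [Finset.sum_comm (s := Finset.univ), Finset.sum_congr rfl hcol, Finset.sum_const,
      nsmul_eq_mul] at h
    linear_combination h - htot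
  intro ψ hψ g hg
  have hr : ∑ ψ ∈ Finset.univ \ B, ∑ g ∈ T, Complex.normSq ((ψ : G → ℂ) g) = 0 := by
    apply Complex.ofReal_injective
    push_cast
    rw [← hrest]
    exact Finset.sum_congr rfl fun _ _ => Finset.sum_congr rfl fun g _ => (Complex.mul_conj _).symm
  have h' := (Finset.sum_eq_zero_iff_of_nonneg
    (fun _ _ => Finset.sum_nonneg fun _ _ => Complex.normSq_nonneg _)).1 hr ψ (by simp [hψ])
  exact Complex.normSq_eq_zero.1 ((Finset.sum_eq_zero_iff_of_nonneg
    (fun _ _ => Complex.normSq_nonneg _)).1 h' g (Finset.mem_filter.2 ⟨Finset.mem_univ _, hg⟩))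

end Blk

end Cfsg.Agent.DegreePTwo
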