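import Cfsg.Agent.Lib.DegreePTwo.BlkSquare

/-! The order of the group and the centralizers of involutions. -/

set_option autoImplicit false
set_option linter.style.haveILetI false

namespace Cfsg.Agent.DegreePTwo

open Cfsg Cfsg.Agent.Char
open scoped ComplexConjugate

universe u

/-- The arithmetic of the count. -/
theorem count_arith {p G s I c N1 N' N2 m : ℤ} (hp : 5 ≤ p) (hc : 2 ≤ c) (hN2 : N2 = m * I)
    (hm : p ≠ 5 → m = 0) (hm0 : 0 ≤ m) (hI : I * c = G) (hG : G * (p - 1) = p * (c * c) * (p - 2))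
    (hs : 2 * p * s = (p - 1) * G)
    (h0 : 1 + s + I + N1 + N' + N2 = G) (h1 : p - 1 - s + N1 + (p - 2) * N' + 2 * N2 = 0)
    (h2 : (p - 1) ^ 2 + s + N1 + (p - 2) ^ 2 * N' + 4 * N2 = G) :
    c = p - 1 ∧ m = 0 ∧ N' = 0 := by
  set n := p - 1 with hn
  have hp0 : p ≠ 0 := by omega
  have hQ : G - 2 * s = I * c - 2 * s := by rw [hI]
  -- multiply through by `p`
  have e1 : p * ((n - 1) * (n - 2) * N' + 2 * N2) = G - p * n * (n - 1) := by
    linear_combination p * h2 - p * h1 - hs
  have e2 : p * (n * I) * (n - 1) = n * n * G - p * n * (n - 1) + p * (n - 3) * n * N2 := by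
    have : p * (I * (n - 1)) = n * G - p * (n - 1) + p * (n - 3) * N2 := by
      linear_combination p * (n - 1) * h0 - p * (n - 1) * h1 + e1 - (n - 1) * hs
    linear_combination n * this
  have key : p * ((n - 1) * (n * I - n * (c * c - 1)) - (n - 3) * n * N2) = 0 := by
    linear_combination e2 + n * hG
  have key' : (n - 1) * (n * I - n * (c * c - 1)) - (n - 3) * n * N2 = 0 :=
    (mul_eq_zero.1 key).resolve_left hp0
  have hIc : n * I = p * c * (n - 1) := by
    refine mul_right_cancel₀ (show c ≠ 0 by omega) ?_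
    linear_combination n * hI + hG
  by_cases h5 : p = 5
  · subst h5
    norm_num [hn] at hIc key' hN2 ⊢
    have h4 : 45 * c - 12 * (c * c - 1) - 15 * (c * m) = 0 := by
      subst hN2
      have : 4 * I = 15 * c := by linarith
      linear_combination key' - (3 - m) * this
    have hcd : c ∣ 12 := ⟨12 * c - 45 + 15 * m, by linear_combination h4⟩
    have hc12 : c ≤ 12 := Int.le_of_dvd (by norm_num) hcd
    have e1' : 5 * (6 * N' + 2 * N2) = G - 60 := by linear_combination e1
    interval_cases c <;> first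
      | omega
      | (refine ⟨rfl, by omega, ?_⟩; omega)
  · have hm' := hm h5
    subst hm'
    rw [zero_mul] at hN2
    subst hN2
    have k1 : (n - 1) * (n * I - n * (c * c - 1)) = 0 := by linear_combination key'
    have k2 : n * I - n * (c * c - 1) = 0 := (mul_eq_zero.1 k1).resolve_left (by omega)
    have k3 : (c - n) * (n * c + 1) = 0 := by linear_combination -k2 + hIc
    have hcn : c = n := by
      rcases mul_eq_zero.1 k3 with h | h
      · omega
      · nlinarith
    refine ⟨hcn, rfl, ?_⟩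
    have hG' : G = p * n * (n - 1) := by
      refine mul_right_cancel₀ (show n ≠ 0 by omega) ?_
      subst hcn
      linear_combination hG
    have k4 : p * ((n - 1) * (n - 2)) * N' = 0 := by linear_combination e1 + hG'
    exact (mul_eq_zero.1 k4).resolve_left
      (mul_ne_zero hp0 (mul_ne_zero (by omega) (by omega)))

variable {G : Type u} [Group G] [Fintype G] {p : ℕ} {one θ : IrrCharacter G}
  {Y : Finset (IrrCharacter G)}

namespace Blk

variable (S : Blk p one θ Y)

include S

/-- The pairs counted by the class multiplication formula. -/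
theorem card_pairs {x v : G} (hx : orderOf x = p) (hv : orderOf v = 2) (hvx : v * x * v⁻¹ = x⁻¹)
    [DecidablePred fun j : G => IsConj (j⁻¹ * v * j * v) x] :
    (Finset.univ.filter fun j : G => IsConj (j⁻¹ * v * j * v) x).card =
      Nat.card (Subgroup.centralizer ({v} : Set G)) * Nat.card (Subgroup.centralizer ({v} : Set G)) := by
  classical
  set C := Subgroup.centralizer ({v} : Set G) with hC
  have hv2 : v * v = 1 := by rw [← sq, ← hv]; exact pow_orderOf_eq_one _
  have hvi : v⁻¹ = v := inv_eq_of_mul_eq_one_right hv2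
  have hCx : Subgroup.centralizer ({x} : Set G) = Subgroup.zpowers x := by
    refine (Subgroup.eq_of_le_of_card_ge ?_ ?_).symm
    · rw [Subgroup.zpowers_le, Subgroup.mem_centralizer_singleton_iff]
    · rw [S.card_centralizer _ hx, Nat.card_zpowers, hx]
  set z₀ := x ^ ((p + 1) / 2) with hz₀
  have hzz : z₀ * z₀ = x := by
    rw [hz₀, ← pow_add]
    have := S.two_half
    rw [show (p + 1) / 2 + (p + 1) / 2 = p + 1 by omega, pow_succ, ← hx, pow_orderOf_eq_one, one_mul]
  have hvz : v * z₀⁻¹ = z₀ * v := by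
    have e : v * z₀ * v⁻¹ = z₀⁻¹ := by rw [hz₀, ← conj_pow, hvx, inv_pow]
    calc v * z₀⁻¹ = (v * z₀ * v⁻¹)⁻¹ * v := by group
      _ = z₀ * v := by rw [e, inv_inv]
  -- the product of the conjugate with `v`
  have hprod : ∀ h k : C, ((h : G) * ((k : G) * z₀ * (k : G)⁻¹)⁻¹)⁻¹ * v *
      ((h : G) * ((k : G) * z₀ * (k : G)⁻¹)⁻¹) * v = (k : G) * x * (k : G)⁻¹ := by
    intro h k
    have hh : (h : G)⁻¹ * v * h = v := by
      rw [mul_assoc, ← Subgroup.mem_centralizer_singleton_iff.1 h.2, inv_mul_cancel_left]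
    have hk : (k : G)⁻¹ * v * k = v := by
      rw [mul_assoc, ← Subgroup.mem_centralizer_singleton_iff.1 k.2, inv_mul_cancel_left]
    calc _ = (k : G) * z₀ * (k : G)⁻¹ * ((h : G)⁻¹ * v * h) * ((k : G) * z₀⁻¹ * (k : G)⁻¹) * v := by group
      _ = (k : G) * z₀ * ((k : G)⁻¹ * v * k) * z₀⁻¹ * (k : G)⁻¹ * v := by rw [hh]; group
      _ = (k : G) * (z₀ * (v * z₀⁻¹)) * (k : G)⁻¹ * v := by rw [hk]; group
      _ = (k : G) * (z₀ * z₀) * (v * (k : G)⁻¹ * v) := by rw [hvz]; group
      _ = (k : G) * x * (k : G)⁻¹ := by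
        rw [hzz]
        congr 1
        calc v * (k : G)⁻¹ * v = ((k : G)⁻¹ * v * k) * (k : G)⁻¹ * v := by rw [hk]
          _ = (k : G)⁻¹ * (v * v) := by group
          _ = (k : G)⁻¹ := by rw [hv2, mul_one]
  let F : C × C → {j : G // j ∈ Finset.univ.filter fun j : G => IsConj (j⁻¹ * v * j * v) x} := fun hk =>
    ⟨(hk.1 : G) * ((hk.2 : G) * z₀ * (hk.2 : G)⁻¹)⁻¹, by
      rw [Finset.mem_filter, hprod hk.1 hk.2]
      exact ⟨Finset.mem_univ _, (isConj_iff.2 ⟨(hk.2 : G), rfl⟩).symm⟩⟩
  have hF : Function.Bijective F := by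
    constructor
    · rintro ⟨h, k⟩ ⟨h', k'⟩ e
      have e' : (h : G) * ((k : G) * z₀ * (k : G)⁻¹)⁻¹ = (h' : G) * ((k' : G) * z₀ * (k' : G)⁻¹)⁻¹ :=
        congrArg Subtype.val e
      have e2 : (k : G) * x * (k : G)⁻¹ = (k' : G) * x * (k' : G)⁻¹ := by
        rw [← hprod h k, ← hprod h' k', e']
      have hmem : (k' : G)⁻¹ * k ∈ Subgroup.centralizer ({x} : Set G) := by
        rw [Subgroup.mem_centralizer_singleton_iff]
        calc (k' : G)⁻¹ * k * x = (k' : G)⁻¹ * ((k : G) * x * (k : G)⁻¹) * k := by group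
          _ = x * ((k' : G)⁻¹ * k) := by rw [e2]; group
      have hkk : (k' : G)⁻¹ * k = 1 := by
        by_contra hne
        have hz : (k' : G)⁻¹ * k ∈ Subgroup.zpowers x := hCx ▸ hmem
        have ho : orderOf ((k' : G)⁻¹ * k) = p := (S.prime.eq_one_or_self_of_dvd _
          (hx ▸ orderOf_dvd_of_mem_zpowers hz)).resolve_left fun h => hne (orderOf_eq_one_iff.1 h)
        have hvk : v ∈ Subgroup.centralizer ({(k' : G)⁻¹ * k} : Set G) := by
          have hCk : (k' : G)⁻¹ * k ∈ C := C.mul_mem (C.inv_mem k'.2) k.2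
          rw [Subgroup.mem_centralizer_singleton_iff]
          exact (Subgroup.mem_centralizer_singleton_iff.1 hCk).symm
        have hd := Subgroup.orderOf_dvd_natCard _ hvk
        rw [hv, S.card_centralizer _ ho] at hd
        have := (Nat.prime_dvd_prime_iff_eq Nat.prime_two S.prime).1 hd
        have := S.five
        omega
      have hk' : k = k' := Subtype.ext (inv_mul_eq_one.1 hkk).symm
      subst hk'
      have hh' : h = h' := Subtype.ext (mul_right_cancel e')
      rw [hh']
    · rintro ⟨j, hj⟩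
      obtain ⟨g, hg⟩ := isConj_iff.1 (Finset.mem_filter.1 hj).2.symm
      set u := j⁻¹ * v * j with hu
      have hu2 : u * u = 1 := by
        calc u * u = j⁻¹ * (v * v) * j := by rw [hu]; group
          _ = 1 := by rw [hv2]; group
      have hui : u⁻¹ = u := inv_eq_of_mul_eq_one_right hu2
      have hB : g⁻¹ * v * g * x * (g⁻¹ * v * g)⁻¹ = x⁻¹ := by
        calc g⁻¹ * v * g * x * (g⁻¹ * v * g)⁻¹ = g⁻¹ * (v * (g * x * g⁻¹) * v⁻¹) * g := by group
          _ = g⁻¹ * (v⁻¹ * u⁻¹) * g := by rw [hg, hui, hvi]; simp only [mul_assoc, hv2, mul_one]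
          _ = g⁻¹ * (u * v)⁻¹ * g := by rw [mul_inv_rev u v]
          _ = x⁻¹ := by rw [← hg]; group
      obtain ⟨z, hzx, hz⟩ := S.conj_inverting hx hv hvx hB
      have hkC : g * z ∈ C := by
        rw [hC, Subgroup.mem_centralizer_singleton_iff]
        calc g * z * v = g * (z * v * z⁻¹) * z := by group
          _ = v * (g * z) := by rw [← hz]; group
      have hzcomm : z * x = x * z := by
        obtain ⟨i, rfl⟩ := hzx
        exact ((Commute.refl x).zpow_left i).eq
      have hkx : g * z * x * (g * z)⁻¹ = u * v := by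
        calc g * z * x * (g * z)⁻¹ = g * (z * x) * z⁻¹ * g⁻¹ := by group
          _ = g * x * g⁻¹ := by rw [hzcomm]; group
          _ = u * v := hg
      set Z := g * z * z₀ * (g * z)⁻¹ with hZ
      have hZv : Z * v * Z⁻¹ = u := by
        have hk : (g * z)⁻¹ * v * (g * z) = v := by
          rw [mul_assoc, ← Subgroup.mem_centralizer_singleton_iff.1 hkC, inv_mul_cancel_left]
        calc Z * v * Z⁻¹ = (g * z) * z₀ * ((g * z)⁻¹ * v * (g * z)) * z₀⁻¹ * (g * z)⁻¹ := by
              rw [hZ]; group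
          _ = (g * z) * (z₀ * (v * z₀⁻¹)) * (g * z)⁻¹ := by rw [hk]; group
          _ = (g * z) * (z₀ * z₀) * ((g * z)⁻¹ * ((g * z) * v * (g * z)⁻¹)) := by rw [hvz]; group
          _ = (g * z) * x * (g * z)⁻¹ * v := by
              rw [hzz, show (g * z) * v * (g * z)⁻¹ = v by
                rw [Subgroup.mem_centralizer_singleton_iff.1 hkC, mul_inv_cancel_right]]
              group
          _ = u := by rw [hkx, mul_assoc, hv2, mul_one]
      have hhC : j * Z ∈ C := by
        rw [hC, Subgroup.mem_centralizer_singleton_iff]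
        calc j * Z * v = j * (Z * v * Z⁻¹) * Z := by group
          _ = v * (j * Z) := by rw [hZv, hu]; group
      refine ⟨(⟨j * Z, hhC⟩, ⟨g * z, hkC⟩), Subtype.ext ?_⟩
      change j * Z * Z⁻¹ = j
      group
  have := Nat.card_congr (Equiv.ofBijective F hF)
  rw [Nat.card_prod] at this
  refine Eq.trans ?_ this.symm
  rw [Nat.card_eq_fintype_card, Fintype.card_coe]

/-- The centralizer of an involution is elementary abelian of order `p - 1`, and the group has
order `p (p - 1) (p - 2)`. -/
theorem main : Nat.card G = p * (p - 1) * (p - 2) ∧ ∀ v : G, orderOf v = 2 →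
    Nat.card (Subgroup.centralizer ({v} : Set G)) = p - 1 ∧
      ∀ y ∈ Subgroup.centralizer ({v} : Set G), y * y = 1 := by
  classical
  have h5 := S.five
  obtain ⟨x, v₀, hx, hv₀, hvx⟩ := S.exists_pair
  have hxs : p ∣ orderOf x := by rw [hx]
  set C := Subgroup.centralizer ({v₀} : Set G) with hC
  set c := Nat.card C with hc
  set R : Finset G := Finset.univ.filter fun g => ¬ p ∣ orderOf g ∧ g ≠ 1 ∧ orderOf g ≠ 2 with hR
  set I : Finset G := Finset.univ.filter fun g => orderOf g = 2 with hIdef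
  set T : Finset G := Finset.univ.filter fun g => p ∣ orderOf g with hT
  set R1 : Finset G := R.filter fun g => S.val g = 1 with hR1
  set R' : Finset G := R.filter fun g => S.val g = (p : ℤ) - 2 with hR'
  set R2 : Finset G := R.filter fun g => S.val g = 2 ∧ p = 5 with hR2
  have hval : ∀ g ∈ R, S.val g = 1 ∨ S.val g = (p : ℤ) - 2 ∨ (p = 5 ∧ S.val g = 2 ∧ orderOf (g * g) = 2) := by
    intro g hg
    obtain ⟨hreg, hg1, hg2⟩ := (Finset.mem_filter.1 hg).2
    rcases S.val_cases hreg with h | h | h | h | h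
    · exfalso
      haveI := Fact.mk Nat.prime_two
      exact hg2 (orderOf_eq_prime (by rw [sq]; exact S.sq_eq_one_of_val hreg h) hg1)
    · exact Or.inl h
    · exact Or.inr (Or.inl h)
    · exact absurd h hg1
    · exact Or.inr (Or.inr h)
  have hsum : ∀ F : ℤ → ℤ, ∑ g : G, F (S.val g) = F ((p : ℤ) - 1) + (T.card : ℤ) * F (-1) +
      (I.card : ℤ) * F 0 + (R1.card : ℤ) * F 1 + (R'.card : ℤ) * F ((p : ℤ) - 2) + (R2.card : ℤ) * F 2 := by
    intro F
    have hpt : ∀ g : G, F (S.val g) = (if g = 1 then F ((p : ℤ) - 1) else 0) +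
        (if g ∈ T then F (-1) else 0) + (if g ∈ I then F 0 else 0) + (if g ∈ R1 then F 1 else 0) +
        (if g ∈ R' then F ((p : ℤ) - 2) else 0) + (if g ∈ R2 then F 2 else 0) := by
      intro g
      by_cases hg1 : g = 1
      · subst hg1
        simp [hT, hIdef, hR1, hR', hR2, hR, S.val_one, S.prime.ne_one]
      by_cases hgT : p ∣ orderOf g
      · have : ¬ orderOf g = 2 := fun h => S.not_singular_two h hgT
        simp [hT, hIdef, hR1, hR', hR2, hR, hg1, hgT, this, S.val_singular hgT]
      by_cases hg2 : orderOf g = 2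
      · simp [hT, hIdef, hR1, hR', hR2, hR, hg1, hg2, S.val_invol hg2, show ¬ p ∣ 2 from hg2 ▸ hgT]
      have hgR : g ∈ R := by simp [hR, hg1, hgT, hg2]
      rcases hval g hgR with h | h | ⟨h, h', -⟩
      · simp [hT, hIdef, hR1, hR', hR2, hg1, hgT, hg2, hgR, h, show (1 : ℤ) ≠ (p : ℤ) - 2 by omega]
      · have e1 : (p : ℤ) - 2 ≠ 1 := by omega
        have e2 : ¬ ((p : ℤ) - 2 = 2 ∧ p = 5) := by omega
        simp only [hT, hIdef, hR1, hR', hR2, Finset.mem_filter, Finset.mem_univ, true_and, hgR, hg1,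
          hgT, hg2, h, e1, e2, if_false, if_true, zero_add, add_zero]
      · subst h
        simp [hT, hIdef, hR1, hR', hR2, hg1, hgT, hg2, hgR, h']
    rw [Finset.sum_congr rfl (fun g _ => hpt g)]
    simp only [Finset.sum_add_distrib, Finset.sum_ite_eq', Finset.mem_univ, if_true,
      Finset.sum_ite_mem, Finset.univ_inter, Finset.sum_const, nsmul_eq_mul]
  have h0 := hsum fun _ => 1
  have h1 := hsum fun z => z
  have h2 := hsum fun z => z ^ 2
  simp only [Finset.sum_const, Finset.card_univ, nsmul_eq_mul, mul_one, mul_zero, add_zero,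
    zero_pow two_ne_zero] at h0 h1 h2
  have e1 : ∑ g : G, S.val g = 0 := by
    have h : ((∑ g : G, S.val g : ℤ) : ℂ) = ((0 : ℤ) : ℂ) := by
      rw [Int.cast_sum, Int.cast_zero]
      simp only [← S.val_spec]
      exact S.sum_th
    exact_mod_cast h
  have e2 : ∑ g : G, S.val g ^ 2 = (Nat.card G : ℤ) := by
    have h : ((∑ g : G, S.val g ^ 2 : ℤ) : ℂ) = (((Nat.card G : ℕ) : ℤ) : ℂ) := by
      rw [Int.cast_sum, Int.cast_natCast]
      have hθ := sum_irr θ θ
      rw [if_pos rfl] at hθ
      rw [← hθ]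
      refine Finset.sum_congr rfl fun g _ => ?_
      rw [Int.cast_pow, S.conj_th, S.val_spec]
      ring
    exact_mod_cast h
  rw [e1] at h1
  rw [e2] at h2
  have hGc : (Fintype.card G : ℤ) = (Nat.card G : ℤ) := by rw [Nat.card_eq_fintype_card]
  rw [hGc] at h0
  have hsT : 2 * p * T.card = Nat.card G * (p - 1) := by
    have h := S.card_singular
    rwa [Nat.card_eq_fintype_card (α := {g : G // p ∣ orderOf g}), Fintype.card_subtype, ← hT] at h
  have hfib : ∀ {u : G}, orderOf u = 2 → ∀ (P : G → Prop) [DecidablePred P],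
      (∀ a b : G, P (a * b * a⁻¹) ↔ P b) →
      (Finset.univ.filter fun g => g * g = u ∧ P g).card =
        (Finset.univ.filter fun g => g * g = v₀ ∧ P g).card := by
    intro u hu P _ hP
    obtain ⟨g, rfl⟩ := isConj_iff.1 (S.isConj_involutions hv₀ hu)
    refine (Finset.card_equiv (MulAut.conj g).toEquiv fun a => ?_).symm
    simp only [Finset.mem_filter, Finset.mem_univ, true_and, MulEquiv.toEquiv_eq_coe,
      MulEquiv.coe_toEquiv, MulAut.conj_apply, hP g a]
    constructor
    · rintro ⟨h, h'⟩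
      exact ⟨by rw [← h]; group, h'⟩
    · rintro ⟨h, h'⟩
      refine ⟨?_, h'⟩
      have := congrArg (fun t => g⁻¹ * t * g) h
      simp only [mul_assoc, inv_mul_cancel_left, inv_mul_cancel, mul_one] at this
      exact this
  have hIc : I.card * c = Nat.card G := by
    rw [Nat.card_eq_fintype_card (α := G), ← Finset.card_univ,
      Finset.card_eq_sum_card_fiberwise (s := (Finset.univ : Finset G)) (f := fun g : G => g * v₀ * g⁻¹) (t := I) (fun g _ => by
        have := MulEquiv.orderOf_eq (MulAut.conj g) v₀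
        rw [MulAut.conj_apply, hv₀] at this
        simp [hIdef, this])]
    refine Eq.trans ?_ (Finset.sum_congr rfl (g := fun _ => c) (fun u hu => ?_)).symm
    · rw [Finset.sum_const, smul_eq_mul]
    obtain ⟨g, rfl⟩ := isConj_iff.1 (S.isConj_involutions hv₀ (Finset.mem_filter.1 hu).2)
    rw [hc, Nat.card_eq_fintype_card, ← Fintype.card_coe]
    refine Fintype.card_congr
      { toFun := fun a => ⟨g⁻¹ * a.1, ?_⟩
        invFun := fun k => ⟨g * k.1, ?_⟩
        left_inv := fun a => by simp
        right_inv := fun k => by simp }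
    · rw [hC, Subgroup.mem_centralizer_singleton_iff]
      have := (Finset.mem_filter.1 a.2).2
      calc g⁻¹ * a.1 * v₀ = g⁻¹ * (a.1 * v₀ * a.1⁻¹) * a.1 := by group
        _ = v₀ * (g⁻¹ * a.1) := by rw [this]; group
    · rw [Finset.mem_filter]
      refine ⟨Finset.mem_univ _, ?_⟩
      calc g * k.1 * v₀ * (g * k.1)⁻¹ = g * (k.1 * v₀) * k.1⁻¹ * g⁻¹ := by group
        _ = g * v₀ * g⁻¹ := by rw [Subgroup.mem_centralizer_singleton_iff.1 k.2]; group
  obtain ⟨m, hN2, hm⟩ : ∃ m : ℕ, R2.card = m * I.card ∧ (p ≠ 5 → m = 0) := by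
    by_cases hp5 : p = 5
    · refine ⟨(Finset.univ.filter fun g => g * g = v₀ ∧ S.val g = 2).card, ?_, fun h => absurd hp5 h⟩
      have hinv : ∀ a b : G, S.val (a * b * a⁻¹) = 2 ↔ S.val b = 2 := by
        intro a b
        have h := IsCharacter.isClassFunction (IsIrrCharacter.isCharacter θ.2) b a
        rw [S.val_spec, S.val_spec, Int.cast_inj] at h
        rw [h]
      rw [Finset.card_eq_sum_card_fiberwise (f := fun g : G => g * g) (t := I) (s := R2) (fun g hg => by
        obtain ⟨hgR, h2', -⟩ := Finset.mem_filter.1 hg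
        rcases hval g hgR with h | h | ⟨-, -, h⟩
        · omega
        · omega
        · simp [hIdef, h]), Finset.sum_congr rfl (g := fun _ =>
            (Finset.univ.filter fun g => g * g = v₀ ∧ S.val g = 2).card) (fun u hu => ?_),
        Finset.sum_const, smul_eq_mul, mul_comm]
      have hu2 := (Finset.mem_filter.1 hu).2
      rw [← hfib hu2 (fun g => S.val g = 2) hinv]
      refine congrArg Finset.card ?_
      ext g
      simp only [hR2, Finset.mem_filter, Finset.mem_univ, true_and]
      refine ⟨fun h => ⟨h.2, h.1.2.1⟩, fun ⟨hgu, h2'⟩ => ⟨⟨?_, h2', hp5⟩, hgu⟩⟩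
      simp only [hR, Finset.mem_filter, Finset.mem_univ, true_and]
      refine ⟨fun hd => ?_, fun e => ?_, fun e => ?_⟩
      · rw [S.val_singular hd] at h2'; omega
      · rw [e, S.val_one] at h2'; omega
      · rw [S.val_invol e] at h2'; omega
    · refine ⟨0, ?_, fun _ => rfl⟩
      rw [zero_mul, Finset.card_eq_zero, hR2, Finset.filter_eq_empty_iff]
      exact fun g _ h => hp5 h.2
  have hcount : Nat.card G * (p - 1) = p * (c * c) * (p - 2) := by
    have h := S.class_count hv₀ hv₀ (x := x) hxs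
    rw [S.card_pairs hx hv₀ hvx, ← hC, ← hc] at h
    have : ((Nat.card G * (p - 1) : ℕ) : ℂ) = ((p * (c * c) * (p - 2) : ℕ) : ℂ) := by
      rw [Nat.cast_mul, Nat.cast_mul, Nat.cast_mul, Nat.cast_sub S.prime.one_le,
        Nat.cast_sub (show 2 ≤ p by omega)]
      push_cast
      push_cast at h
      linear_combination -h
    exact_mod_cast this
  have hc2 : 2 ≤ c := by
    have h := Subgroup.orderOf_dvd_natCard C (x := v₀) (by rw [hC, Subgroup.mem_centralizer_singleton_iff])
    rw [hv₀, ← hc] at h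
    exact Nat.le_of_dvd Nat.card_pos h
  have hsub1 : ((p - 1 : ℕ) : ℤ) = (p : ℤ) - 1 := by omega
  have hsub2 : ((p - 2 : ℕ) : ℤ) = (p : ℤ) - 2 := by omega
  obtain ⟨hcn, hm0, hN'⟩ := count_arith (p := (p : ℤ)) (G := (Nat.card G : ℤ)) (s := (T.card : ℤ))
    (I := (I.card : ℤ)) (c := (c : ℤ)) (N1 := (R1.card : ℤ)) (N' := (R'.card : ℤ)) (N2 := (R2.card : ℤ))
    (m := (m : ℤ)) (by omega) (by omega) (by exact_mod_cast hN2)
    (fun h => by have := hm (fun e => h (by exact_mod_cast e)); exact_mod_cast this) (by omega)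
    (by exact_mod_cast hIc)
    (by
      have : (((Nat.card G * (p - 1) : ℕ)) : ℤ) = ((p * (c * c) * (p - 2) : ℕ) : ℤ) := by rw [hcount]
      push_cast [hsub1, hsub2] at this
      linarith)
    (by
      have : (((2 * p * T.card : ℕ)) : ℤ) = ((Nat.card G * (p - 1) : ℕ) : ℤ) := by rw [hsT]
      push_cast [hsub1] at this
      linarith)
    (by linarith) (by linarith) (by linarith)
  have hc' : c = p - 1 := by omega
  refine ⟨?_, fun v hv => ?_⟩
  · rw [hc'] at hcount
    refine Nat.eq_of_mul_eq_mul_right (show 0 < p - 1 by omega) ?_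
    rw [hcount]
    ring
  have hR'0 : R' = ∅ := Finset.card_eq_zero.1 (by exact_mod_cast hN')
  have hR20 : R2 = ∅ := Finset.card_eq_zero.1 (by rw [hN2, show m = 0 by exact_mod_cast hm0, zero_mul])
  -- the elements of the centralizer
  have hall : ∀ y ∈ C, y * y = 1 := by
    by_contra hne
    have hne' : ∃ y : C, ¬ (y : G) * y = 1 := by
      push Not at hne
      obtain ⟨y, hy, hy'⟩ := hne
      exact ⟨⟨y, hy⟩, hy'⟩
    obtain ⟨k, hk⟩ := exists_sum_subgroup (IsIrrCharacter.isCharacter θ.2) C
    rw [← hc, hc'] at hk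
    have hval' : ∀ y : C, S.val (y : G) =
        (if y = 1 then (p : ℤ) - 1 else 0) + (if (y : G) * y = 1 then 0 else 1) := by
      intro y
      have hyd := Subgroup.orderOf_dvd_natCard C y.2
      rw [← hc, hc'] at hyd
      have hreg : ¬ p ∣ orderOf (y : G) := fun hd => by
        have := Nat.le_of_dvd (by omega) (hd.trans hyd)
        omega
      by_cases h1 : y = 1
      · subst h1; simp [S.val_one]
      rw [if_neg h1, zero_add]
      have h1' : (y : G) ≠ 1 := fun e => h1 (Subtype.ext e)
      haveI := Fact.mk Nat.prime_two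
      split_ifs with h2
      · exact S.val_invol (orderOf_eq_prime (by rw [sq]; exact h2) h1')
      · have hyR : (y : G) ∈ R := by
          simp only [hR, Finset.mem_filter, Finset.mem_univ, true_and]
          exact ⟨hreg, h1', fun e => h2 (by rw [← sq, ← e]; exact pow_orderOf_eq_one _)⟩
        rcases hval _ hyR with h | h | ⟨h, h', -⟩
        · exact h
        · have : (y : G) ∈ R' := Finset.mem_filter.2 ⟨hyR, h⟩
          rw [hR'0] at this; simp at this
        · have : (y : G) ∈ R2 := Finset.mem_filter.2 ⟨hyR, h', h⟩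
          rw [hR20] at this; simp at this
    rw [Finset.sum_congr rfl (g := fun y : C => ((S.val (y : G) : ℤ) : ℂ)) (fun y _ => S.val_spec (y : G)),
      ← Int.cast_sum,
      Finset.sum_congr rfl (fun y _ => hval' y), Finset.sum_add_distrib, Finset.sum_ite_eq',
      if_pos (Finset.mem_univ _), Finset.sum_ite, Finset.sum_const_zero, zero_add, Finset.sum_const,
      nsmul_eq_mul, mul_one] at hk
    set r := (Finset.univ.filter fun y : C => ¬ (y : G) * y = 1).card with hr
    have hk' : p - 1 + r = k * (p - 1) := by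
      have : ((p - 1 + r : ℕ) : ℂ) = ((k * (p - 1) : ℕ) : ℂ) := by
        rw [Nat.cast_mul, ← hk, Nat.cast_add, Nat.cast_sub S.prime.one_le]
        push_cast; ring
      exact_mod_cast this
    have hr0 : 0 < r := by
      obtain ⟨y, hy⟩ := hne'
      exact Finset.card_pos.2 ⟨y, by simp [hy]⟩
    have hrlt : r < p - 1 := by
      rw [hr, ← hc', hc, Nat.card_eq_fintype_card, ← Finset.card_univ]
      exact Finset.card_lt_card (Finset.filter_ssubset.2 ⟨1, Finset.mem_univ _, by simp⟩)
    rcases k with _ | _ | k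
    · omega
    · omega
    · have : (k + 1 + 1) * (p - 1) = k * (p - 1) + (p - 1) + (p - 1) := by ring
      omega
  obtain ⟨g, rfl⟩ := isConj_iff.1 (S.isConj_involutions hv₀ hv)
  have hmap : ∀ y : G, y ∈ Subgroup.centralizer ({g * v₀ * g⁻¹} : Set G) ↔ g⁻¹ * y * g ∈ C := by
    intro y
    rw [hC, Subgroup.mem_centralizer_singleton_iff, Subgroup.mem_centralizer_singleton_iff]
    constructor
    · intro h
      calc g⁻¹ * y * g * v₀ = g⁻¹ * (y * (g * v₀ * g⁻¹)) * g := by group
        _ = v₀ * (g⁻¹ * y * g) := by rw [h]; group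
    · intro h
      calc y * (g * v₀ * g⁻¹) = g * (g⁻¹ * y * g * v₀) * g⁻¹ := by group
        _ = g * v₀ * g⁻¹ * y := by rw [h]; group
  refine ⟨?_, fun y hy => ?_⟩
  · rw [← hc', hc]
    refine Nat.card_congr
      { toFun := fun y => ⟨g⁻¹ * y.1 * g, (hmap y.1).1 y.2⟩
        invFun := fun y => ⟨g * y.1 * g⁻¹, (hmap _).2 (by
          have : g⁻¹ * (g * y.1 * g⁻¹) * g = y.1 := by group
          rw [this]; exact y.2)⟩
        left_inv := fun y => by ext; group
        right_inv := fun y => by ext; group }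
  · have h := hall _ ((hmap y).1 hy)
    calc y * y = g * ((g⁻¹ * y * g) * (g⁻¹ * y * g)) * g⁻¹ := by group
      _ = 1 := by rw [h]; group

end Blk

end Cfsg.Agent.DegreePTwo
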