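import Cfsg.Agent.Lib.DegreePTwo.Blk

/-! The order of a group with block data `1`, `θ`, `Y`, and the centralizers of its involutions. -/

set_option autoImplicit false
set_option linter.style.haveILetI false

namespace Cfsg.Agent.DegreePTwo

open Cfsg Cfsg.Agent.Char
open scoped ComplexConjugate

universe u

/-- The possible values of the character. -/
theorem value_cases {n b b' b'' : ℤ} (hn : 4 ≤ n) (h2 : -n ≤ b ∧ b ≤ n)
    (h2' : -n ≤ b' ∧ b' ≤ n) (h2'' : -n ≤ b'' ∧ b'' ≤ n) (hb : b' = b * b - n * b + n)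
    (hb' : b'' = b' * b' - n * b' + n) :
    b = 0 ∨ b = 1 ∨ b = n - 1 ∨ b = n ∨ (n = 4 ∧ b = 2) := by
  have hneg : 0 ≤ b := by
    by_contra h
    nlinarith [h2'.2, mul_le_mul_of_nonneg_left (show (1 : ℤ) ≤ -b by omega) (show (0 : ℤ) ≤ n by omega)]
  by_contra hc
  simp only [not_or, not_and] at hc
  obtain ⟨h0, h1, hn1, hnn, h4⟩ := hc
  have hb2 : 2 ≤ b ∧ b ≤ n - 2 := by omega
  have hle : b' ≤ 4 - n := by nlinarith [mul_nonneg (sub_nonneg.2 hb2.1) (sub_nonneg.2 hb2.2)]
  by_cases hn4 : n = 4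
  · exact h4 hn4 (by omega)
  · have hb'neg : b' ≤ -1 := by omega
    nlinarith [h2''.2, mul_le_mul_of_nonneg_left (show (1 : ℤ) ≤ -b' by omega) (show (0 : ℤ) ≤ n by omega)]

variable {G : Type u} [Group G] [Fintype G] {p : ℕ} {one θ : IrrCharacter G}
  {Y : Finset (IrrCharacter G)}

theorem sum_subgroup_filter (H : Subgroup G) [Fintype H] [DecidablePred (· ∈ H)] (f : G → ℂ) :
    ∑ x : H, f (x : G) = ∑ g ∈ Finset.univ.filter (· ∈ H), f g :=
  (Finset.sum_subtype (Finset.univ.filter (· ∈ H)) (by simp) f).symm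

namespace Blk

variable (S : Blk p one θ Y)

include S

theorem two_half : 2 * ((p - 1) / 2) + 1 = p := by
  have := S.five
  obtain ⟨r, hr⟩ := S.prime.odd_of_ne_two (by omega)
  omega

theorem not_singular_one : ¬ p ∣ orderOf (1 : G) := by
  rw [orderOf_one]; exact S.prime.not_dvd_one

theorem not_singular_two {g : G} (h : orderOf g = 2) : ¬ p ∣ orderOf g := by
  rw [h]
  intro hd
  have := (Nat.prime_dvd_prime_iff_eq S.prime Nat.prime_two).1 hd
  have := S.five
  omega

/-- An element of order `p`, and an involution inverting it. -/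
theorem exists_pair : ∃ x v : G, orderOf x = p ∧ orderOf v = 2 ∧ v * x * v⁻¹ = x⁻¹ := by
  haveI := Fact.mk S.prime
  obtain ⟨P⟩ : Nonempty (Sylow p G) := inferInstance
  obtain ⟨x, hx⟩ := exists_prime_orderOf_dvd_card' (G := (P : Subgroup G)) p (by rw [S.sylow P])
  have hx' : orderOf (x : G) = p := by rw [Subgroup.orderOf_coe, hx]
  haveI := Fact.mk Nat.prime_two
  obtain ⟨v, hv⟩ := exists_prime_orderOf_dvd_card'
    (G := Subgroup.normalizer ((P : Subgroup G) : Set G)) 2 (by rw [S.normalizer P]; exact Dvd.intro _ rfl)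
  have hv' : orderOf (v : G) = 2 := by rw [Subgroup.orderOf_coe, hv]
  refine ⟨x, v, hx', hv', ?_⟩
  have hzp : Subgroup.zpowers (x : G) = (P : Subgroup G) :=
    Subgroup.eq_of_le_of_card_ge (Subgroup.zpowers_le.2 x.2) (by
      rw [S.sylow P, Nat.card_zpowers, hx'])
  have hmem : (v : G) * x * (v : G)⁻¹ ∈ Subgroup.zpowers (x : G) := by
    rw [hzp]
    exact (Subgroup.mem_normalizer_iff.1 v.2 x).1 x.2
  by_contra hne
  have hv2 : (v : G) * v = 1 := by rw [← sq, ← hv']; exact pow_orderOf_eq_one _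
  set u := (x : G) * ((v : G) * x * (v : G)⁻¹) with hu
  have hu1 : u ≠ 1 := fun h => hne ((eq_inv_of_mul_eq_one_right (hu ▸ h)))
  have huz : u ∈ Subgroup.zpowers (x : G) := Subgroup.mul_mem _ (Subgroup.mem_zpowers _) hmem
  have huo : orderOf u = p := (S.prime.eq_one_or_self_of_dvd _
    (hx' ▸ orderOf_dvd_of_mem_zpowers huz)).resolve_left fun h => hu1 (orderOf_eq_one_iff.1 h)
  have hcomm : Commute (x : G) ((v : G) * x * (v : G)⁻¹) := by
    obtain ⟨i, hi⟩ := hmem
    rw [← hi]
    exact Commute.zpow_right (Commute.refl _) i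
  have hvu : (v : G) ∈ Subgroup.centralizer ({u} : Set G) := by
    refine Subgroup.mem_centralizer_singleton_iff.2 ?_
    have e' : (v : G)⁻¹ = v := inv_eq_of_mul_eq_one_right hv2
    have : u = ((v : G) * x * (v : G)⁻¹) * x := hcomm.eq
    calc (v : G) * u = v * (x * (v * x * (v : G)⁻¹)) := by rw [hu]
      _ = ((v : G) * x * (v : G)⁻¹) * x * v := by rw [e']; simp only [mul_assoc, hv2, mul_one]
      _ = u * v := by rw [this]
  have := Subgroup.orderOf_dvd_natCard _ hvu
  rw [hv', S.card_centralizer _ huo] at this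
  have h2p := (Nat.prime_dvd_prime_iff_eq Nat.prime_two S.prime).1 this
  have := S.five
  omega

/-- The values of `θ` are integers. -/
theorem exists_int (g : G) : ∃ z : ℤ, (θ : G → ℂ) g = (z : ℂ) := by
  refine exists_int_of_fixed (IsIrrCharacter.isCharacter θ.2) (fun σ g => ?_) g
  obtain ⟨x, -, hx, -, -⟩ := S.exists_pair
  let ψ : IrrCharacter G := ⟨fun g => σ ((θ : G → ℂ) g), Cfsg.Agent.CharGalois.IsIrrCharacter.twist θ.2 σ⟩
  have hψ : ∀ g, (ψ : G → ℂ) g = σ ((θ : G → ℂ) g) := fun g => rfl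
  suffices h : ψ = θ by
    rw [← hψ, h]
  have hψ1 : (ψ : G → ℂ) 1 = (p : ℂ) - 1 := by rw [hψ, S.deg, map_sub, map_natCast, map_one]
  by_contra h
  have hne1 : ψ ≠ one := fun e => by
    rw [e, S.one_apply] at hψ1
    have h2 : (p : ℂ) = ((2 : ℕ) : ℂ) := by push_cast; linear_combination -hψ1
    rw [Nat.cast_inj] at h2
    have := S.five
    omega
  have hneY : ψ ∉ Y := fun e => by
    rw [S.degY _ e] at hψ1
    have h2 : ((1 : ℕ) : ℂ) = ((0 : ℕ) : ℂ) := by push_cast; linear_combination -hψ1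
    rw [Nat.cast_inj] at h2
    omega
  have hv := S.vanishing ψ hne1 h hneY x (by rw [hx])
  rw [hψ, S.sing x (by rw [hx]), map_neg, map_one] at hv
  norm_num at hv

theorem conj_th (g : G) : conj ((θ : G → ℂ) g) = (θ : G → ℂ) g := by
  obtain ⟨z, hz⟩ := S.exists_int g
  rw [hz, map_intCast]

theorem sum_th : ∑ g : G, (θ : G → ℂ) g = 0 := by
  classical
  have h := sum_irr θ one
  rw [if_neg S.ne.symm] at h
  simpa [S.one_apply] using h

/-- An involution inverting an element `x` of order `p` is conjugate to any other one by an element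
of `⟨x⟩`. -/
theorem conj_inverting {x v w : G} (hx : orderOf x = p) (hv : orderOf v = 2)
    (hvx : v * x * v⁻¹ = x⁻¹) (hwx : w * x * w⁻¹ = x⁻¹) :
    ∃ z ∈ Subgroup.zpowers x, w = z * v * z⁻¹ := by
  have hC : Subgroup.centralizer ({x} : Set G) = Subgroup.zpowers x := by
    refine (Subgroup.eq_of_le_of_card_ge ?_ ?_).symm
    · rw [Subgroup.zpowers_le, Subgroup.mem_centralizer_singleton_iff]
    · rw [S.card_centralizer _ hx, Nat.card_zpowers, hx]
  have hv2 : v * v = 1 := by rw [← sq, ← hv]; exact pow_orderOf_eq_one _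
  have hmem : w * v ∈ Subgroup.zpowers x := by
    rw [← hC, Subgroup.mem_centralizer_singleton_iff]
    have h1 : v * x = x⁻¹ * v := mul_inv_eq_iff_eq_mul.1 hvx
    have h2 : w * x⁻¹ = x * w := by
      have := congrArg (·⁻¹) hwx
      simp only [mul_inv_rev, inv_inv] at this
      rw [← mul_assoc] at this
      exact mul_inv_eq_iff_eq_mul.1 this
    rw [mul_assoc, h1, ← mul_assoc, h2, mul_assoc]
  obtain ⟨i, hi⟩ := hmem
  simp only at hi
  have hp2 : x ^ (((p + 1) / 2 : ℕ) : ℤ) * x ^ (((p + 1) / 2 : ℕ) : ℤ) = x := by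
    rw [zpow_natCast, ← pow_add]
    have := S.two_half
    rw [show (p + 1) / 2 + (p + 1) / 2 = p + 1 by omega, pow_succ, ← hx, pow_orderOf_eq_one, one_mul]
  refine ⟨x ^ ((((p + 1) / 2 : ℕ) : ℤ) * i), ⟨_, rfl⟩, ?_⟩
  set z := x ^ ((((p + 1) / 2 : ℕ) : ℤ) * i) with hz
  have hzz : z * z = w * v := by
    rw [← hi, hz, zpow_mul, ← ((Commute.refl (x ^ (((p + 1) / 2 : ℕ) : ℤ)))).mul_zpow, hp2]
  have hvz : v * z * v⁻¹ = z⁻¹ := by
    rw [hz, ← conj_zpow, hvx, inv_zpow]
  have e : v * z⁻¹ = z * v := by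
    have := congrArg (·⁻¹) hvz
    simp only [mul_inv_rev, inv_inv] at this
    rw [← mul_assoc] at this
    exact mul_inv_eq_iff_eq_mul.1 this
  rw [mul_assoc, e, ← mul_assoc, hzz, mul_assoc, hv2, mul_one]

/-- Sum of a class function over the normaliser of a Sylow subgroup. -/
theorem sum_normalizer {x v : G} (hx : orderOf x = p) (hv : orderOf v = 2)
    (hvx : v * x * v⁻¹ = x⁻¹) :
    ∃ D : Subgroup G, ∃ _ : Fintype D, Subgroup.zpowers x ≤ D ∧
      ∀ f : G → ℂ, Cfsg.IsClassFunction G f → ∀ c : ℂ, (∀ g, p ∣ orderOf g → f g = c) →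
        ∑ g : D, f (g : G) = f 1 + ((p : ℂ) - 1) * c + (p : ℂ) * f v := by
  classical
  haveI := Fact.mk S.prime
  set D := Subgroup.normalizer ((Subgroup.zpowers x : Subgroup G) : Set G) with hD
  have hZD : Subgroup.zpowers x ≤ D := Subgroup.le_normalizer
  have hzp : IsPGroup p (Subgroup.zpowers x) :=
    IsPGroup.of_card (n := 1) (by rw [Nat.card_zpowers, hx, pow_one])
  obtain ⟨Q, hQ⟩ := hzp.exists_le_sylow
  have hQe : Subgroup.zpowers x = (Q : Subgroup G) :=
    Subgroup.eq_of_le_of_card_ge hQ (by rw [S.sylow Q, Nat.card_zpowers, hx])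
  have hcD : Nat.card D = 2 * p := by
    rw [hD]
    exact (congrArg (fun H : Subgroup G => Nat.card (Subgroup.normalizer (H : Set G))) hQe).trans
      (S.normalizer Q)
  have hvD : v ∈ D := by
    rw [hD, Subgroup.mem_normalizer_iff]
    intro y
    constructor
    · rintro ⟨i, rfl⟩
      refine ⟨-i, ?_⟩
      simp only
      rw [← conj_zpow, hvx, inv_zpow, zpow_neg]
    · rintro ⟨i, hi⟩
      simp only at hi
      refine ⟨-i, ?_⟩
      simp only
      have : y = v⁻¹ * x ^ i * v := by rw [hi]; group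
      have hvx' : v⁻¹ * x * v = x⁻¹ := by
        have := congrArg (fun t => v⁻¹ * t * v) hvx
        simp only [mul_assoc, inv_mul_cancel, mul_one, inv_mul_cancel_left] at this
        calc v⁻¹ * x * v = (v⁻¹ * x⁻¹ * v)⁻¹ := by group
          _ = x⁻¹ := by rw [mul_assoc, ← this]
      rw [this, zpow_neg, ← inv_zpow, ← hvx']
      simpa using conj_zpow (a := v⁻¹) (b := x) (i := i)
  have hidx : (Subgroup.zpowers x).relIndex D = 2 := by
    have h1 := Subgroup.index_mul_card ((Subgroup.zpowers x).subgroupOf D)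
    rw [Nat.card_congr (Subgroup.subgroupOfEquivOfLe hZD).toEquiv, Nat.card_zpowers, hx, hcD] at h1
    exact Nat.eq_of_mul_eq_mul_right S.prime.pos h1
  refine ⟨D, inferInstance, hZD, fun f hf c hc => ?_⟩
  have hvZ : v ∉ Subgroup.zpowers x := fun h => by
    have h1 := (S.prime.eq_one_or_self_of_dvd _ (hx ▸ orderOf_dvd_of_mem_zpowers h))
    have := S.five
    omega
  have hout : ∀ g ∈ D, g ∉ Subgroup.zpowers x → f g = f v := by
    intro g hg hgZ
    have hmul : (⟨g, hg⟩ : D) * ⟨v, hvD⟩ ∈ (Subgroup.zpowers x).subgroupOf D :=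
      (Subgroup.mul_mem_iff_of_index_two hidx).2 (by
        simp only [Subgroup.mem_subgroupOf]
        exact iff_of_false hgZ hvZ)
    have hgv : g * v ∈ Subgroup.zpowers x := hmul
    obtain ⟨i, hi⟩ := hgv
    simp only at hi
    have hgx : g * x * g⁻¹ = x⁻¹ := by
      have e : g = x ^ i * v⁻¹ := by rw [hi]; group
      have hvi : v⁻¹ = v := inv_eq_of_mul_eq_one_right (by rw [← sq, ← hv]; exact pow_orderOf_eq_one _)
      rw [e, hvi]
      calc x ^ i * v * x * (x ^ i * v)⁻¹ = x ^ i * (v * x * v⁻¹) * (x ^ i)⁻¹ := by group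
        _ = x ^ i * x⁻¹ * (x ^ i)⁻¹ := by rw [hvx]
        _ = x⁻¹ := by group
    obtain ⟨z, -, rfl⟩ := S.conj_inverting hx hv hvx hgx
    exact hf v z
  have hin : ∀ g ∈ Subgroup.zpowers x, f g = if g = 1 then f 1 else c := by
    intro g hg
    split_ifs with h1
    · rw [h1]
    · refine hc g ?_
      rw [(S.prime.eq_one_or_self_of_dvd _ (hx ▸ orderOf_dvd_of_mem_zpowers hg)).resolve_left
        fun h => h1 (orderOf_eq_one_iff.1 h)]
  rw [sum_subgroup_filter D f, ← Finset.sum_filter_add_sum_filter_not _ (· ∈ Subgroup.zpowers x),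
    Finset.filter_filter, Finset.filter_filter,
    Finset.sum_congr rfl (fun g hg => hin g (Finset.mem_filter.1 hg).2.2)]
  rw [Finset.sum_congr rfl (fun g (hg : g ∈ Finset.univ.filter fun g => g ∈ D ∧ g ∉ Subgroup.zpowers x) =>
    hout g (Finset.mem_filter.1 hg).2.1 (Finset.mem_filter.1 hg).2.2), Finset.sum_const]
  have hZ : (Finset.univ.filter fun g => g ∈ D ∧ g ∈ Subgroup.zpowers x) =
      Finset.univ.filter fun g => g ∈ Subgroup.zpowers x :=
    Finset.filter_congr fun g _ => ⟨And.right, fun h => ⟨hZD h, h⟩⟩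
  have hcZ : (Finset.univ.filter fun g => g ∈ Subgroup.zpowers x).card = p := by
    rw [← Fintype.card_subtype, ← Nat.card_eq_fintype_card]
    exact (Nat.card_zpowers x).trans hx
  have hcDf : (Finset.univ.filter fun g => g ∈ D).card = 2 * p := by
    rw [← Fintype.card_subtype, ← Nat.card_eq_fintype_card]
    exact hcD
  have hcout : (Finset.univ.filter fun g => g ∈ D ∧ g ∉ Subgroup.zpowers x).card = p := by
    have h := Finset.card_filter_add_card_filter_not
      (s := Finset.univ.filter fun g => g ∈ D) (fun g => g ∈ Subgroup.zpowers x)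
    rw [Finset.filter_filter, Finset.filter_filter, hZ, hcZ, hcDf] at h
    omega
  rw [hZ, hcout, Finset.sum_ite, Finset.sum_const, Finset.sum_const, nsmul_eq_mul, nsmul_eq_mul, nsmul_eq_mul]
  have e1 : ((Finset.univ.filter fun g => g ∈ Subgroup.zpowers x).filter fun g => g = 1) = {1} := by
    ext g
    simp only [Finset.mem_filter, Finset.mem_univ, true_and, Finset.mem_singleton]
    exact ⟨And.right, fun h => ⟨h ▸ Subgroup.one_mem _, h⟩⟩
  have e2 : ((Finset.univ.filter fun g => g ∈ Subgroup.zpowers x).filter fun g => ¬ g = 1).card = p - 1 := by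
    have h := Finset.card_filter_add_card_filter_not
      (s := Finset.univ.filter fun g => g ∈ Subgroup.zpowers x) (fun g => g = 1)
    rw [e1, Finset.card_singleton, hcZ] at h
    omega
  rw [e1, e2, Finset.card_singleton, Nat.cast_sub S.prime.one_le]
  push_cast
  ring

/-- `θ` vanishes at an involution inverting an element of order `p`. -/
theorem th_inverting {x v : G} (hx : orderOf x = p) (hv : orderOf v = 2)
    (hvx : v * x * v⁻¹ = x⁻¹) : (θ : G → ℂ) v = 0 := by
  classical
  obtain ⟨D, _, hle, hsum⟩ := S.sum_normalizer hx hv hvx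
  have hθ := IsIrrCharacter.isCharacter θ.2
  have hZ : ∑ g : Subgroup.zpowers x, (θ : G → ℂ) (g : G) = 0 := by
    rw [← Finset.add_sum_erase _ _ (Finset.mem_univ (1 : Subgroup.zpowers x)),
      Finset.sum_congr rfl (g := fun _ => (-1 : ℂ)) (fun g hg => ?_), Finset.sum_const,
      Finset.card_erase_of_mem (Finset.mem_univ _), Finset.card_univ,
      ← Nat.card_eq_fintype_card, Nat.card_zpowers, hx, nsmul_eq_mul, Nat.cast_sub S.prime.one_le,
      OneMemClass.coe_one, S.deg]
    · push_cast; ring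
    · refine S.sing _ ?_
      rw [Finset.mem_erase] at hg
      rw [Subgroup.orderOf_coe, (S.prime.eq_one_or_self_of_dvd _
        (hx ▸ (Nat.card_zpowers x) ▸ orderOf_dvd_natCard g)).resolve_left
          fun h => hg.1 (orderOf_eq_one_iff.1 h)]
  have h := sum_subgroup_eq_zero hθ hle hZ
  rw [hsum _ (IsCharacter.isClassFunction hθ) (-1) S.sing, S.deg] at h
  have hp : (p : ℂ) ≠ 0 := Nat.cast_ne_zero.2 S.prime.ne_zero
  refine mul_left_cancel₀ hp ?_
  linear_combination h

end Blk

end Cfsg.Agent.DegreePTwo
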