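import Cfsg.Agent.Lib.DegreePTwo.Invol

/-! Groups of prime degree `p` with Sylow normalizer of order `2 p`: three-point stabilisers. -/

set_option autoImplicit false
set_option linter.style.haveILetI false

namespace Cfsg.Agent.DegreePTwo

open MulAction

universe u v

variable {G : Type u} [Group G] [Fintype G] {Ω : Type v} [MulAction G Ω] {p : ℕ}

/-- The points fixed by the stabiliser of a triple. -/
def fixSet (T : Fin 3 ↪ Ω) : Set Ω := {d | ∀ g ∈ stabilizer G T, g • d = d}

omit [Fintype G] in
theorem mem_stab {T : Fin 3 ↪ Ω} {g : G} : g ∈ stabilizer G T ↔ ∀ i, g • T i = T i := by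
  rw [mem_stabilizer_iff]
  exact ⟨fun h i => congrArg (fun f : Fin 3 ↪ Ω => f i) h, fun h => Function.Embedding.ext h⟩

omit [Fintype G] in
theorem self_mem_fixSet (T : Fin 3 ↪ Ω) (i : Fin 3) : T i ∈ fixSet (G := G) T :=
  fun _ hg => mem_stab.1 hg i

/-- A triple from three distinct points. -/
def triple (a b c : Ω) (hab : a ≠ b) (hac : a ≠ c) (hbc : b ≠ c) : Fin 3 ↪ Ω :=
  ⟨![a, b, c], by
    intro i j h
    fin_cases i <;> fin_cases j <;> first | rfl | simp_all⟩

namespace Setup

variable (S : Setup G Ω p)

include S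

theorem exists_smul_triple (T T' : Fin 3 ↪ Ω) : ∃ g : G, g • T = T' :=
  S.three.exists_smul_eq T T'

theorem stab_card_eq (T T' : Fin 3 ↪ Ω) :
    Nat.card (stabilizer G T) = Nat.card (stabilizer G T') := by
  haveI := S.finite_points
  haveI : Fintype Ω := Fintype.ofFinite Ω
  haveI : IsPretransitive G (Fin 3 ↪ Ω) := ⟨S.exists_smul_triple⟩
  have h : ∀ U : Fin 3 ↪ Ω, Nat.card (Fin 3 ↪ Ω) * Nat.card (stabilizer G U) = Nat.card G := fun U => by
    rw [← index_stabilizer_of_transitive G U, Subgroup.index_mul_card]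
  haveI : Nonempty (Fin 3 ↪ Ω) := ⟨T⟩
  exact Nat.eq_of_mul_eq_mul_left Nat.card_pos ((h T).trans (h T').symm)

/-- A triple inside a fixed set has the same fixed set. -/
theorem fixSet_eq {T T' : Fin 3 ↪ Ω} (h : ∀ i, T' i ∈ fixSet (G := G) T) :
    fixSet (G := G) T' = fixSet (G := G) T := by
  have hle : stabilizer G T ≤ stabilizer G T' := fun g hg => mem_stab.2 fun i => h i g hg
  have he : stabilizer G T = stabilizer G T' :=
    Subgroup.eq_of_le_of_card_ge hle (S.stab_card_eq T T').ge
  rw [fixSet, fixSet, he]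

theorem fixSet_ncard (T T' : Fin 3 ↪ Ω) :
    (fixSet (G := G) T).ncard = (fixSet (G := G) T').ncard := by
  obtain ⟨g, rfl⟩ := S.exists_smul_triple T T'
  have : fixSet (G := G) (g • T) = (fun d : Ω => g • d) '' fixSet (G := G) T := by
    ext d
    constructor
    · intro hd
      refine ⟨g⁻¹ • d, fun k hk => ?_, smul_inv_smul g d⟩
      have hk' : g * k * g⁻¹ ∈ stabilizer G (g • T) := by
        rw [mem_stabilizer_iff, mul_smul, mul_smul, inv_smul_smul, mem_stabilizer_iff.1 hk]
      have := hd _ hk'
      rw [mul_smul, mul_smul, smul_eq_iff_eq_inv_smul] at this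
      exact this
    · rintro ⟨e, he, rfl⟩ k hk
      have hk' : g⁻¹ * k * g ∈ stabilizer G T := by
        rw [mem_stabilizer_iff, mul_smul, mul_smul, mem_stabilizer_iff.1 hk, inv_smul_smul]
      have := he _ hk'
      rw [mul_smul, mul_smul, inv_smul_eq_iff] at this
      exact this
  rw [this, Set.ncard_image_of_injective _ (MulAction.injective g)]

theorem stab_odd (T : Fin 3 ↪ Ω) : Odd (Nat.card (stabilizer G T)) := by
  haveI := S.finite_points
  rw [← Nat.not_even_iff_odd]
  intro he
  haveI := Fact.mk Nat.prime_two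
  obtain ⟨s, hs⟩ := exists_prime_orderOf_dvd_card' (G := stabilizer G T) 2 he.two_dvd
  have h1 := S.invol_fix (s := (s : G)) (by rw [Subgroup.orderOf_coe, hs])
  have h2 : Nat.card (Fin 2) ≤ Nat.card (fixedBy Ω (s : G)) := by
    refine Nat.card_le_card_of_injective
      (fun i : Fin 2 => (⟨T (Fin.castSucc i), mem_stab.1 s.2 _⟩ : fixedBy Ω (s : G))) ?_
    intro i j hij
    exact Fin.castSucc_injective _ (T.injective (congrArg Subtype.val hij))
  rw [Nat.card_fin] at h2
  omega

/-- Count of the orbits of a three-point stabiliser. -/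
theorem fixSet_large (T : Fin 3 ↪ Ω) : p + 15 ≤ 4 * (fixSet (G := G) T).ncard := by
  classical
  haveI := S.finite_points
  haveI : Fintype Ω := Fintype.ofFinite Ω
  set E := stabilizer G T with hE
  -- orbits of the stabiliser cover the orbits on quadruples and the three points
  let h : Ω → Quotient (orbitRel G (Fin 4 ↪ Ω)) ⊕ Fin 3 := fun d =>
    if hd : ∃ i, T i = d then Sum.inr hd.choose
    else Sum.inl (Quotient.mk _ ⟨Fin.snoc T d, Fin.snoc_injective_iff.2
      ⟨T.injective, fun ⟨i, hi⟩ => hd ⟨i, hi⟩⟩⟩)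
  have hh : ∀ d e : Ω, orbitRel E Ω d e → h d = h e := by
    intro d e hde
    obtain ⟨k, hk⟩ := orbitRel_apply.1 hde
    change (k : G) • e = d at hk
    have hkT : ∀ i, (k : G) • T i = T i := mem_stab.1 k.2
    by_cases he : ∃ i, T i = e
    · obtain ⟨i, rfl⟩ := he
      rw [hkT] at hk
      rw [hk]
    · have hd : ¬ ∃ i, T i = d := fun ⟨i, hi⟩ =>
        he ⟨i, MulAction.injective (k : G) (show (k : G) • T i = (k : G) • e by rw [hkT, hi, hk])⟩
      simp only [h, dif_neg he, dif_neg hd]
      congr 1
      refine Quotient.sound (orbitRel_apply.2 ⟨(k : G), ?_⟩)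
      refine Function.Embedding.ext fun i => ?_
      refine Fin.lastCases ?_ (fun j => ?_) i
      · change (k : G) • (Fin.snoc T e : Fin 4 → Ω) (Fin.last 3) = (Fin.snoc T d : Fin 4 → Ω) (Fin.last 3)
        rw [Fin.snoc_last, Fin.snoc_last, hk]
      · change (k : G) • (Fin.snoc T e : Fin 4 → Ω) j.castSucc = (Fin.snoc T d : Fin 4 → Ω) j.castSucc
        rw [Fin.snoc_castSucc, Fin.snoc_castSucc, hkT]
  let F : Quotient (orbitRel E Ω) → Quotient (orbitRel G (Fin 4 ↪ Ω)) ⊕ Fin 3 :=
    Quotient.lift h hh
  have hF : Function.Surjective F := by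
    rintro (q | i)
    · induction q using Quotient.ind with | _ U => ?_
      obtain ⟨g, hg⟩ := S.exists_smul_triple
        ((Fin.castSuccEmb).trans U) T
      have hg' : ∀ i : Fin 3, g • U i.castSucc = T i := fun i =>
        congrArg (fun f : Fin 3 ↪ Ω => f i) hg
      refine ⟨Quotient.mk _ (g • U (Fin.last 3)), ?_⟩
      have hd : ¬ ∃ i, T i = g • U (Fin.last 3) := fun ⟨i, hi⟩ => by
        rw [← hg'] at hi
        exact absurd (U.injective (MulAction.injective g hi)) (Fin.castSucc_lt_last i).ne
      change h _ = _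
      simp only [h, dif_neg hd]
      congr 1
      refine Quotient.sound (orbitRel_apply.2 ⟨g, ?_⟩)
      refine Function.Embedding.ext fun i => ?_
      refine Fin.lastCases ?_ (fun j => ?_) i
      · change g • U (Fin.last 3) =
          (Fin.snoc T (g • U (Fin.last 3)) : Fin 4 → Ω) (Fin.last 3)
        rw [Fin.snoc_last]
      · change g • U j.castSucc =
          (Fin.snoc T (g • U (Fin.last 3)) : Fin 4 → Ω) j.castSucc
        rw [Fin.snoc_castSucc, hg']
    · refine ⟨Quotient.mk _ (T i), ?_⟩
      have hd : ∃ j, T j = T i := ⟨i, rfl⟩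
      change h _ = _
      simp only [h, dif_pos hd]
      rw [T.injective hd.choose_spec]
  have hcount : Nat.card (Quotient (orbitRel G (Fin 4 ↪ Ω))) + 3 ≤
      Nat.card (Quotient (orbitRel E Ω)) := by
    have := Nat.card_le_card_of_surjective F hF
    rwa [Nat.card_sum, Nat.card_fin] at this
  -- orbit sizes
  have hsize : 3 * Nat.card (Quotient (orbitRel E Ω)) ≤ 2 * (fixSet (G := G) T).ncard + p := by
    let Orb := Quotient (orbitRel E Ω)
    let sz : Orb → ℕ := fun q => (Finset.univ.filter fun d : Ω => Quotient.mk (orbitRel E Ω) d = q).card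
    have hsum : ∑ q : Orb, sz q = p := by
      rw [← S.card, Nat.card_eq_fintype_card, ← Finset.card_univ]
      exact (Finset.card_eq_sum_card_fiberwise (fun d _ => Finset.mem_univ _)).symm
    have horb : ∀ d : Ω, sz (Quotient.mk _ d) = Nat.card (orbit E d) := by
      intro d
      rw [Nat.card_eq_fintype_card, ← Set.toFinset_card]
      refine congrArg Finset.card ?_
      ext e
      simp only [Finset.mem_filter, Finset.mem_univ, true_and, Set.mem_toFinset]
      rw [Quotient.eq, orbitRel_apply]
    have hfix : ∀ d : Ω, sz (Quotient.mk _ d) = 1 → d ∈ fixSet (G := G) T := by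
      intro d hd g hg
      rw [horb, Nat.card_eq_one_iff_unique] at hd
      haveI := hd.1
      exact congrArg Subtype.val
        (Subsingleton.elim (⟨g • d, ⟨⟨g, hg⟩, rfl⟩⟩ : orbit E d) ⟨d, mem_orbit_self d⟩)
    have hge : ∀ q : Orb, 3 ≤ sz q + (if sz q = 1 then 2 else 0) := by
      intro q
      induction q using Quotient.ind with | _ d => ?_
      have hdvd : Nat.card (orbit E d) ∣ Nat.card E := by
        rw [Nat.card_congr (orbitEquivQuotientStabilizer E d), ← Subgroup.index_eq_card]
        exact Subgroup.index_dvd_card _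
      have hodd : Odd (Nat.card (orbit E d)) := (S.stab_odd T).of_dvd_nat hdvd
      rw [horb]
      obtain ⟨r, hr⟩ := hodd
      split_ifs <;> omega
    have hone : (Finset.univ.filter fun q : Orb => sz q = 1).card ≤ (fixSet (G := G) T).ncard := by
      rw [← Nat.card_coe_set_eq, ← Fintype.card_subtype, ← Nat.card_eq_fintype_card]
      refine Nat.card_le_card_of_injective
        (fun q => (⟨q.1.out, hfix _ (by rw [Quotient.out_eq]; exact q.2)⟩ : fixSet (G := G) T)) ?_
      intro q q' hqq
      exact Subtype.ext (Quotient.out_inj.1 (congrArg Subtype.val hqq))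
    have h := Finset.sum_le_sum (s := Finset.univ) (fun q (_ : q ∈ Finset.univ) => hge q)
    rw [Finset.sum_add_distrib, hsum, Finset.sum_const, Finset.card_univ, smul_eq_mul,
      ← Finset.sum_filter, Finset.sum_const, smul_eq_mul] at h
    rw [Nat.card_eq_fintype_card]
    change 3 * Fintype.card Orb ≤ _
    omega
  have h4 := S.orbits_quadruples
  have := S.five
  obtain ⟨r, hr⟩ := S.prime.odd_of_ne_two (by omega)
  omega

/-- Only the identity fixes three points. -/
theorem stab_triple (T : Fin 3 ↪ Ω) : stabilizer G T = ⊥ := by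
  classical
  haveI := S.finite_points
  haveI : Fintype Ω := Fintype.ofFinite Ω
  haveI := S.faithful
  suffices hall : ∀ d, d ∈ fixSet (G := G) T by
    rw [Subgroup.eq_bot_iff_forall]
    intro g hg
    refine FaithfulSMul.eq_of_smul_eq_smul (α := Ω) fun d => ?_
    rw [one_smul]
    exact hall d g hg
  by_contra hne
  push Not at hne
  obtain ⟨d, hd⟩ := hne
  set a := T 0 with ha
  set B : Finset Ω := (fixSet (G := G) T).toFinset with hB
  have hmemB : ∀ {e}, e ∈ B ↔ e ∈ fixSet (G := G) T := fun {e} => Set.mem_toFinset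
  have haB : a ∈ B := hmemB.2 (self_mem_fixSet T 0)
  have had : a ≠ d := fun h => hd (h ▸ self_mem_fixSet T 0)
  let W : Ω → Finset Ω := fun e =>
    if h : e ∈ B.erase a then
      ((fixSet (G := G) (triple a d e had (Finset.ne_of_mem_erase h).symm
        (fun he => hd (by rw [he]; exact hmemB.1 (Finset.mem_of_mem_erase h))))).toFinset.erase a).erase d
    else ∅
  have hW : ∀ e ∈ B.erase a, (W e).card + 2 = B.card := by
    intro e he
    simp only [W, dif_pos he]
    rw [Finset.card_erase_of_mem, Finset.card_erase_of_mem, Set.toFinset_card,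
      ← Nat.card_eq_fintype_card, Nat.card_coe_set_eq, S.fixSet_ncard _ T, hB, Set.toFinset_card,
      ← Nat.card_eq_fintype_card, Nat.card_coe_set_eq]
    · have := S.fixSet_large T
      omega
    · exact Set.mem_toFinset.2 (self_mem_fixSet _ (0 : Fin 3))
    · refine Finset.mem_erase.2 ⟨had.symm, Set.mem_toFinset.2 (self_mem_fixSet _ (1 : Fin 3))⟩
  have hdisj : (↑(B.erase a) : Set Ω).PairwiseDisjoint W := by
    intro e he e' he' hee
    rw [Finset.mem_coe] at he he'
    change Disjoint (W e) (W e')
    rw [Finset.disjoint_left]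
    intro q hq hq'
    have hea := Finset.ne_of_mem_erase he
    have hea' := Finset.ne_of_mem_erase he'
    simp only [W] at hq hq'
    rw [dif_pos he] at hq
    rw [dif_pos he'] at hq'
    simp only [Finset.mem_erase, Set.mem_toFinset] at hq hq'
    obtain ⟨hqd, hqa, hq⟩ := hq
    obtain ⟨-, -, hq'⟩ := hq'
    have hde : d ≠ e := fun h => hd (h ▸ hmemB.1 (Finset.mem_of_mem_erase he))
    have hde' : d ≠ e' := fun h => hd (h ▸ hmemB.1 (Finset.mem_of_mem_erase he'))
    set U := triple a d q had (Ne.symm hqa) (Ne.symm hqd) with hU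
    have e1 : fixSet (G := G) U = fixSet (G := G) (triple a d e had hea.symm hde) := S.fixSet_eq fun i => by
      fin_cases i
      · exact self_mem_fixSet _ (0 : Fin 3)
      · exact self_mem_fixSet _ (1 : Fin 3)
      · exact hq
    have e2 : fixSet (G := G) U = fixSet (G := G) (triple a d e' had hea'.symm hde') := S.fixSet_eq fun i => by
      fin_cases i
      · exact self_mem_fixSet _ (0 : Fin 3)
      · exact self_mem_fixSet _ (1 : Fin 3)
      · exact hq'
    set V := triple a e e' hea.symm hea'.symm hee with hV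
    have e3 : fixSet (G := G) V = fixSet (G := G) (triple a d e had hea.symm hde) := S.fixSet_eq fun i => by
      fin_cases i
      · exact self_mem_fixSet _ (0 : Fin 3)
      · exact self_mem_fixSet _ (2 : Fin 3)
      · rw [← e1, e2]; exact self_mem_fixSet _ (2 : Fin 3)
    have e4 : fixSet (G := G) V = fixSet (G := G) T := S.fixSet_eq fun i => by
      fin_cases i
      · exact hmemB.1 haB
      · exact hmemB.1 (Finset.mem_of_mem_erase he)
      · exact hmemB.1 (Finset.mem_of_mem_erase he')
    refine hd ?_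
    rw [← e4, e3]
    exact self_mem_fixSet _ (1 : Fin 3)
  have hsub : (B.erase a).biUnion W ⊆ (Finset.univ.erase a).erase d := by
    intro q hq
    obtain ⟨e, he, hqe⟩ := Finset.mem_biUnion.1 hq
    simp only [W] at hqe
    rw [dif_pos he] at hqe
    simp only [Finset.mem_erase, Set.mem_toFinset] at hqe
    simp only [Finset.mem_erase, Finset.mem_univ, and_true]
    exact ⟨hqe.1, hqe.2.1⟩
  have hle := Finset.card_le_card hsub
  rw [Finset.card_biUnion hdisj, Finset.card_erase_of_mem (Finset.mem_erase.2 ⟨had.symm, Finset.mem_univ _⟩),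
    Finset.card_erase_of_mem (Finset.mem_univ _), Finset.card_univ, ← Nat.card_eq_fintype_card, S.card,
    Finset.sum_congr rfl (fun e he => show (W e).card = B.card - 2 by have := hW e he; omega),
    Finset.sum_const, Finset.card_erase_of_mem haB, smul_eq_mul] at hle
  have hl := S.fixSet_large T
  rw [show (fixSet (G := G) T).ncard = B.card by rw [hB, Set.ncard_eq_toFinset_card']] at hl
  obtain ⟨m, hm⟩ : ∃ m, B.card = m + 2 := ⟨B.card - 2, by omega⟩
  rw [hm, show m + 2 - 1 = m + 1 by omega, show m + 2 - 2 = m by omega] at hle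
  have h5 := S.five
  have hle' : (m + 1) * m + 2 ≤ p := by omega
  rw [hm] at hl
  rcases Nat.lt_or_ge m 4 with h | h
  · interval_cases m <;> omega
  · have := Nat.mul_le_mul (le_refl (m + 1)) h
    omega

theorem fix_three_eq_one (g : G) (hg : 3 ≤ Nat.card (fixedBy Ω g)) : g = 1 := by
  haveI := S.finite_points
  haveI : Fintype (fixedBy Ω g) := Fintype.ofFinite _
  rw [Nat.card_eq_fintype_card] at hg
  obtain ⟨e⟩ := Function.Embedding.nonempty_of_card_le (α := Fin 3) (β := fixedBy Ω g)
    (by rwa [Fintype.card_fin])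
  have : g ∈ stabilizer G (e.trans (Function.Embedding.subtype _)) := mem_stab.2 fun i => (e i).2
  rwa [S.stab_triple, Subgroup.mem_bot] at this

end Setup

end Cfsg.Agent.DegreePTwo
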