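import Cfsg.Agent.Lib.DegreePTwo.BlkCount
import Cfsg.Agent.S4706

/-! A group with block data `1`, `θ`, `Y` is `SL(2, 2^a)`. -/

set_option autoImplicit false
set_option linter.style.haveILetI false

namespace Cfsg.Agent.DegreePTwo

open Cfsg MulAction
open scoped Pointwise

universe u

variable {G : Type u} [Group G] [Fintype G] {p : ℕ} {one θ : IrrCharacter G}
  {Y : Finset (IrrCharacter G)}

namespace Blk

variable (S : Blk p one θ Y)

include S

theorem exists_pow_two : ∃ a, p - 1 = 2 ^ a ∧ Nat.card G = p * 2 ^ a * (p - 2) ∧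
    ∀ v : G, orderOf v = 2 → Nat.card (Subgroup.centralizer ({v} : Set G)) = 2 ^ a := by
  obtain ⟨hG, hC⟩ := S.main
  obtain ⟨x, v, -, hv, -⟩ := S.exists_pair
  obtain ⟨hc, hsq⟩ := hC v hv
  haveI := Fact.mk Nat.prime_two
  have h2 : IsPGroup 2 (Subgroup.centralizer ({v} : Set G)) := fun y =>
    ⟨1, Subtype.ext (by rw [pow_one, sq]; exact hsq y.1 y.2)⟩
  obtain ⟨a, ha⟩ := IsPGroup.iff_card.1 h2
  exact ⟨a, hc.symm.trans ha, by rw [hG, ← ha, hc], fun w hw => by rw [(hC w hw).1, ← hc, ha]⟩

theorem two_part {a : ℕ} (ha : p - 1 = 2 ^ a) (hG : Nat.card G = p * 2 ^ a * (p - 2)) :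
    (Nat.card G).factorization 2 = a := by
  have h5 := S.five
  have hodd := S.prime.odd_of_ne_two (by omega)
  obtain ⟨r, hr⟩ := hodd
  have h1 : p.factorization 2 = 0 := Nat.factorization_eq_zero_of_not_dvd (by omega)
  have h2 : (p - 2).factorization 2 = 0 := Nat.factorization_eq_zero_of_not_dvd (by omega)
  rw [hG, Nat.factorization_mul (by positivity) (by omega), Nat.factorization_mul (by omega) (by positivity),
    Finsupp.add_apply, Finsupp.add_apply, h1, h2, Nat.factorization_pow, Finsupp.smul_apply,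
    Nat.prime_two.factorization_self, smul_eq_mul, mul_one, zero_add, add_zero]

/-- A Sylow 2-subgroup through an involution is its centralizer. -/
theorem sylow_eq_centralizer (Q : Sylow 2 G) {u : G} (hu : orderOf u = 2) (huQ : u ∈ (Q : Subgroup G)) :
    (Q : Subgroup G) = Subgroup.centralizer ({u} : Set G) ∧
      ∀ y ∈ (Q : Subgroup G), y * y = 1 := by
  haveI := Fact.mk Nat.prime_two
  obtain ⟨a, ha, hG, hC⟩ := S.exists_pow_two
  have h2 : IsPGroup 2 (Subgroup.centralizer ({u} : Set G)) :=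
    IsPGroup.of_card (n := a) (hC u hu)
  obtain ⟨R, hR⟩ := h2.exists_le_sylow
  have hRe : Subgroup.centralizer ({u} : Set G) = (R : Subgroup G) :=
    Subgroup.eq_of_le_of_card_ge hR (by rw [R.card_eq_multiplicity, S.two_part ha hG, hC u hu])
  obtain ⟨g, hg⟩ := MulAction.exists_smul_eq G R Q
  have hQc : ∀ y ∈ (Q : Subgroup G), y * y = 1 := by
    intro y hy
    rw [← hg, Sylow.coe_subgroup_smul, Subgroup.mem_pointwise_smul_iff_inv_smul_mem, ← hRe] at hy
    have h := (S.main.2 u hu).2 _ hy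
    rw [← smul_mul', inv_smul_eq_iff] at h
    simpa using h
  refine ⟨Subgroup.eq_of_le_of_card_ge (fun y hy => ?_) ?_, hQc⟩
  · rw [Subgroup.mem_centralizer_singleton_iff]
    have h1 := hQc y hy
    have h2 := hQc u huQ
    have h3 := hQc _ ((Q : Subgroup G).mul_mem hy huQ)
    calc y * u = (y * u)⁻¹ := (inv_eq_of_mul_eq_one_right h3).symm
      _ = u⁻¹ * y⁻¹ := mul_inv_rev _ _
      _ = u * y := by rw [inv_eq_of_mul_eq_one_right h1, inv_eq_of_mul_eq_one_right h2]
  · rw [Q.card_eq_multiplicity, S.two_part ha hG, hC u hu]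

theorem exists_involution (Q : Sylow 2 G) : ∃ u ∈ (Q : Subgroup G), orderOf u = 2 := by
  haveI := Fact.mk Nat.prime_two
  obtain ⟨a, ha, hG, -⟩ := S.exists_pow_two
  have h5 := S.five
  have hd : 2 ∣ Nat.card (Q : Subgroup G) := by
    rw [Q.card_eq_multiplicity, S.two_part ha hG]
    refine dvd_pow_self 2 ?_
    rintro rfl
    simp at ha
    omega
  obtain ⟨u, hu⟩ := exists_prime_orderOf_dvd_card' (G := (Q : Subgroup G)) 2 hd
  exact ⟨u, u.2, by rw [Subgroup.orderOf_coe, hu]⟩

/-- The centralizer of an involution as a Sylow 2-subgroup. -/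
theorem exists_sylow_centralizer {u : G} (hu : orderOf u = 2) :
    ∃ Q : Sylow 2 G, (Q : Subgroup G) = Subgroup.centralizer ({u} : Set G) := by
  haveI := Fact.mk Nat.prime_two
  have h2 : IsPGroup 2 (Subgroup.zpowers u) :=
    IsPGroup.of_card (n := 1) (by rw [Nat.card_zpowers, hu, pow_one])
  obtain ⟨Q, hQ⟩ := h2.exists_le_sylow
  exact ⟨Q, (S.sylow_eq_centralizer Q hu (hQ (Subgroup.mem_zpowers u))).1⟩

/-- An involution normalizes only one Sylow 2-subgroup. -/
theorem invol_unique {u : G} (hu : orderOf u = 2) {Q R : Sylow 2 G}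
    (hQ : u ∈ Subgroup.normalizer ((Q : Subgroup G) : Set G))
    (hR : u ∈ Subgroup.normalizer ((R : Subgroup G) : Set G)) : Q = R := by
  haveI := Fact.mk Nat.prime_two
  have hp : IsPGroup 2 (Subgroup.zpowers u) :=
    IsPGroup.of_card (n := 1) (by rw [Nat.card_zpowers, hu, pow_one])
  have key : ∀ T : Sylow 2 G, u ∈ Subgroup.normalizer ((T : Subgroup G) : Set G) →
      (T : Subgroup G) = Subgroup.centralizer ({u} : Set G) := fun T hT => by
    have h : u ∈ Subgroup.zpowers u ⊓ (T : Subgroup G) :=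
      hp.inf_normalizer_sylow T ▸ Subgroup.mem_inf.2 ⟨Subgroup.mem_zpowers u, hT⟩
    exact (S.sylow_eq_centralizer T hu h.2).1
  exact Sylow.ext ((key Q hQ).trans (key R hR).symm)

theorem exists_SL2 : ∃ (a : ℕ) (F : Type) (_ : Field F) (_ : Fintype F), p = 2 ^ a + 1 ∧
    Fintype.card F = 2 ^ a ∧ Nonempty (G ≃* Matrix.SpecialLinearGroup (Fin 2) F) := by
  classical
  haveI := Fact.mk Nat.prime_two
  haveI := Fact.mk S.prime
  have h5 := S.five
  obtain ⟨a, ha, hG, hC⟩ := S.exists_pow_two
  haveI : Fintype (Sylow 2 G) := Fintype.ofFinite _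
  -- the number of Sylow 2-subgroups
  set I : Finset G := Finset.univ.filter fun g => orderOf g = 2 with hI
  obtain ⟨x, v, -, hv, -⟩ := S.exists_pair
  have hIcard : I.card * 2 ^ a = Nat.card G := by
    rw [Nat.card_eq_fintype_card (α := G), ← Finset.card_univ,
      Finset.card_eq_sum_card_fiberwise (s := (Finset.univ : Finset G))
        (f := fun g : G => g * v * g⁻¹) (t := I) (fun g _ => by
        have := MulEquiv.orderOf_eq (MulAut.conj g) v
        rw [MulAut.conj_apply, hv] at this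
        simp [hI, this])]
    refine Eq.trans ?_ (Finset.sum_congr rfl (g := fun _ => 2 ^ a) (fun u hu => ?_)).symm
    · rw [Finset.sum_const, smul_eq_mul]
    obtain ⟨g, rfl⟩ := isConj_iff.1 (S.isConj_involutions hv (Finset.mem_filter.1 hu).2)
    rw [← hC v hv, Nat.card_eq_fintype_card, ← Fintype.card_coe]
    refine Fintype.card_congr
      { toFun := fun b => ⟨g⁻¹ * b.1, ?_⟩
        invFun := fun k => ⟨g * k.1, ?_⟩
        left_inv := fun b => by simp
        right_inv := fun k => by simp }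
    · rw [Subgroup.mem_centralizer_singleton_iff]
      have := (Finset.mem_filter.1 b.2).2
      calc g⁻¹ * b.1 * v = g⁻¹ * (b.1 * v * b.1⁻¹) * b.1 := by group
        _ = v * (g⁻¹ * b.1) := by rw [this]; group
    · rw [Finset.mem_filter]
      refine ⟨Finset.mem_univ _, ?_⟩
      calc g * k.1 * v * (g * k.1)⁻¹ = g * (k.1 * v) * k.1⁻¹ * g⁻¹ := by group
        _ = g * v * g⁻¹ := by rw [Subgroup.mem_centralizer_singleton_iff.1 k.2]; group
  have hfib : ∀ Q : Sylow 2 G, (I.filter fun u => u ∈ (Q : Subgroup G)).card = 2 ^ a - 1 := by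
    intro Q
    obtain ⟨u, huQ, hu⟩ := S.exists_involution Q
    obtain ⟨hQe, hQsq⟩ := S.sylow_eq_centralizer Q hu huQ
    have : (I.filter fun w => w ∈ (Q : Subgroup G)) =
        (Finset.univ.filter fun w => w ∈ (Q : Subgroup G)).erase 1 := by
      ext w
      simp only [hI, Finset.mem_filter, Finset.mem_univ, true_and, Finset.mem_erase]
      refine ⟨fun h => ⟨fun e => by rw [e, orderOf_one] at h; omega, h.2⟩, fun h => ⟨?_, h.2⟩⟩
      exact orderOf_eq_prime (by rw [sq]; exact hQsq w h.2) h.1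
    rw [this, Finset.card_erase_of_mem (by simp), ← Fintype.card_subtype, ← Nat.card_eq_fintype_card,
      show Nat.card {w : G // w ∈ (Q : Subgroup G)} = 2 ^ a from
        (congrArg (fun H : Subgroup G => Nat.card H) hQe).trans (hC u hu)]
  have hcardS : Nat.card (Sylow 2 G) = p := by
    have h1 : I.card = Nat.card (Sylow 2 G) * (2 ^ a - 1) := by
      have hbi : I = (Finset.univ : Finset (Sylow 2 G)).biUnion
          (fun Q => I.filter fun u => u ∈ (Q : Subgroup G)) := by
        ext u
        simp only [Finset.mem_biUnion, Finset.mem_univ, true_and, Finset.mem_filter]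
        refine ⟨fun h => ?_, fun ⟨Q, h, _⟩ => h⟩
        obtain ⟨Q, hQ⟩ := S.exists_sylow_centralizer (Finset.mem_filter.1 h).2
        exact ⟨Q, h, by rw [hQ, Subgroup.mem_centralizer_singleton_iff]⟩
      conv_lhs => rw [hbi]
      rw [Finset.card_biUnion, Finset.sum_congr rfl (fun Q _ => hfib Q), Finset.sum_const,
        Finset.card_univ, ← Nat.card_eq_fintype_card, smul_eq_mul]
      intro Q _ R _ hne
      change Disjoint (I.filter fun u => u ∈ (Q : Subgroup G)) (I.filter fun u => u ∈ (R : Subgroup G))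
      rw [Finset.disjoint_left]
      intro u hq hr
      simp only [hI, Finset.mem_filter, Finset.mem_univ, true_and] at hq hr
      exact hne (Sylow.ext (((S.sylow_eq_centralizer Q hq.1 hq.2).1).trans
        ((S.sylow_eq_centralizer R hr.1 hr.2).1).symm))
    rw [hG, h1] at hIcard
    have h2 : Nat.card (Sylow 2 G) * (2 ^ a - 1) = p * (p - 2) := by
      refine Nat.eq_of_mul_eq_mul_right (show 0 < 2 ^ a by positivity) ?_
      rw [hIcard]; ring
    rw [show p - 2 = 2 ^ a - 1 by omega] at h2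
    exact Nat.eq_of_mul_eq_mul_right (by omega) h2
  set Φ := MulAction.toPermHom G (Sylow 2 G) with hΦ
  have hinj : Function.Injective Φ := by
    rw [← MonoidHom.ker_eq_bot_iff, Subgroup.eq_bot_iff_forall]
    set K := Φ.ker with hK
    have hmemN : ∀ {g : G} (Q : Sylow 2 G), g ∈ K → g ∈ Subgroup.normalizer ((Q : Subgroup G) : Set G) := by
      intro g Q hg
      have h : g • Q = Q := by
        have := DFunLike.congr_fun (MonoidHom.mem_ker.1 hg) Q
        simpa [hΦ] using this
      exact Sylow.smul_eq_iff_mem_normalizer.1 h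
    have hK2 : ∀ u : G, u ∈ K → orderOf u ≠ 2 := by
      intro u huK hu
      have : Subsingleton (Sylow 2 G) :=
        ⟨fun Q R => S.invol_unique hu (hmemN Q huK) (hmemN R huK)⟩
      have := Finite.card_le_one_iff_subsingleton.2 this
      omega
    intro g hg
    obtain ⟨Q, hQ⟩ := S.exists_sylow_centralizer hv
    have hgv : g * v * g⁻¹ * v⁻¹ ∈ K := by
      rw [show g * v * g⁻¹ * v⁻¹ = g * (v * g⁻¹ * v⁻¹) by group]
      exact K.mul_mem hg ((MonoidHom.normal_ker Φ).conj_mem _ (K.inv_mem hg) v)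
    have hvQ : v ∈ (Q : Subgroup G) := by rw [hQ, Subgroup.mem_centralizer_singleton_iff]
    have hgvQ : g * v * g⁻¹ * v⁻¹ ∈ (Q : Subgroup G) :=
      (Q : Subgroup G).mul_mem ((Subgroup.mem_normalizer_iff.1 (hmemN Q hg) v).1 hvQ)
        ((Q : Subgroup G).inv_mem hvQ)
    have h1 : g * v * g⁻¹ * v⁻¹ = 1 := by
      by_contra hne
      exact hK2 _ hgv (orderOf_eq_prime (by rw [sq]; exact (S.sylow_eq_centralizer Q hv hvQ).2 _ hgvQ) hne)
    have hgQ : g ∈ (Q : Subgroup G) := by
      rw [hQ, Subgroup.mem_centralizer_singleton_iff]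
      exact mul_inv_eq_iff_eq_mul.1 (mul_inv_eq_one.1 h1)
    by_contra hne
    exact hK2 g hg (orderOf_eq_prime (by rw [sq]; exact (S.sylow_eq_centralizer Q hv hvQ).2 g hgQ) hne)
  let e : G ≃* Φ.range := MonoidHom.ofInjective hinj
  obtain ⟨P⟩ : Nonempty (Sylow p Φ.range) := inferInstance
  have hPc : Nat.card (P : Subgroup Φ.range) = p := by
    obtain ⟨P₀⟩ : Nonempty (Sylow p G) := inferInstance
    rw [P.card_eq_multiplicity, ← Nat.card_congr e.toEquiv, ← P₀.card_eq_multiplicity, S.sylow P₀]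
  have hPN : Nat.card (Subgroup.normalizer ((P : Subgroup Φ.range) : Set Φ.range)) = 2 * p := by
    obtain ⟨Q, hQ⟩ : ∃ Q : Sylow p G, (Q : Subgroup G) = (P : Subgroup Φ.range).comap e.toMonoidHom := by
      have hp : IsPGroup p ((P : Subgroup Φ.range).comap e.toMonoidHom) :=
        P.2.comap_of_injective _ e.injective
      obtain ⟨Q, hQ⟩ := hp.exists_le_sylow
      refine ⟨Q, (Subgroup.eq_of_le_of_card_ge hQ ?_).symm⟩
      rw [S.sylow Q, Subgroup.comap_equiv_eq_map_symm', Subgroup.card_map_of_injective e.symm.injective, hPc]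
    rw [← S.normalizer Q]
    refine (Nat.card_congr ?_).symm
    refine (Equiv.subtypeEquiv e.toEquiv fun g => ?_)
    simp only [Subgroup.mem_normalizer_iff, hQ]
    constructor
    · intro h y
      have := h (e.symm y)
      simpa [Subgroup.mem_comap] using this
    · intro h y
      have := h (e y)
      simpa [Subgroup.mem_comap] using this
  have hScard : Fintype.card (Sylow 2 G) = p := by rw [← Nat.card_eq_fintype_card, hcardS]
  rcases Cfsg.Agent.S4706.result (α := Sylow 2 G) (p := p) (by omega) hScard Φ.range P hPN with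
    hn | ⟨a', F, iF, iFt, h1, h2, ⟨e'⟩⟩
  · exfalso
    haveI := hn
    have h := hPN
    rw [Subgroup.normalizer_eq_top, Subgroup.card_top, ← Nat.card_congr e.toEquiv, hG, ← ha] at h
    have hlt : 2 * p < p * (p - 1) * (p - 2) := by
      calc 2 * p < p * 4 * 1 := by omega
        _ ≤ p * (p - 1) * (p - 2) := Nat.mul_le_mul (Nat.mul_le_mul le_rfl (by omega)) (by omega)
    omega
  · exact ⟨a', F, iF, iFt, h1, h2, ⟨e.trans e'⟩⟩

end Blk

end Cfsg.Agent.DegreePTwo
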