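import Cfsg.Agent.Lib.DegreePTwo.BlkMain
import Cfsg.Agent.Lib.Blocks.BlockOrth

/-! The exterior square of `θ` is the sum of the exceptional characters; involutions. -/

set_option autoImplicit false
set_option linter.style.haveILetI false

namespace Cfsg.Agent.DegreePTwo

open Cfsg Cfsg.Agent.Char
open scoped ComplexConjugate

universe u

variable {G : Type u} [Group G] [Fintype G] {p : ℕ} {one θ : IrrCharacter G}
  {Y : Finset (IrrCharacter G)}

namespace Blk

variable (S : Blk p one θ Y)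

include S

/-- The integer values of `θ`. -/
noncomputable def val (g : G) : ℤ := (S.exists_int g).choose

theorem val_spec (g : G) : (θ : G → ℂ) g = (S.val g : ℂ) := (S.exists_int g).choose_spec

theorem sum_Y_one : ∑ χ ∈ Y, (χ : G → ℂ) 1 = (((p - 1) / 2 : ℕ) : ℂ) * ((p : ℂ) - 2) := by
  rw [Finset.sum_congr rfl S.degY, Finset.sum_const, S.card_Y, nsmul_eq_mul]

/-- The exterior square of `θ` on `p`-regular elements. -/
theorem square_formula {g : G} (hg : ¬ p ∣ orderOf g) :
    S.val (g * g) = S.val g * S.val g - ((p : ℤ) - 1) * S.val g + ((p : ℤ) - 1) := by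
  classical
  have hn : ((((p - 1) / 2 : ℕ) : ℂ)) * 2 = (p : ℂ) - 1 := by
    have := S.two_half
    rw [eq_sub_iff_add_eq]
    exact_mod_cast (by omega : (p - 1) / 2 * 2 + 1 = p)
  set A : G → ℂ := fun g => ((θ : G → ℂ) g * (θ : G → ℂ) g - (θ : G → ℂ) (g * g)) / 2 with hA
  have hAc : Cfsg.IsCharacter G A := isCharacter_extSquare (IsIrrCharacter.isCharacter θ.2)
  have hA1 : A 1 = (((p - 1) / 2 : ℕ) : ℂ) * ((p : ℂ) - 2) := by
    simp only [hA, mul_one, S.deg]
    linear_combination (-((p : ℂ) - 2) / 2) * hn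
  have hAs : ∀ g : G, p ∣ orderOf g → A g = 1 := by
    intro g hg
    have h2 : p ∣ orderOf (g * g) := by
      rw [← sq, Nat.Coprime.orderOf_pow]
      · exact hg
      · rw [S.singular hg]
        refine (Nat.coprime_primes S.prime Nat.prime_two).2 ?_
        have := S.five; omega
    simp only [hA, S.sing g hg, S.sing _ h2]
    norm_num
  have hnat : ∀ ψ : IrrCharacter G, ∃ c : ℕ, Cfsg.classInner A (ψ : G → ℂ) = (c : ℂ) := fun ψ =>
    IsCharacter.exists_classInner_nat hAc (IsIrrCharacter.isCharacter ψ.2)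
  choose c hc using hnat
  have hdecomp : ∀ g, A g = ∑ ψ : IrrCharacter G, (c ψ : ℂ) * (ψ : G → ℂ) g := by
    intro g
    have h := congrFun (classFunction_eq_sum (IsCharacter.isClassFunction hAc)) g
    simp only [Finset.sum_apply, Pi.smul_apply, smul_eq_mul, hc] at h
    exact h
  have hG : (Nat.card G : ℂ) ≠ 0 := Nat.cast_ne_zero.2 Nat.card_pos.ne'
  have hinner : ∀ ψ : IrrCharacter G,
      ∑ g : G, A g * conj ((ψ : G → ℂ) g) = (c ψ : ℂ) * (Nat.card G : ℂ) := by
    intro ψ
    have h := hc ψ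
    rw [Cfsg.classInner, inv_mul_eq_iff_eq_mul₀ hG] at h
    rw [h, mul_comm]
  -- no trivial constituent
  obtain ⟨x, v, hx, hv, hvx⟩ := S.exists_pair
  have hc1 : c one = 0 := by
    obtain ⟨D, _, -, hsum⟩ := S.sum_normalizer hx hv hvx
    have hv2 : v * v = 1 := by rw [← sq, ← hv]; exact pow_orderOf_eq_one _
    have hD : ∑ g : D, A (g : G) = 0 := by
      rw [hsum A (IsCharacter.isClassFunction hAc) 1 hAs, hA1]
      simp only [hA, hv2, S.th_inverting hx hv hvx, S.deg]
      linear_combination (((p : ℂ) - 2) / 2) * hn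
    have h := sum_subgroup_eq_zero hAc (le_top : D ≤ ⊤) hD
    have h' : ∑ g : G, A g = 0 := by
      rw [← h]
      exact (Fintype.sum_equiv (Subgroup.topEquiv (G := G)).toEquiv _ _ fun _ => rfl).symm
    have h2 := hinner one
    rw [Finset.sum_congr rfl (fun g _ => show A g * conj ((one : G → ℂ) g) = A g by
      rw [S.one_apply, map_one, mul_one]), h'] at h2
    exact_mod_cast (mul_eq_zero.1 h2.symm).resolve_right hG
  have hrel : ∀ χ ∈ Y, c χ = c θ + 1 := by
    intro χ hχ
    have hne1 : χ ≠ one := fun e => S.one_notMem (e ▸ hχ)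
    have hχ0 : ∑ g : G, conj ((χ : G → ℂ) g) = 0 := by
      have h := sum_irr χ one
      rw [if_neg hne1] at h
      have h2 : ∑ g : G, (χ : G → ℂ) g = 0 := by simpa [S.one_apply] using h
      rw [← map_sum, h2, map_zero]
    have hθ0 : ∑ g : G, conj ((θ : G → ℂ) g) = 0 := by rw [← map_sum, S.sum_th, map_zero]
    have hn1 : ∑ _g : G, (1 : ℂ) = (Nat.card G : ℂ) := by simp [Nat.card_eq_fintype_card]
    have e : ∑ g : G, A g * (conj ((θ : G → ℂ) g) - 1 - conj ((χ : G → ℂ) g)) =
        ∑ g : G, (conj ((θ : G → ℂ) g) - 1 - conj ((χ : G → ℂ) g)) := by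
      refine Finset.sum_congr rfl fun g _ => ?_
      by_cases hg : p ∣ orderOf g
      · rw [hAs g hg, one_mul]
      · rw [S.regY χ hχ g hg, map_sub, map_one]; ring
    simp only [mul_sub, mul_one, Finset.sum_sub_distrib] at e
    rw [hinner, hinner, hθ0, hχ0, hn1,
      show ∑ g : G, A g = (c one : ℂ) * (Nat.card G : ℂ) by
        rw [← hinner one]; simp [S.one_apply], hc1] at e
    have : ((c χ : ℕ) : ℂ) = ((c θ + 1 : ℕ) : ℂ) := by
      push_cast
      refine mul_right_cancel₀ hG ?_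
      push_cast at e
      linear_combination -e
    exact_mod_cast this
  -- degrees
  have hdeg : ∀ ψ : IrrCharacter G, 0 < charDegree (ψ : G → ℂ) := by
    intro ψ
    obtain ⟨d, hd0, hd⟩ := IsIrrCharacter.exists_degree ψ.2
    rw [charDegree, hd, Complex.natCast_re, Nat.floor_natCast]
    omega
  have h1B : θ ∉ Y := S.th_notMem
  have hAeq : ∀ ψ : IrrCharacter G, c ψ = if ψ ∈ Y then 1 else 0 := by
    have h1 := hdecomp 1
    rw [hA1, Finset.sum_congr rfl (fun ψ _ => show (c ψ : ℂ) * (ψ : G → ℂ) 1 =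
      ((c ψ * charDegree (ψ : G → ℂ) : ℕ) : ℂ) by push_cast; rw [irr_degree ψ]),
      ← Nat.cast_sum] at h1
    have hYd : ∀ χ ∈ Y, charDegree (χ : G → ℂ) = p - 2 := by
      intro χ hχ
      have := S.degY χ hχ
      rw [irr_degree, show (p : ℂ) - 2 = ((p - 2 : ℕ) : ℂ) by
        rw [Nat.cast_sub (by have := S.five; omega)]; simp, Nat.cast_inj] at this
      exact this
    have h1' : (p - 1) / 2 * (p - 2) = ∑ ψ : IrrCharacter G, c ψ * charDegree (ψ : G → ℂ) := by
      rw [show ((((p - 1) / 2 : ℕ) : ℂ)) * ((p : ℂ) - 2) = (((p - 1) / 2 * (p - 2) : ℕ) : ℂ) by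
        rw [Nat.cast_mul, Nat.cast_sub (by have := S.five; omega)]; simp] at h1
      exact_mod_cast h1
    have hsplit := Finset.sum_sdiff (Finset.subset_univ (insert θ Y))
      (f := fun ψ : IrrCharacter G => c ψ * charDegree (ψ : G → ℂ))
    have eY : ∑ χ ∈ Y, c χ * charDegree (χ : G → ℂ) = (p - 1) / 2 * ((c θ + 1) * (p - 2)) := by
      rw [Finset.sum_congr rfl (g := fun _ => (c θ + 1) * (p - 2))
        (fun χ hχ => by rw [hrel χ hχ, hYd χ hχ]), Finset.sum_const, S.card_Y, smul_eq_mul]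
    rw [Finset.sum_insert h1B, ← h1', eY] at hsplit
    have hθ0 : c θ = 0 := by
      by_contra h
      have hpos : 0 < c θ * charDegree (θ : G → ℂ) := Nat.mul_pos (Nat.pos_of_ne_zero h) (hdeg θ)
      have h2 := Nat.mul_le_mul (le_refl ((p - 1) / 2))
        (Nat.mul_le_mul (show 1 ≤ c θ + 1 by omega) (le_refl (p - 2)))
      rw [one_mul] at h2
      omega
    rw [hθ0, zero_mul, zero_add, zero_add, one_mul] at hsplit
    intro ψ
    split_ifs with hψ
    · rw [hrel ψ hψ, hθ0]
    · by_cases hψθ : ψ = θ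
      · rw [hψθ, hθ0]
      have h0 : c ψ * charDegree (ψ : G → ℂ) = 0 :=
        (Finset.sum_eq_zero_iff (s := Finset.univ \ insert θ Y)
          (f := fun ψ : IrrCharacter G => c ψ * charDegree (ψ : G → ℂ))).1 (by omega) ψ
          (by simp [hψ, hψθ])
      exact (Nat.mul_eq_zero.1 h0).resolve_right (hdeg ψ).ne'
  have hAg : A g = (((p - 1) / 2 : ℕ) : ℂ) * ((θ : G → ℂ) g - 1) := by
    rw [hdecomp, Finset.sum_congr rfl (fun ψ _ => show (c ψ : ℂ) * (ψ : G → ℂ) g =
      if ψ ∈ Y then (ψ : G → ℂ) g else 0 by rw [hAeq ψ]; split_ifs <;> simp),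
      Finset.sum_ite_mem, Finset.univ_inter, Finset.sum_congr rfl (fun χ hχ => S.regY χ hχ g hg),
      Finset.sum_const, S.card_Y, nsmul_eq_mul]
  simp only [hA] at hAg
  rw [S.val_spec (g * g), S.val_spec g] at hAg
  have : ((S.val (g * g) : ℤ) : ℂ) =
      ((S.val g * S.val g - ((p : ℤ) - 1) * S.val g + ((p : ℤ) - 1) : ℤ) : ℂ) := by
    push_cast
    linear_combination (-2 : ℂ) * hAg - ((S.val g : ℂ) - 1) * hn
  exact_mod_cast this

theorem val_one : S.val 1 = (p : ℤ) - 1 := by
  have h := S.val_spec 1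
  rw [S.deg] at h
  exact_mod_cast h.symm

theorem val_singular {g : G} (hg : p ∣ orderOf g) : S.val g = -1 := by
  have h := S.val_spec g
  rw [S.sing g hg] at h
  exact_mod_cast h.symm

theorem val_bound (g : G) : -((p : ℤ) - 1) ≤ S.val g ∧ S.val g ≤ (p : ℤ) - 1 := by
  obtain ⟨m, ρ, hρ, heq⟩ := θ.2
  have h1 : (m : ℂ) = (p : ℂ) - 1 := by
    rw [← S.deg, ← heq, Representation.char_one]; simp
  have h := norm_char_le ρ g
  rw [show ρ.character g = (S.val g : ℂ) by rw [heq]; exact S.val_spec g, Complex.norm_intCast,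
    Module.finrank_pi, Fintype.card_fin] at h
  have hm : (m : ℤ) = (p : ℤ) - 1 := by exact_mod_cast h1
  rw [← hm, ← abs_le]
  exact_mod_cast h

theorem eq_one_of_val {g : G} (h : S.val g = (p : ℤ) - 1) : g = 1 := by
  refine S.ker g ?_
  rw [S.val_spec g, h]
  push_cast
  ring

theorem regular_sq {g : G} (hg : ¬ p ∣ orderOf g) : ¬ p ∣ orderOf (g * g) := fun h =>
  hg (h.trans (by rw [← sq]; exact orderOf_pow_dvd 2))

/-- The possible values of `θ` at `p`-regular elements. -/
theorem val_cases {g : G} (hg : ¬ p ∣ orderOf g) :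
    S.val g = 0 ∨ S.val g = 1 ∨ S.val g = (p : ℤ) - 2 ∨ g = 1 ∨
      (p = 5 ∧ S.val g = 2 ∧ orderOf (g * g) = 2) := by
  have h5 := S.five
  rcases value_cases (n := (p : ℤ) - 1) (by omega) (S.val_bound g) (S.val_bound _)
    (S.val_bound _) (S.square_formula hg) (S.square_formula (S.regular_sq hg)) with
    h | h | h | h | ⟨h, h2⟩
  · exact Or.inl h
  · exact Or.inr (Or.inl h)
  · exact Or.inr (Or.inr (Or.inl (by omega)))
  · exact Or.inr (Or.inr (Or.inr (Or.inl (S.eq_one_of_val h))))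
  · refine Or.inr (Or.inr (Or.inr (Or.inr ⟨by omega, h2, ?_⟩)))
    haveI := Fact.mk Nat.prime_two
    refine orderOf_eq_prime ?_ fun e => ?_
    · have e1 := S.square_formula (S.regular_sq hg)
      have e0 := S.square_formula hg
      rw [h2, show (p : ℤ) - 1 = 4 from h] at e0
      rw [e0, show (p : ℤ) - 1 = 4 from h] at e1
      rw [sq]
      exact S.eq_one_of_val (by rw [e1]; omega)
    · have e0 := S.square_formula hg
      rw [e, S.val_one, h2] at e0
      omega

/-- `θ` vanishes on involutions. -/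
theorem val_invol {g : G} (hg : orderOf g = 2) : S.val g = 0 := by
  have h := S.square_formula (S.not_singular_two hg)
  rw [show g * g = 1 by rw [← sq, ← hg]; exact pow_orderOf_eq_one _, S.val_one] at h
  have h' : S.val g * (S.val g - ((p : ℤ) - 1)) = 0 := by linear_combination -h
  refine (mul_eq_zero.1 h').resolve_right fun e => ?_
  rw [S.eq_one_of_val (sub_eq_zero.1 e), orderOf_one] at hg
  omega

theorem sq_eq_one_of_val {g : G} (hg : ¬ p ∣ orderOf g) (h : S.val g = 0) : g * g = 1 := by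
  refine S.eq_one_of_val ?_
  rw [S.square_formula hg, h]
  ring

/-- The sum of the exceptional values at a singular element. -/
theorem column_Y {x : G} (hx : p ∣ orderOf x) : ∑ χ ∈ Y, conj ((χ : G → ℂ) x) = 1 := by
  classical
  have hn1 : ¬ IsConj (1 : G) x := fun h => by
    rw [isConj_one_right.1 h] at hx
    exact S.not_singular_one hx
  have h1B : one ∉ insert θ Y := by simp [S.ne, S.one_notMem]
  have h := column_orth_of_not_isConj hn1
  rw [← Finset.sum_subset (Finset.subset_univ (insert one (insert θ Y))) (fun ψ _ hψ => by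
      simp only [Finset.mem_insert, not_or] at hψ
      rw [S.vanishing ψ hψ.1 hψ.2.1 hψ.2.2 x hx, map_zero, mul_zero]),
    Finset.sum_insert h1B, Finset.sum_insert S.th_notMem, S.one_apply, S.one_apply, S.deg,
    S.sing x hx, Finset.sum_congr rfl (fun (χ : IrrCharacter G) hχ => show
      (χ : G → ℂ) 1 * conj ((χ : G → ℂ) x) = ((p : ℂ) - 2) * conj ((χ : G → ℂ) x) by
        rw [S.degY χ hχ]), ← Finset.mul_sum, map_neg, map_one] at h
  have hp : (p : ℂ) - 2 ≠ 0 := by
    rw [sub_ne_zero]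
    have := S.five
    exact_mod_cast (show p ≠ 2 by omega)
  refine mul_left_cancel₀ hp ?_
  linear_combination h

/-- The class multiplication formula for two involutions and an element of order `p`. -/
theorem class_count {v w x : G} (hv : orderOf v = 2) (hw : orderOf w = 2) (hx : p ∣ orderOf x)
    [DecidablePred fun j : G => IsConj (j⁻¹ * w * j * v) x] :
    (p : ℂ) * ((Finset.univ.filter fun j : G => IsConj (j⁻¹ * w * j * v) x).card : ℂ) * ((p : ℂ) - 2) =
      (Nat.card G : ℂ) * ((p : ℂ) - 1) := by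
  classical
  have hL : ∑ j : G, ∑ ψ : IrrCharacter G, (ψ : G → ℂ) (j⁻¹ * w * j * v) * conj ((ψ : G → ℂ) x) =
      (p : ℂ) * ((Finset.univ.filter fun j : G => IsConj (j⁻¹ * w * j * v) x).card : ℂ) := by
    rw [← Finset.sum_filter_add_sum_filter_not Finset.univ (fun j : G => IsConj (j⁻¹ * w * j * v) x),
      Finset.sum_eq_zero (s := Finset.univ.filter fun j : G => ¬ IsConj (j⁻¹ * w * j * v) x)
        (fun j hj => column_orth_of_not_isConj (Finset.mem_filter.1 hj).2), add_zero,
      Finset.sum_congr rfl (g := fun _ => (p : ℂ)) (fun j hj => ?_), Finset.sum_const, nsmul_eq_mul,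
      mul_comm]
    have hc := (Finset.mem_filter.1 hj).2
    obtain ⟨k, hk⟩ := isConj_iff.1 hc
    rw [column_orth_of_isConj hc, S.card_centralizer]
    have := MulEquiv.orderOf_eq (MulAut.conj k) (j⁻¹ * w * j * v)
    rw [MulAut.conj_apply, hk, S.singular hx] at this
    exact this.symm
  rw [Finset.sum_comm] at hL
  simp only [← Finset.sum_mul, Agent.Blocks.irr_sum_conj_mul] at hL
  have h1B : one ∉ insert θ Y := by simp [S.ne, S.one_notMem]
  rw [← Finset.sum_subset (Finset.subset_univ (insert one (insert θ Y))) (fun ψ _ hψ => by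
      simp only [Finset.mem_insert, not_or] at hψ
      rw [S.vanishing ψ hψ.1 hψ.2.1 hψ.2.2 x hx, map_zero, mul_zero]),
    Finset.sum_insert h1B, Finset.sum_insert S.th_notMem, S.one_apply, S.one_apply, S.one_apply,
    S.one_apply, S.val_spec w, S.val_invol hw,
    Finset.sum_congr rfl (fun (χ : IrrCharacter G) hχ => show
    (Nat.card G : ℂ) * (χ : G → ℂ) w * (χ : G → ℂ) v / (χ : G → ℂ) 1 * conj ((χ : G → ℂ) x) =
    ((Nat.card G : ℂ) / ((p : ℂ) - 2)) * conj ((χ : G → ℂ) x) by
      rw [S.degY χ hχ, S.regY χ hχ w (S.not_singular_two hw), S.regY χ hχ v (S.not_singular_two hv),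
        S.val_spec w, S.val_spec v, S.val_invol hw, S.val_invol hv]
      push_cast; ring), ← Finset.mul_sum, S.column_Y hx, map_one] at hL
  have hp : (p : ℂ) - 2 ≠ 0 := by
    rw [sub_ne_zero]
    have := S.five
    exact_mod_cast (show p ≠ 2 by omega)
  simp only [Int.cast_zero, mul_zero, zero_mul, zero_div, zero_add, mul_one, div_one] at hL
  field_simp at hL
  linear_combination -hL

/-- All involutions are conjugate. -/
theorem isConj_involutions {v w : G} (hv : orderOf v = 2) (hw : orderOf w = 2) : IsConj v w := by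
  classical
  obtain ⟨x, v₀, hx, hv₀, hvx⟩ := S.exists_pair
  suffices h : ∀ w : G, orderOf w = 2 → IsConj v₀ w from (h v hv).symm.trans (h w hw)
  intro w hw
  have h := S.class_count hv₀ hw (x := x) (by rw [hx])
  have hne : (Finset.univ.filter fun j : G => IsConj (j⁻¹ * w * j * v₀) x).Nonempty := by
    rw [Finset.nonempty_iff_ne_empty]
    intro e
    rw [e, Finset.card_empty, Nat.cast_zero, mul_zero, zero_mul, eq_comm, mul_eq_zero, sub_eq_zero,
      Nat.cast_eq_zero] at h
    rcases h with h | h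
    · exact Nat.card_pos.ne' h
    · have := S.five
      have h1 : p = 1 := by exact_mod_cast h
      omega
  obtain ⟨j, hj⟩ := hne
  obtain ⟨g, hg⟩ := isConj_iff.1 (Finset.mem_filter.1 hj).2.symm
  -- `g * x * g⁻¹ = (j⁻¹ w j) v₀`
  set u := j⁻¹ * w * j with hu
  have hu2 : u * u = 1 := by
    rw [hu]
    calc j⁻¹ * w * j * (j⁻¹ * w * j) = j⁻¹ * (w * w) * j := by group
      _ = 1 := by rw [show w * w = 1 by rw [← sq, ← hw]; exact pow_orderOf_eq_one _]; group
  have hv2 : v₀ * v₀ = 1 := by rw [← sq, ← hv₀]; exact pow_orderOf_eq_one _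
  have hui : u⁻¹ = u := inv_eq_of_mul_eq_one_right hu2
  have hvi : v₀⁻¹ = v₀ := inv_eq_of_mul_eq_one_right hv2
  have hA : g⁻¹ * u * g * x * (g⁻¹ * u * g)⁻¹ = x⁻¹ := by
    calc g⁻¹ * u * g * x * (g⁻¹ * u * g)⁻¹ = g⁻¹ * (u * (g * x * g⁻¹) * u⁻¹) * g := by group
      _ = g⁻¹ * (u * u * v₀ * u⁻¹) * g := by rw [hg]; group
      _ = g⁻¹ * (v₀⁻¹ * u⁻¹) * g := by rw [hu2, one_mul, hvi]
      _ = g⁻¹ * (u * v₀)⁻¹ * g := by rw [mul_inv_rev u v₀]
      _ = x⁻¹ := by rw [← hg]; group
  have hB : g⁻¹ * v₀ * g * x * (g⁻¹ * v₀ * g)⁻¹ = x⁻¹ := by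
    calc g⁻¹ * v₀ * g * x * (g⁻¹ * v₀ * g)⁻¹ = g⁻¹ * (v₀ * (g * x * g⁻¹) * v₀⁻¹) * g := by group
      _ = g⁻¹ * (v₀⁻¹ * u⁻¹) * g := by rw [hg, hui, hvi]; simp only [mul_assoc, hv2, mul_one]
      _ = g⁻¹ * (u * v₀)⁻¹ * g := by rw [mul_inv_rev u v₀]
      _ = x⁻¹ := by rw [← hg]; group
  obtain ⟨z₁, -, e1⟩ := S.conj_inverting hx hv₀ hvx hA
  obtain ⟨z₂, -, e2⟩ := S.conj_inverting hx hv₀ hvx hB
  refine isConj_iff.2 ⟨j * g * z₁, ?_⟩
  calc j * g * z₁ * v₀ * (j * g * z₁)⁻¹ = j * g * (z₁ * v₀ * z₁⁻¹) * g⁻¹ * j⁻¹ := by group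
    _ = j * g * (g⁻¹ * u * g) * g⁻¹ * j⁻¹ := by rw [← e1]
    _ = w := by rw [hu]; group

end Blk

end Cfsg.Agent.DegreePTwo
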