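import Cfsg.Agent.S0157
import Cfsg.Agent.S4441
import Cfsg.Agent.Lib.Char.GlaubermanMod
import Cfsg.Agent.Lib.Blocks.Block
import Cfsg.Agent.Lib.Blocks.BlockOrth
import Cfsg.Agent.Lib.Char.Complete
import Cfsg.Agent.Lib.DegreePTwo.Basic

/-! Groups of prime degree `p` with Sylow normalizer of order `2 p`: character facts. -/

set_option autoImplicit false
set_option linter.style.haveILetI false

namespace Cfsg.Agent.DegreePTwo

open MulAction Cfsg Cfsg.Agent.Char
open scoped ComplexConjugate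

universe u v

variable {G : Type u} [Group G] [Fintype G] {Ω : Type v} [MulAction G Ω] {p : ℕ}

theorem irr_degree (χ : IrrCharacter G) :
    (χ : G → ℂ) 1 = (charDegree (χ : G → ℂ) : ℂ) := by
  obtain ⟨d, -, hd⟩ := IsIrrCharacter.exists_degree χ.2
  rw [charDegree, hd, Complex.natCast_re, Nat.floor_natCast]

theorem sum_irr [DecidableEq (IrrCharacter G)] (χ ψ : IrrCharacter G) :
    ∑ g : G, (χ : G → ℂ) g * conj ((ψ : G → ℂ) g) = if χ = ψ then (Nat.card G : ℂ) else 0 := by
  have h := classInner_irr χ.2 ψ.2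
  rw [Cfsg.classInner, inv_mul_eq_iff_eq_mul₀ (Nat.cast_ne_zero.2 Nat.card_pos.ne')] at h
  rw [h]
  by_cases hh : χ = ψ
  · subst hh; simp
  · rw [if_neg hh, if_neg (fun e => hh (Subtype.ext e)), mul_zero]

theorem cast_desc_succ (n k : ℕ) :
    (n.descFactorial (k + 1) : ℂ) = n.descFactorial k * ((n : ℂ) - k) := by
  rw [Nat.descFactorial_succ]
  rcases Nat.lt_or_ge n k with h | h
  · rw [Nat.descFactorial_eq_zero_iff_lt.2 h]; simp
  · rw [Nat.cast_mul, Nat.cast_sub h, mul_comm]

theorem cast_desc_one (n : ℕ) : (n.descFactorial 1 : ℂ) = 1 * ((n : ℂ) - 0) := by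
  rw [cast_desc_succ n 0, Nat.descFactorial_zero]; simp

theorem cast_desc_two (n : ℕ) : (n.descFactorial 2 : ℂ) = 1 * ((n : ℂ) - 0) * ((n : ℂ) - (0 + 1)) := by
  rw [cast_desc_succ n 1, cast_desc_one]; simp

theorem cast_desc_three (n : ℕ) : (n.descFactorial 3 : ℂ) =
    1 * ((n : ℂ) - 0) * ((n : ℂ) - (0 + 1)) * ((n : ℂ) - (0 + 1 + 1)) := by
  rw [cast_desc_succ n 2, cast_desc_two]; push_cast; ring

theorem cast_desc_four (n : ℕ) : (n.descFactorial 4 : ℂ) =
    1 * ((n : ℂ) - 0) * ((n : ℂ) - (0 + 1)) * ((n : ℂ) - (0 + 1 + 1)) *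
      ((n : ℂ) - (0 + 1 + 1 + 1)) := by
  rw [cast_desc_succ n 3, cast_desc_three]; push_cast; ring

/-- The nonprincipal part of the permutation character. -/
noncomputable def th (Ω : Type v) [MulAction G Ω] (g : G) : ℂ := (Nat.card (fixedBy Ω g) : ℂ) - 1

omit [Fintype G] in
theorem conj_th (g : G) : conj (th Ω g) = th Ω g := by simp [th]

namespace Setup

variable (S : Setup G Ω p)

include S

theorem finite_points : Finite Ω := Nat.finite_of_card_ne_zero (S.card ▸ S.prime.ne_zero)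

theorem th_singular {g : G} (hg : p ∣ orderOf g) : th Ω g = -1 := by
  simp [th, (S.singular hg).2]

theorem th_one : th Ω (1 : G) = (p : ℂ) - 1 := by
  have : Nat.card (fixedBy Ω (1 : G)) = p := by
    rw [← S.card]
    exact Nat.card_congr ((Equiv.setCongr (by ext a; simp)).trans (Equiv.Set.univ Ω))
  rw [th, this]

/-- Power sums of the character. -/
theorem moments :
    (∑ g : G, th Ω g = 0) ∧ (∑ g : G, th Ω g ^ 2 = (Nat.card G : ℂ)) ∧
      (∑ g : G, th Ω g ^ 3 = (Nat.card G : ℂ)) ∧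
      ∑ g : G, th Ω g ^ 4 =
        ((Nat.card (Quotient (orbitRel G (Fin 4 ↪ Ω))) : ℂ) + 3) * (Nat.card G : ℂ) := by
  haveI := S.finite_points
  haveI := S.trans
  have hp := S.five
  have hk : ∀ k, k ≤ 3 → ∑ g : G, ((Nat.card (fixedBy Ω g)).descFactorial k : ℂ) = (Nat.card G : ℂ) := by
    intro k hk
    rw [← Nat.cast_sum, sum_descFactorial_of_trans k ?_ (by rw [S.card]; omega)]
    haveI := S.three
    exact isMultiplyPretransitive_of_le (n := 3) hk (by
      rw [← Nat.cast_ofNat, S.card]; omega)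
  have h1 := hk 1 (by norm_num)
  have h2 := hk 2 (by norm_num)
  have h3 := hk 3 le_rfl
  have h4 : ∑ g : G, ((Nat.card (fixedBy Ω g)).descFactorial 4 : ℂ) =
      (Nat.card (Quotient (orbitRel G (Fin 4 ↪ Ω))) : ℂ) * (Nat.card G : ℂ) := by
    rw [← Nat.cast_sum, sum_descFactorial 4, Nat.cast_mul]
  simp only [cast_desc_one, cast_desc_two, cast_desc_three, cast_desc_four] at h1 h2 h3 h4
  have hn : ∑ _g : G, (1 : ℂ) = (Nat.card G : ℂ) := by simp [Nat.card_eq_fintype_card]
  set f : G → ℂ := fun g => (Nat.card (fixedBy Ω g) : ℂ) with hf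
  set N : ℂ := (Nat.card G : ℂ) with hN
  refine ⟨?_, ?_, ?_, ?_⟩
  · have : ∀ g : G, th Ω g = 1 * (f g - 0) - 1 := fun g => by simp [th, hf]
    rw [Finset.sum_congr rfl (fun g _ => this g), Finset.sum_sub_distrib, h1, hn, sub_self]
  · have : ∀ g : G, th Ω g ^ 2 = 1 * (f g - 0) * (f g - (0 + 1)) - 1 * (f g - 0) + 1 := fun g => by
      simp [th, hf]; ring
    rw [Finset.sum_congr rfl (fun g _ => this g), Finset.sum_add_distrib, Finset.sum_sub_distrib,
      h1, h2, hn]
    ring
  · have : ∀ g : G, th Ω g ^ 3 = 1 * (f g - 0) * (f g - (0 + 1)) * (f g - (0 + 1 + 1))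
        + 1 * (f g - 0) - 1 := fun g => by
      simp [th, hf]; ring
    rw [Finset.sum_congr rfl (fun g _ => this g), Finset.sum_sub_distrib, Finset.sum_add_distrib,
      h1, h3, hn]
    ring
  · have : ∀ g : G, th Ω g ^ 4 =
        1 * (f g - 0) * (f g - (0 + 1)) * (f g - (0 + 1 + 1)) * (f g - (0 + 1 + 1 + 1))
        + 2 * (1 * (f g - 0) * (f g - (0 + 1)) * (f g - (0 + 1 + 1)))
        + 1 * (f g - 0) * (f g - (0 + 1)) - 1 * (f g - 0) + 1 := fun g => by
      simp [th, hf]; ring
    rw [Finset.sum_congr rfl (fun g _ => this g)]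
    have h3' : ∑ g : G, 2 * (1 * (f g - 0) * (f g - (0 + 1)) * (f g - (0 + 1 + 1))) = 2 * N := by
      rw [← Finset.mul_sum, h3]
    rw [Finset.sum_add_distrib, Finset.sum_sub_distrib, Finset.sum_add_distrib, Finset.sum_add_distrib,
      h1, h2, h3', h4, hn]
    ring

theorem two_trans : IsMultiplyPretransitive G Ω 2 := by
  haveI := S.finite_points
  haveI := S.three
  exact isMultiplyPretransitive_of_le (n := 3) (by norm_num) (by
    rw [← Nat.cast_ofNat, S.card]; have := S.five; omega)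

theorem irr_th : IsIrrCharacter G (th Ω : G → ℂ) := by
  haveI := S.finite_points
  haveI := S.trans
  exact (Cfsg.Agent.S0157.result Ω (by rw [S.card]; exact S.prime.two_le)).2 S.two_trans

/-- The principal block. -/
theorem block : ∃ (one Θ : IrrCharacter G) (Y : Finset (IrrCharacter G)),
    (∀ g, (one : G → ℂ) g = 1) ∧ (∀ g, (Θ : G → ℂ) g = th Ω g) ∧ one ≠ Θ ∧ one ∉ Y ∧ Θ ∉ Y ∧
    Y.card = (p - 1) / 2 ∧ (∀ χ ∈ Y, (χ : G → ℂ) 1 = (p : ℂ) - 2) ∧
    ∀ χ ∈ Y, ∀ g : G, ¬ p ∣ orderOf g → (χ : G → ℂ) g = th Ω g - 1 := by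
  classical
  haveI := Fact.mk S.prime
  haveI := S.finite_points
  obtain ⟨M, hM⟩ := Cfsg.Agent.GlaubermanMod.exists_isPModular p
  haveI := Agent.Blocks.IsPModular.isPrime hM
  have hp5 := S.five
  obtain ⟨P⟩ : Nonempty (Sylow p G) := inferInstance
  have he : (Subgroup.centralizer ((P : Subgroup G) : Set G)).relIndex
      (Subgroup.normalizer ((P : Subgroup G) : Set G)) = 2 := by
    obtain ⟨x, hx⟩ := exists_prime_orderOf_dvd_card' (G := (P : Subgroup G)) p (by rw [S.sylow P])
    have hx' : orderOf (x : G) = p := by rw [Subgroup.orderOf_coe, hx]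
    have hzp : Subgroup.zpowers (x : G) = (P : Subgroup G) :=
      Subgroup.eq_of_le_of_card_ge (Subgroup.zpowers_le.2 x.2) (by
        rw [S.sylow P, Nat.card_zpowers, hx'])
    have hC : Subgroup.centralizer ((P : Subgroup G) : Set G) =
        Subgroup.centralizer ({(x : G)} : Set G) := by
      refine (congrArg (fun H : Subgroup G => Subgroup.centralizer (H : Set G)) hzp.symm).trans ?_
      rw [Subgroup.zpowers_eq_closure, Subgroup.centralizer_closure]
    have hle : Subgroup.centralizer ((P : Subgroup G) : Set G) ≤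
        Subgroup.normalizer ((P : Subgroup G) : Set G) := Subgroup.centralizer_le_normalizer _
    have hcard : Nat.card (Subgroup.centralizer ((P : Subgroup G) : Set G)) = p :=
      (congrArg (fun H : Subgroup G => Nat.card H) hC).trans (S.card_centralizer hx')
    have h1 := Subgroup.index_mul_card ((Subgroup.centralizer ((P : Subgroup G) : Set G)).subgroupOf
      (Subgroup.normalizer ((P : Subgroup G) : Set G)))
    rw [Nat.card_congr (Subgroup.subgroupOfEquivOfLe hle).toEquiv, hcard, S.normalizer P] at h1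
    exact Nat.eq_of_mul_eq_mul_right S.prime.pos h1
  obtain ⟨X, Y, hXY, hdisj, hX, hY, sg, ε, hXs, hε, hYdeg, -, hrel⟩ :=
    Cfsg.Agent.S4441.result p M hM (by omega) P (S.sylow P) 2 he
  let one : IrrCharacter G := Cfsg.Agent.Char.principal G
  let Θ : IrrCharacter G := ⟨th Ω, S.irr_th⟩
  have h1v : ∀ g, (one : G → ℂ) g = 1 := fun g => rfl
  have h1deg : charDegree (one : G → ℂ) = 1 := by
    rw [charDegree, h1v, Complex.one_re, Nat.floor_one]
  have h1X : one ∈ X := by
    have hmem : one ∈ X ∪ Y := by rw [← hXY]; exact Agent.Blocks.principal_mem_principalBlock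
    rcases hmem with h | h
    · exact h
    exfalso
    have h' := Int.modEq_iff_dvd.1 (hYdeg one h)
    rw [h1deg] at h'
    rcases hε with rfl | rfl
    · have := Int.le_of_dvd (by norm_num) h'
      push_cast at this
      omega
    · have := Int.le_of_dvd (by norm_num) (Int.dvd_neg.2 h')
      push_cast at this
      omega
  obtain ⟨ξ, hξ1, hXeq⟩ : ∃ ξ, ξ ≠ one ∧ X = {one, ξ} := by
    rw [Nat.card_coe_set_eq] at hX
    obtain ⟨a, b, hab, rfl⟩ := Set.ncard_eq_two.1 hX
    rcases h1X with h | h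
    · exact ⟨b, fun e => hab (h.symm.trans e.symm), by rw [h]⟩
    · rw [Set.mem_singleton_iff] at h
      exact ⟨a, fun e => hab (e.trans h), by rw [h, Set.pair_comm]⟩
  have hs1 : sg one = 1 := by
    obtain ⟨hsgn, hcg, -⟩ := hXs one h1X
    rcases hsgn with h | h
    · exact h
    · exfalso
      rw [h1deg, h] at hcg
      have h' := Int.le_of_dvd (by norm_num) (Int.dvd_neg.2 (Int.modEq_iff_dvd.1 hcg))
      push_cast at h'
      omega
  have hΘ1 : one ≠ Θ := by
    intro h
    have := congrFun (congrArg Subtype.val h) 1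
    change (1 : ℂ) = th Ω (1 : G) at this
    rw [S.th_one] at this
    have h2 : (p : ℂ) = ((2 : ℕ) : ℂ) := by push_cast; linear_combination -this
    rw [Nat.cast_inj] at h2
    omega
  have hrel' : ∀ χ ∈ Y, ∀ g : G, ¬ p ∣ orderOf g →
      (ε : ℂ) * (χ : G → ℂ) g = 1 + (sg ξ : ℂ) * (ξ : G → ℂ) g := by
    intro χ hχ g hg
    rw [hrel χ hχ g hg, hXeq, finsum_mem_pair hξ1.symm, hs1, h1v]
    simp
  -- the inner product with the character of the permutation representation
  have hkey : ∀ χ ∈ Y,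
      (ε : ℂ) * (if χ = Θ then 1 else 0) - (sg ξ : ℂ) * (if ξ = Θ then 1 else 0) = 1 := by
    intro χ hχ
    have hχ1 : χ ≠ one := fun h => Set.disjoint_left.1 hdisj h1X (h ▸ hχ)
    set D : G → ℂ := fun g => (ε : ℂ) * (χ : G → ℂ) g - (one : G → ℂ) g - (sg ξ : ℂ) * (ξ : G → ℂ) g
    have hD0 : ∀ g, ¬ p ∣ orderOf g → D g = 0 := fun g hg => by
      simp only [D, hrel' χ hχ g hg, h1v]; ring
    have e1 : ∑ g, D g * conj ((Θ : G → ℂ) g) = - ∑ g, D g * conj ((one : G → ℂ) g) := by
      rw [← Finset.sum_neg_distrib]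
      refine Finset.sum_congr rfl fun g _ => ?_
      by_cases hg : p ∣ orderOf g
      · show D g * conj (th Ω g) = _
        rw [S.th_singular hg, h1v]
        simp
      · rw [hD0 g hg]; simp
    simp only [D, sub_mul, mul_assoc, Finset.sum_sub_distrib, ← Finset.mul_sum, sum_irr,
      if_neg hχ1, if_neg hξ1, if_pos, if_neg hΘ1] at e1
    have hG : (Nat.card G : ℂ) ≠ 0 := Nat.cast_ne_zero.2 Nat.card_pos.ne'
    refine mul_left_cancel₀ hG ?_
    split_ifs at e1 ⊢ <;> linear_combination e1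
  have hYne : ∃ χ ∈ Y, χ ≠ Θ := by
    by_contra h
    have h' : Y ⊆ {Θ} := fun χ hχ => by
      by_contra hne
      exact h ⟨χ, hχ, hne⟩
    have h2 := Set.ncard_le_ncard h' (Set.finite_singleton _)
    rw [Set.ncard_singleton, ← Nat.card_coe_set_eq, hY] at h2
    omega
  have hξΘ : ξ = Θ ∧ sg ξ = -1 := by
    obtain ⟨χ, hχ, hne⟩ := hYne
    have h := hkey χ hχ
    rw [if_neg hne, mul_zero, zero_sub] at h
    split_ifs at h with h2
    · refine ⟨h2, ?_⟩
      rw [mul_one] at h
      have : ((sg ξ : ℤ) : ℂ) = ((-1 : ℤ) : ℂ) := by push_cast; linear_combination -h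
      exact_mod_cast this
    · simp at h
  obtain ⟨rfl, hsξ⟩ := hξΘ
  have hΘY : ∀ χ ∈ Y, χ ≠ Θ := fun χ hχ h =>
    Set.disjoint_left.1 hdisj (show Θ ∈ X by rw [hXeq]; simp) (h ▸ hχ)
  haveI : Finite (IrrCharacter G) := inferInstance
  refine ⟨one, Θ, (Set.toFinite Y).toFinset, h1v, fun g => rfl, hΘ1, ?_, ?_, ?_, ?_, ?_⟩
  · rw [Set.Finite.mem_toFinset]
    exact fun h => Set.disjoint_left.1 hdisj h1X h
  · rw [Set.Finite.mem_toFinset]
    exact fun h => hΘY Θ h rfl
  · rw [← Set.ncard_eq_toFinset_card Y (Set.toFinite Y), ← Nat.card_coe_set_eq, hY]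
  all_goals
    intro χ hχ
    rw [Set.Finite.mem_toFinset] at hχ
    have hε1 : ε = -1 := by
      rcases hε with h | h
      · exfalso
        have h2 := hrel' χ hχ 1 (by rw [orderOf_one]; exact S.prime.not_dvd_one)
        rw [h, hsξ, irr_degree χ] at h2
        change _ = (1 : ℂ) + ((-1 : ℤ) : ℂ) * th Ω (1 : G) at h2
        rw [S.th_one] at h2
        push_cast at h2
        have h3 : ((charDegree (χ : G → ℂ) + p : ℕ) : ℂ) = ((2 : ℕ) : ℂ) := by
          push_cast; linear_combination h2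
        rw [Nat.cast_inj] at h3
        omega
      · exact h
  · have h2 := hrel' χ hχ 1 (by rw [orderOf_one]; exact S.prime.not_dvd_one)
    rw [hε1, hsξ] at h2
    change _ = (1 : ℂ) + ((-1 : ℤ) : ℂ) * th Ω (1 : G) at h2
    rw [S.th_one] at h2
    push_cast at h2
    linear_combination -h2
  · intro g hg
    have h2 := hrel' χ hχ g hg
    rw [hε1, hsξ] at h2
    change _ = (1 : ℂ) + ((-1 : ℤ) : ℂ) * th Ω g at h2
    push_cast at h2
    linear_combination -h2

end Setup

end Cfsg.Agent.DegreePTwo
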