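import Cfsg.Agent.Lib.DegreePTwo.BlkSL
import Cfsg.Agent.S0157
import Cfsg.Agent.S4441
import Cfsg.Agent.S0494
import Cfsg.Agent.Lib.Char.GlaubermanMod
import Cfsg.Agent.Lib.Blocks.Block

/-! Primitive groups of degree `2 p` with Sylow normalizer of order `2 p`. -/

set_option autoImplicit false
set_option linter.style.haveILetI false

namespace Cfsg.Agent.DegreePTwo

open MulAction Cfsg Cfsg.Agent.Char
open scoped ComplexConjugate

universe u v

/-- The arithmetic excluding exceptional constituents. -/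
theorem no_exceptional {p a d b e : ℕ} {s ε : ℤ} (hp : p.Prime) (h5 : 5 ≤ p) (hs : s = 1 ∨ s = -1)
    (hε : ε = 1 ∨ ε = -1) (hmod : (p : ℤ) ∣ (d : ℤ) - s) (he : 3 ≤ e) (he2 : ε * (e : ℤ) = 1 + s * (d : ℤ))
    (hrel : ε * (b : ℤ) = 1 + s * (a : ℤ)) (hdeg : (p - 1) / 2 * (b * e) + a * d + 1 ≤ 2 * p) :
    b = 0 := by
  by_contra hb
  have hd : d ≠ 0 := by
    rintro rfl
    rcases hs with rfl | rfl <;>
    · have := Int.le_of_dvd (by norm_num) (show (p : ℤ) ∣ 1 by simpa using hmod)
      omega
  have he' : p - 2 ≤ e := by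
    obtain ⟨k, hk⟩ := hmod
    have hk' : (d : ℤ) = (p : ℤ) * k + s := by linarith
    rw [hk'] at he2
    rcases hs with rfl | rfl <;> rcases hε with rfl | rfl <;>
    · by_contra hlt
      have h1 : (p : ℤ) ∣ (e : ℤ) - 2 ∨ (p : ℤ) ∣ (e : ℤ) + 2 := by
        first
          | exact Or.inl ⟨k, by linarith⟩
          | exact Or.inl ⟨-k, by linarith⟩
          | exact Or.inr ⟨k, by linarith⟩
          | exact Or.inr ⟨-k, by linarith⟩
      rcases h1 with h | h
      · have := Int.le_of_dvd (by omega) h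
        omega
      · have := Int.le_of_dvd (by omega) h
        omega
  have h1 := Nat.mul_le_mul (le_refl ((p - 1) / 2)) (Nat.mul_le_mul (show 1 ≤ b by omega) he')
  rw [one_mul] at h1
  rcases Nat.lt_or_ge p 7 with h7 | h7
  · have hp5 : p = 5 := by
      by_contra h
      have : p = 6 := by omega
      subst this
      norm_num at hp
    subst hp5
    norm_num at hdeg h1
    have hbe : b * e ≤ 4 := by omega
    have hbe' := Nat.mul_le_mul (show 1 ≤ b by omega) (le_refl e)
    rw [one_mul] at hbe'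
    have hb1 : b = 1 := by
      by_contra h
      have := Nat.mul_le_mul (show 2 ≤ b by omega) he
      omega
    subst hb1
    rw [one_mul] at hbe hdeg
    rcases hs with rfl | rfl <;> rcases hε with rfl | rfl
    · omega
    · omega
    · omega
    · have ha : a = 2 := by omega
      subst ha
      omega
  · have h2 : 3 * (p - 2) ≤ (p - 1) / 2 * (p - 2) := Nat.mul_le_mul (by omega) le_rfl
    omega

variable {G : Type u} [Group G] [Fintype G] {Ω : Type v} [MulAction G Ω] [Finite Ω] [FaithfulSMul G Ω]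

/-- Nontrivial normal subgroups of a primitive group of degree `2 p` with small Sylow normalizer. -/
theorem simple_of_normalizer {p : ℕ} [Fact p.Prime] (h5 : 5 ≤ p) (hΩ : Nat.card Ω = 2 * p)
    (hprim : IsPreprimitive G Ω) (P : Sylow p G) (hP : Nat.card (P : Subgroup G) = p)
    (hN : Nat.card (Subgroup.normalizer ((P : Subgroup G) : Set G)) = 2 * p) :
    ∀ K : Subgroup G, K.Normal → K = ⊥ ∨ K = ⊤ := by
  classical
  have hp := (Fact.out : p.Prime)
  have hdvd : ∀ K : Subgroup G, K.Normal → K ≠ ⊥ → 2 * p ∣ Nat.card K := by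
    intro K hK hne
    haveI := hK
    have hfix : fixedPoints K Ω ≠ Set.univ := fun h => hne ((Subgroup.eq_bot_iff_forall _).2 fun g hg => by
      refine FaithfulSMul.eq_of_smul_eq_smul (α := Ω) fun x => ?_
      have hx : x ∈ fixedPoints K Ω := h ▸ Set.mem_univ x
      rw [one_smul]
      exact hx ⟨g, hg⟩)
    haveI : IsPretransitive K Ω := IsQuasiPreprimitive.isPretransitive_of_normal (G := G) hfix
    obtain ⟨a⟩ : Nonempty Ω := (Nat.card_pos_iff.1 (by omega)).1
    rw [← hΩ, ← index_stabilizer_of_transitive K a]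
    exact Subgroup.index_dvd_card _
  intro K hK
  haveI := hK
  rw [or_iff_not_imp_left]
  intro hne
  have hpK : p ∣ Nat.card K := (Dvd.intro_left 2 rfl).trans (hdvd K hK hne)
  obtain ⟨y, hy⟩ := exists_prime_orderOf_dvd_card' (G := K) p hpK
  have hzy : IsPGroup p (Subgroup.zpowers (y : G)) :=
    IsPGroup.of_card (n := 1) (by rw [Nat.card_zpowers, Subgroup.orderOf_coe, hy, pow_one])
  obtain ⟨Q, hQ⟩ := hzy.exists_le_sylow
  obtain ⟨g, hg⟩ := MulAction.exists_smul_eq G Q P
  have hPQ : Nat.card (Q : Subgroup G) = p := by rw [Q.card_eq_multiplicity, ← P.card_eq_multiplicity, hP]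
  have hQe : Subgroup.zpowers (y : G) = (Q : Subgroup G) :=
    Subgroup.eq_of_le_of_card_ge hQ (by rw [hPQ, Nat.card_zpowers, Subgroup.orderOf_coe, hy])
  have hPK : (P : Subgroup G) ≤ K := by
    intro x hx
    rw [← hg, Sylow.coe_subgroup_smul, Subgroup.mem_pointwise_smul_iff_inv_smul_mem, ← hQe] at hx
    have h := (Subgroup.zpowers_le.2 y.2) hx
    have h' := hK.conj_mem _ h g
    simpa [MulAut.smul_def, mul_assoc] using h'
  by_cases hNK : Subgroup.normalizer ((P : Subgroup G) : Set G) ≤ K
  · have h := P.normalizer_sup_eq_top' hPK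
    rw [← h]
    exact (sup_eq_right.2 hNK).symm
  exfalso
  set PK := P.subtype hPK with hPKdef
  have hPKcard : Nat.card (PK : Subgroup K) = p := by
    rw [PK.card_eq_multiplicity]
    have h1 : (Nat.card K).factorization p ≤ 1 := by
      have h2 : (Nat.card K).factorization p ≤ (Nat.card G).factorization p :=
        (Nat.factorization_le_iff_dvd Nat.card_pos.ne' Nat.card_pos.ne').2 (Subgroup.card_subgroup_dvd_card K) p
      have h3 : p ^ (Nat.card G).factorization p = p ^ 1 := by rw [← P.card_eq_multiplicity, hP, pow_one]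
      rw [Nat.pow_right_injective hp.two_le h3] at h2
      exact h2
    have h4 := (hp.dvd_iff_one_le_factorization Nat.card_pos.ne').1 hpK
    rw [show (Nat.card K).factorization p = 1 by omega, pow_one]
  have hNc : Nat.card (Subgroup.normalizer ((PK : Subgroup K) : Set K)) = p := by
    set Nk := Subgroup.normalizer ((PK : Subgroup K) : Set K) with hNk
    have hle : Nk.map K.subtype ≤ Subgroup.normalizer ((P : Subgroup G) : Set G) := by
      rintro _ ⟨n, hn, rfl⟩
      rw [Subgroup.mem_normalizer_iff]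
      intro h
      have hn' := Subgroup.mem_normalizer_iff.1 hn
      constructor
      · intro hh
        have := (hn' ⟨h, hPK hh⟩).1 (by simpa [hPKdef, Sylow.coe_subtype, Subgroup.mem_subgroupOf] using hh)
        simpa [hPKdef, Sylow.coe_subtype, Subgroup.mem_subgroupOf] using this
      · intro hh
        have hhK : h ∈ K := by
          have := hK.conj_mem _ (hPK hh) (n : G)⁻¹
          simpa [mul_assoc] using this
        have := (hn' ⟨h, hhK⟩).2 (by simpa [hPKdef, Sylow.coe_subtype, Subgroup.mem_subgroupOf] using hh)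
        simpa [hPKdef, Sylow.coe_subtype, Subgroup.mem_subgroupOf] using this
    have hd : Nat.card Nk ∣ 2 * p := by
      rw [← hN, ← Subgroup.card_map_of_injective (Subgroup.subtype_injective K) (K := Nk)]
      exact Subgroup.card_dvd_of_le hle
    have hd' : p ∣ Nat.card Nk := hPKcard ▸ Subgroup.card_dvd_of_le Subgroup.le_normalizer
    obtain ⟨k, hk⟩ := hd'
    rw [hk, mul_comm 2 p] at hd
    rcases (Nat.dvd_prime Nat.prime_two).1 (Nat.dvd_of_mul_dvd_mul_left hp.pos hd) with rfl | rfl
    · rw [hk, mul_one]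
    · exfalso
      refine hNK fun x hx => ?_
      have he : Nk.map K.subtype = Subgroup.normalizer ((P : Subgroup G) : Set G) :=
        Subgroup.eq_of_le_of_card_ge hle (by
          rw [hN, Subgroup.card_map_of_injective (Subgroup.subtype_injective K), hk, mul_comm])
      rw [← he] at hx
      obtain ⟨z, -, rfl⟩ := hx
      exact z.2
  haveI : IsCyclic (PK : Subgroup K) := isCyclic_of_prime_card hPKcard
  have hcent : Subgroup.normalizer ((PK : Subgroup K) : Set K) ≤
      Subgroup.centralizer ((PK : Subgroup K) : Set K) := by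
    have he : (PK : Subgroup K) = Subgroup.normalizer ((PK : Subgroup K) : Set K) :=
      Subgroup.eq_of_le_of_card_ge Subgroup.le_normalizer (by rw [hNc, hPKcard])
    intro a ha
    rw [← he] at ha
    rw [Subgroup.mem_centralizer_iff]
    intro b hb
    obtain ⟨c, hc⟩ := IsCyclic.exists_generator (α := (PK : Subgroup K))
    obtain ⟨i, hi⟩ := hc ⟨a, ha⟩
    obtain ⟨j, hj⟩ := hc ⟨b, hb⟩
    have := (Commute.zpow_zpow (Commute.refl c) j i).eq
    simp only at hi hj
    rw [hi, hj] at this
    exact congrArg Subtype.val this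
  set L := (MonoidHom.transferSylow PK hcent).ker with hL
  have hcompl := MonoidHom.ker_transferSylow_isComplement' PK hcent
  have hLcard : Nat.card L * p = Nat.card K := by
    rw [← hPKcard]; exact hcompl.card_mul
  have hLp : ¬ p ∣ Nat.card L := by
    intro h
    have h2 : p ^ 2 ∣ Nat.card K := by rw [← hLcard, sq]; exact Nat.mul_dvd_mul h dvd_rfl
    have h3 := (hp.pow_dvd_iff_le_factorization Nat.card_pos.ne').1 h2
    have h4 := PK.card_eq_multiplicity
    rw [hPKcard] at h4
    have h5' : (Nat.card K).factorization p = 1 :=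
      Nat.pow_right_injective hp.two_le (show p ^ _ = p ^ 1 by rw [← h4, pow_one])
    omega
  -- the complement consists of all elements of order prime to `p`
  have hLmem : ∀ z : K, z ∈ L ↔ ¬ p ∣ orderOf z := by
    intro z
    refine ⟨fun hz hd => hLp (hd.trans (Subgroup.orderOf_dvd_natCard _ hz)), fun hz => ?_⟩
    rw [hL, MonoidHom.mem_ker]
    have h1 : orderOf (MonoidHom.transferSylow PK hcent z) ∣ orderOf z := orderOf_map_dvd _ z
    have h2 : orderOf (MonoidHom.transferSylow PK hcent z) ∣ p :=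
      (orderOf_dvd_natCard _).trans (dvd_of_eq hPKcard)
    rcases (Nat.dvd_prime hp).1 h2 with h | h
    · exact orderOf_eq_one_iff.1 h
    · exact absurd (h ▸ h1) hz
  set LG := L.map K.subtype with hLG
  have hLGn : LG.Normal := ⟨by
    rintro _ ⟨z, hz, rfl⟩ g
    refine ⟨⟨g * z * g⁻¹, hK.conj_mem _ z.2 g⟩, (hLmem _).2 ?_, rfl⟩
    have e : orderOf (⟨g * z * g⁻¹, hK.conj_mem _ z.2 g⟩ : K) = orderOf z := by
      rw [← Subgroup.orderOf_coe, ← Subgroup.orderOf_coe z]
      exact MulEquiv.orderOf_eq (MulAut.conj g) (z : G)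
    rw [e]
    exact (hLmem z).1 hz⟩
  by_cases hbot : LG = ⊥
  · have h1 : Nat.card L = 1 := by
      rw [← Subgroup.card_map_of_injective (Subgroup.subtype_injective K) (K := L), ← hLG, hbot, Subgroup.card_bot]
    rw [h1, one_mul] at hLcard
    have := Nat.le_of_dvd (by omega) (hLcard.symm ▸ hdvd K hK hne)
    omega
  · have h := hdvd LG hLGn hbot
    rw [hLG, Subgroup.card_map_of_injective (Subgroup.subtype_injective K)] at h
    exact hLp ((Dvd.intro_left 2 rfl).trans h)

/-- The block data of such a group. -/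
theorem exists_blk {p : ℕ} [Fact p.Prime] (h5 : 5 ≤ p) (hΩ : Nat.card Ω = 2 * p)
    (hprim : IsPreprimitive G Ω) (hnot2 : ¬ IsMultiplyPretransitive G Ω 2) (P : Sylow p G)
    (hN : Nat.card (Subgroup.normalizer ((P : Subgroup G) : Set G)) = 2 * p) :
    IsSimpleGroup G ∧ ∃ (one θ : IrrCharacter G) (Y : Finset (IrrCharacter G)), Blk p one θ Y := by
  classical
  haveI := hprim
  have hp := (Fact.out : p.Prime)
  have hp2 : p ≠ 2 := by omega
  obtain ⟨a₀⟩ : Nonempty Ω := (Nat.card_pos_iff.1 (by omega)).1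
  have hidx : (stabilizer G a₀).index = 2 * p := by rw [index_stabilizer_of_transitive, hΩ]
  have hpG : p ∣ Nat.card G := (Dvd.intro_left 2 rfl).trans (hidx ▸ Subgroup.index_dvd_card _)
  -- the Sylow subgroup has order `p`
  have hP : Nat.card (P : Subgroup G) = p := by
    have h1 : Nat.card (P : Subgroup G) ∣ 2 * p := hN ▸ Subgroup.card_dvd_of_le Subgroup.le_normalizer
    rw [P.card_eq_multiplicity] at h1 ⊢
    have h2 := (hp.dvd_iff_one_le_factorization Nat.card_pos.ne').1 hpG
    have h3 : ¬ 2 ≤ (Nat.card G).factorization p := by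
      intro h
      have h4 : p ^ 2 ∣ 2 * p := (pow_dvd_pow p h).trans h1
      rw [sq] at h4
      have := Nat.le_of_dvd (by norm_num) (Nat.dvd_of_mul_dvd_mul_right hp.pos h4)
      omega
    rw [show (Nat.card G).factorization p = 1 by omega, pow_one]
  have hsimp := simple_of_normalizer h5 hΩ hprim P hP hN
  have hnt : Nontrivial G := by
    rw [← Finite.one_lt_card_iff_nontrivial]
    have := Nat.le_of_dvd Nat.card_pos hpG
    omega
  have hsimple : IsSimpleGroup G := ⟨fun K hK => hsimp K hK⟩
  have hPne : (P : Subgroup G) ≠ ⊥ := fun h => by rw [h, Subgroup.card_bot] at hP; omega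
  have hPnt : (P : Subgroup G) ≠ ⊤ := fun h => by
    have h1 := hN
    rw [h, Subgroup.coe_top] at h1
    have h2 : Nat.card (P : Subgroup G) = Nat.card G := by rw [h, Subgroup.card_top]
    have h3 := Nat.le_of_dvd Nat.card_pos (hidx ▸ Subgroup.index_dvd_card (stabilizer G a₀))
    omega
  have hsyl : ∀ Q : Sylow p G, Nat.card (Q : Subgroup G) = p := fun Q => by
    rw [Q.card_eq_multiplicity, ← P.card_eq_multiplicity, hP]
  have hnor : ∀ Q : Sylow p G, Nat.card (Subgroup.normalizer ((Q : Subgroup G) : Set G)) = 2 * p := by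
    intro Q
    rw [← hN]
    have e1 : Nat.card (Sylow p G) = (Subgroup.normalizer ((P : Subgroup G) : Set G)).index :=
      Sylow.card_eq_index_normalizer P
    have e2 : Nat.card (Sylow p G) = (Subgroup.normalizer ((Q : Subgroup G) : Set G)).index :=
      Sylow.card_eq_index_normalizer Q
    have h1 := Subgroup.index_mul_card (Subgroup.normalizer ((P : Subgroup G) : Set G))
    have h2 := Subgroup.index_mul_card (Subgroup.normalizer ((Q : Subgroup G) : Set G))
    rw [← e1] at h1
    rw [← e2] at h2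
    exact Nat.eq_of_mul_eq_mul_left Nat.card_pos (h2.trans h1.symm)
  -- self-centralizing
  have hcentP : ∀ Q : Sylow p G, Nat.card (Subgroup.centralizer ((Q : Subgroup G) : Set G)) = p := by
    intro Q
    haveI : IsCyclic (Q : Subgroup G) := isCyclic_of_prime_card (hsyl Q)
    set C := Subgroup.centralizer ((Q : Subgroup G) : Set G) with hC
    have hle : C ≤ Subgroup.normalizer ((Q : Subgroup G) : Set G) := Subgroup.centralizer_le_normalizer _
    have hQC : (Q : Subgroup G) ≤ C := fun a ha => by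
      rw [hC, Subgroup.mem_centralizer_iff]
      intro b hb
      obtain ⟨c, hc⟩ := IsCyclic.exists_generator (α := (Q : Subgroup G))
      obtain ⟨i, hi⟩ := hc ⟨a, ha⟩
      obtain ⟨j, hj⟩ := hc ⟨b, hb⟩
      have := (Commute.zpow_zpow (Commute.refl c) j i).eq
      simp only at hi hj
      rw [hi, hj] at this
      exact congrArg Subtype.val this
    obtain ⟨k, hk⟩ : p ∣ Nat.card C := hsyl Q ▸ Subgroup.card_dvd_of_le hQC
    have hd : Nat.card C ∣ 2 * p := hnor Q ▸ Subgroup.card_dvd_of_le hle
    rw [hk, mul_comm 2 p] at hd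
    rcases (Nat.dvd_prime Nat.prime_two).1 (Nat.dvd_of_mul_dvd_mul_left hp.pos hd) with rfl | rfl
    · rw [hk, mul_one]
    exfalso
    have he : C = Subgroup.normalizer ((Q : Subgroup G) : Set G) :=
      Subgroup.eq_of_le_of_card_ge hle (by rw [hnor Q, hk, mul_comm])
    have hcent : Subgroup.normalizer ((Q : Subgroup G) : Set G) ≤ Subgroup.centralizer ((Q : Subgroup G) : Set G) :=
      he.ge
    have hcompl := MonoidHom.ker_transferSylow_isComplement' Q hcent
    have h1 := hcompl.card_mul
    rcases hsimp _ (MonoidHom.normal_ker (MonoidHom.transferSylow Q hcent)) with h | h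
    · rw [h, Subgroup.card_bot, one_mul, hsyl Q] at h1
      have := Nat.le_of_dvd Nat.card_pos (hidx ▸ Subgroup.index_dvd_card (stabilizer G a₀))
      omega
    · rw [h, Subgroup.card_top, hsyl Q] at h1
      have h2 : p = 1 := Nat.eq_of_mul_eq_mul_left (Nat.card_pos (α := G)) (by omega)
      omega
  have hgen : ∀ x : G, orderOf x = p → ∃ Q : Sylow p G, Subgroup.zpowers x = (Q : Subgroup G) := by
    intro x hx
    have hpx : IsPGroup p (Subgroup.zpowers x) :=
      IsPGroup.of_card (n := 1) (by rw [Nat.card_zpowers, hx, pow_one])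
    obtain ⟨Q, hQ⟩ := hpx.exists_le_sylow
    exact ⟨Q, Subgroup.eq_of_le_of_card_ge hQ (by rw [hsyl Q, Nat.card_zpowers, hx])⟩
  have hcent : ∀ x : G, orderOf x = p → Nat.card (Subgroup.centralizer ({x} : Set G)) = p := by
    intro x hx
    obtain ⟨Q, hQ⟩ := hgen x hx
    have e : Subgroup.centralizer ({x} : Set G) = Subgroup.centralizer ((Q : Subgroup G) : Set G) := by
      rw [← Subgroup.centralizer_closure ({x} : Set G), ← Subgroup.zpowers_eq_closure]
      exact congrArg (fun H : Subgroup G => Subgroup.centralizer (H : Set G)) hQ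
    rw [e]
    exact hcentP Q
  have hsing : ∀ g : G, p ∣ orderOf g → orderOf g = p := by
    intro g hg
    have hpow : orderOf (g ^ (orderOf g / p)) = p := orderOf_pow_orderOf_div (orderOf_pos g).ne' hg
    have hmem : g ∈ Subgroup.centralizer ({g ^ (orderOf g / p)} : Set G) :=
      Subgroup.mem_centralizer_singleton_iff.2 ((Commute.refl g).pow_right _).eq
    have h1 := Subgroup.orderOf_dvd_natCard _ hmem
    rw [hcent _ hpow] at h1
    exact Nat.dvd_antisymm h1 hg
  -- the principal block
  obtain ⟨M, hM⟩ := Cfsg.Agent.GlaubermanMod.exists_isPModular p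
  haveI := Agent.Blocks.IsPModular.isPrime hM
  have he : (Subgroup.centralizer ((P : Subgroup G) : Set G)).relIndex
      (Subgroup.normalizer ((P : Subgroup G) : Set G)) = 2 := by
    have h1 := Subgroup.index_mul_card ((Subgroup.centralizer ((P : Subgroup G) : Set G)).subgroupOf
      (Subgroup.normalizer ((P : Subgroup G) : Set G)))
    rw [Nat.card_congr (Subgroup.subgroupOfEquivOfLe (Subgroup.centralizer_le_normalizer _)).toEquiv,
      hcentP P, hN] at h1
    exact Nat.eq_of_mul_eq_mul_right hp.pos h1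
  obtain ⟨X, Y, hXY, hdisj, hX, hY, sg, ε, hXs, hε, hYdeg, -, hrel⟩ :=
    Cfsg.Agent.S4441.result p M hM hp2 P hP 2 he
  let one : IrrCharacter G := Cfsg.Agent.Char.principal G
  have h1v : ∀ g, (one : G → ℂ) g = 1 := fun g => rfl
  have h1deg : charDegree (one : G → ℂ) = 1 := by
    rw [charDegree, h1v, Complex.one_re, Nat.floor_one]
  have h1X : one ∈ X := by
    have hmem : one ∈ X ∪ Y := by rw [← hXY]; exact Agent.Blocks.principal_mem_principalBlock
    rcases hmem with h | h
    · exact h
    exfalso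
    have h' := Int.modEq_iff_dvd.1 (hYdeg one h)
    rw [h1deg] at h'
    rcases hε with rfl | rfl
    · have := Int.le_of_dvd (by norm_num) h'
      push_cast at this
      omega
    · have := Int.le_of_dvd (by norm_num) (Int.dvd_neg.2 h')
      push_cast at this
      omega
  obtain ⟨ξ, hξ1, hXeq⟩ : ∃ ξ, ξ ≠ one ∧ X = {one, ξ} := by
    rw [Nat.card_coe_set_eq] at hX
    obtain ⟨a, b, hab, rfl⟩ := Set.ncard_eq_two.1 hX
    rcases h1X with h | h
    · exact ⟨b, fun e => hab (h.symm.trans e.symm), by rw [h]⟩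
    · rw [Set.mem_singleton_iff] at h
      exact ⟨a, fun e => hab (e.trans h), by rw [h, Set.pair_comm]⟩
  have hξX : ξ ∈ X := by rw [hXeq]; simp
  have hs1 : sg one = 1 := by
    obtain ⟨hsgn, hcg, -⟩ := hXs one h1X
    rcases hsgn with h | h
    · exact h
    · exfalso
      rw [h1deg, h] at hcg
      have h' := Int.le_of_dvd (by norm_num) (Int.dvd_neg.2 (Int.modEq_iff_dvd.1 hcg))
      push_cast at h'
      omega
  obtain ⟨hsgn, hξmod, hξval⟩ := hXs ξ hξX
  set s := sg ξ with hsdef
  have hξsing : ∀ g : G, p ∣ orderOf g → (ξ : G → ℂ) g = (s : ℂ) := by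
    intro g hg
    obtain ⟨Q, hQ⟩ := hgen g (hsing g hg)
    obtain ⟨c, hc⟩ := MulAction.exists_smul_eq G Q P
    have hmem : c * g * c⁻¹ ∈ (P : Subgroup G) := by
      rw [← hc, Sylow.coe_subgroup_smul, Subgroup.mem_pointwise_smul_iff_inv_smul_mem, ← hQ]
      have : (MulAut.conj c)⁻¹ • (c * g * c⁻¹) = g := by
        rw [inv_smul_eq_iff]; rfl
      rw [this]
      exact Subgroup.mem_zpowers g
    have h := hξval (c * g * c⁻¹) hmem (fun e => by
      have : g = 1 := conj_eq_one_iff.1 e
      rw [this, orderOf_one] at hg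
      exact hp.not_dvd_one hg) 1 (Subgroup.one_mem _) (by rw [orderOf_one]; exact hp.not_dvd_one)
    rw [mul_one] at h
    rw [← h]
    exact (IsCharacter.isClassFunction (IsIrrCharacter.isCharacter ξ.2) g c).symm
  have hrel' : ∀ χ ∈ Y, ∀ g : G, ¬ p ∣ orderOf g →
      (ε : ℂ) * (χ : G → ℂ) g = 1 + (s : ℂ) * (ξ : G → ℂ) g := by
    intro χ hχ g hg
    rw [hrel χ hχ g hg, hXeq, finsum_mem_pair hξ1.symm, hs1, h1v, hsdef]
    simp
  have hχne : ∀ χ ∈ Y, χ ≠ one ∧ χ ≠ ξ := fun χ hχ =>
    ⟨fun h => Set.disjoint_left.1 hdisj h1X (h ▸ hχ), fun h => Set.disjoint_left.1 hdisj hξX (h ▸ hχ)⟩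
  -- nonprincipal irreducible characters are not linear
  have hlin : ∀ ψ : IrrCharacter G, ψ ≠ one → charDegree (ψ : G → ℂ) ≠ 1 := by
    intro ψ hψ h
    have h1 : (ψ : G → ℂ) 1 = 1 := by rw [irr_degree, h, Nat.cast_one]
    obtain ⟨f, hf⟩ := exists_hom_of_degree_one (IsIrrCharacter.isCharacter ψ.2) h1
    rcases hsimp f.ker (MonoidHom.normal_ker f) with hk | hk
    · have hinj : Function.Injective f := (MonoidHom.ker_eq_bot_iff f).1 hk
      have hcomm : ∀ a b : G, a * b = b * a := fun a b => hinj (by rw [map_mul, map_mul, mul_comm])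
      have hn : (P : Subgroup G).Normal := ⟨fun n hn g => by rw [hcomm g n, mul_inv_cancel_right]; exact hn⟩
      rcases hsimp _ hn with h' | h'
      · exact hPne h'
      · exact hPnt h'
    · refine hψ (Subtype.ext (funext fun g => ?_))
      have hg : g ∈ f.ker := hk ▸ Subgroup.mem_top g
      rw [h1v]
      simp [hf, MonoidHom.mem_ker.1 hg]
  -- the permutation character
  have hfd : FiniteDimensional ℂ (MonoidAlgebra ℂ Ω) := Module.Finite.of_basis (MonoidAlgebra.basis Ω ℂ)
  set π : G → ℂ := fun g => (Nat.card (fixedBy Ω g) : ℂ) with hπ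
  have hπc : Cfsg.IsCharacter G π := by
    have := isCharacter_of_rep (Representation.ofMulAction ℂ G Ω)
    rwa [show (Representation.ofMulAction ℂ G Ω).character = π from
      funext fun g => character_ofMulAction Ω g] at this
  have hπsing : ∀ g : G, p ∣ orderOf g → π g = 0 := by
    intro g hg
    suffices h : IsEmpty (fixedBy Ω g) by
      simp only [hπ, Nat.card_of_isEmpty, Nat.cast_zero]
    refine ⟨fun a => ?_⟩
    have hmem : g ∈ stabilizer G (a : Ω) := a.2
    have h1 := Subgroup.orderOf_dvd_natCard _ hmem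
    rw [hsing g hg] at h1
    have h2 : p * p ∣ Nat.card G := by
      rw [← Subgroup.card_mul_index (stabilizer G (a : Ω)), index_stabilizer_of_transitive, hΩ]
      exact Nat.mul_dvd_mul h1 (Dvd.intro_left 2 rfl)
    rw [← sq] at h2
    have h3 := (hp.pow_dvd_iff_le_factorization Nat.card_pos.ne').1 h2
    have h4 := P.card_eq_multiplicity
    rw [hP] at h4
    have : (Nat.card G).factorization p = 1 := Nat.pow_right_injective hp.two_le (show p ^ _ = p ^ 1 by rw [← h4, pow_one])
    omega
  have hG : (Nat.card G : ℂ) ≠ 0 := Nat.cast_ne_zero.2 Nat.card_pos.ne'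
  have hnat : ∀ ψ : IrrCharacter G, ∃ c : ℕ, Cfsg.classInner π (ψ : G → ℂ) = (c : ℂ) := fun ψ =>
    IsCharacter.exists_classInner_nat hπc (IsIrrCharacter.isCharacter ψ.2)
  choose m hm using hnat
  have hinner : ∀ ψ : IrrCharacter G, ∑ g : G, π g * conj ((ψ : G → ℂ) g) = (m ψ : ℂ) * (Nat.card G : ℂ) := by
    intro ψ
    have h := hm ψ
    rw [Cfsg.classInner, inv_mul_eq_iff_eq_mul₀ hG] at h
    rw [h, mul_comm]
  have hπ1 : ∑ g : G, π g = (Nat.card G : ℂ) := by
    rw [hπ, ← Nat.cast_sum, sum_natCard_fixedBy]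
    have : Nat.card (Quotient (orbitRel G Ω)) = 1 := by
      rw [Nat.card_eq_one_iff_unique]
      refine ⟨⟨fun x y => ?_⟩, ⟨Quotient.mk _ a₀⟩⟩
      induction x using Quotient.ind with | _ a => ?_
      induction y using Quotient.ind with | _ b => ?_
      exact Quotient.sound (exists_smul_eq G b a)
    rw [this, one_mul]
  have hm1 : m one = 1 := by
    have h := hinner one
    simp only [h1v, map_one, mul_one, hπ1] at h
    have : ((m one : ℕ) : ℂ) * (Nat.card G : ℂ) = ((1 : ℕ) : ℂ) * (Nat.card G : ℂ) := by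
      rw [← h]; simp
    exact_mod_cast mul_right_cancel₀ hG this
  have hmrel : ∀ χ ∈ Y, ε * (m χ : ℤ) = 1 + s * (m ξ : ℤ) := by
    intro χ hχ
    have e : ∑ g : G, π g * conj ((ε : ℂ) * (χ : G → ℂ) g - 1 - (s : ℂ) * (ξ : G → ℂ) g) = 0 := by
      refine Finset.sum_eq_zero fun g _ => ?_
      by_cases hg : p ∣ orderOf g
      · rw [hπsing g hg, zero_mul]
      · rw [hrel' χ hχ g hg]; simp
    simp only [map_sub, map_mul, map_one, map_intCast, mul_sub, mul_one, Finset.sum_sub_distrib,
      mul_left_comm (π _), ← Finset.mul_sum, hinner, hπ1] at e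
    have h : ((ε * (m χ : ℤ) : ℤ) : ℂ) = ((1 + s * (m ξ : ℤ) : ℤ) : ℂ) := by
      push_cast
      refine mul_right_cancel₀ hG ?_
      linear_combination e
    exact_mod_cast h
  set Yf := (Set.toFinite Y).toFinset with hYf
  have hYcard : Yf.card = (p - 1) / 2 := by
    rw [hYf, ← Set.ncard_eq_toFinset_card Y (Set.toFinite Y), ← Nat.card_coe_set_eq, hY]
  have hYmem : ∀ χ, χ ∈ Yf ↔ χ ∈ Y := fun χ => Set.Finite.mem_toFinset _
  -- degrees
  set d := charDegree (ξ : G → ℂ) with hd
  have hχdeg : ∀ χ ∈ Y, ε * (charDegree (χ : G → ℂ) : ℤ) = 1 + s * (d : ℤ) := by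
    intro χ hχ
    have h := hrel' χ hχ 1 (by rw [orderOf_one]; exact hp.not_dvd_one)
    rw [irr_degree, irr_degree ξ] at h
    have h' : ((ε * (charDegree (χ : G → ℂ) : ℤ) : ℤ) : ℂ) = ((1 + s * (d : ℤ) : ℤ) : ℂ) := by
      push_cast
      exact h
    exact_mod_cast h'
  have hdeg0 : ∀ ψ : IrrCharacter G, 0 < charDegree (ψ : G → ℂ) := by
    intro ψ
    obtain ⟨k, hk0, hk⟩ := IsIrrCharacter.exists_degree ψ.2
    rw [charDegree, hk, Complex.natCast_re, Nat.floor_natCast]
    omega
  have hd2 : 2 ≤ d := by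
    have := hlin ξ hξ1
    have := hdeg0 ξ
    omega
  have hdmod : (p : ℤ) ∣ (d : ℤ) - s := by
    have := Int.modEq_iff_dvd.1 hξmod
    rw [dvd_sub_comm] at this
    exact this
  have hχ3 : ∀ χ ∈ Y, 3 ≤ charDegree (χ : G → ℂ) := by
    intro χ hχ
    have h1 := hlin χ (hχne χ hχ).1
    have h2 := hdeg0 χ
    have h3 := hχdeg χ hχ
    by_contra h
    have e : charDegree (χ : G → ℂ) = 2 := by omega
    rw [e] at h3
    rcases hsgn with hs | hs <;> rcases hε with hε' | hε' <;> simp only [hs, hε'] at h3 hdmod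
    · omega
    · omega
    · omega
    · have h4 : (d : ℤ) = 3 := by omega
      rw [h4] at hdmod
      have := Int.le_of_dvd (by norm_num) hdmod
      omega
  have hbudget : ∀ χ ∈ Y, (p - 1) / 2 * (m χ * charDegree (χ : G → ℂ)) + m ξ * d + 1 ≤ 2 * p := by
    intro χ hχ
    have hdec := congrFun (classFunction_eq_sum (IsCharacter.isClassFunction hπc)) 1
    simp only [Finset.sum_apply, Pi.smul_apply, smul_eq_mul, hm, irr_degree, ← Nat.cast_mul,
      ← Nat.cast_sum] at hdec
    have hπone : π 1 = ((2 * p : ℕ) : ℂ) := by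
      have : Nat.card (fixedBy Ω (1 : G)) = 2 * p := by
        rw [← hΩ]
        exact Nat.card_congr ((Equiv.setCongr (by ext a; simp)).trans (Equiv.Set.univ Ω))
      simp only [hπ, this]
    rw [hπone, Nat.cast_inj] at hdec
    have hsub : insert one (insert ξ Yf) ⊆ (Finset.univ : Finset (IrrCharacter G)) := Finset.subset_univ _
    have hle := Finset.sum_le_sum_of_subset hsub (f := fun ψ => m ψ * charDegree (ψ : G → ℂ))
    rw [← hdec, Finset.sum_insert (by
        simp only [Finset.mem_insert, hYmem, not_or]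
        exact ⟨hξ1.symm, fun h => (hχne _ h).1 rfl⟩),
      Finset.sum_insert (by rw [hYmem]; exact fun h => (hχne _ h).2 rfl), hm1, h1deg,
      Finset.sum_congr rfl (g := fun _ => m χ * charDegree (χ : G → ℂ)) (fun ψ hψ => ?_),
      Finset.sum_const, hYcard, smul_eq_mul, ← hd] at hle
    · omega
    · have h1 := hmrel ψ ((hYmem ψ).1 hψ)
      have h2 := hmrel χ hχ
      have h3 := hχdeg ψ ((hYmem ψ).1 hψ)
      have h4 := hχdeg χ hχ
      have hε0 : ε ≠ 0 := by omega
      have e1 : (m ψ : ℤ) = m χ := mul_left_cancel₀ hε0 (h1.trans h2.symm)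
      have e2 : (charDegree (ψ : G → ℂ) : ℤ) = charDegree (χ : G → ℂ) :=
        mul_left_cancel₀ hε0 (h3.trans h4.symm)
      rw [show m ψ = m χ by exact_mod_cast e1, show charDegree (ψ : G → ℂ) = charDegree (χ : G → ℂ) by
        exact_mod_cast e2]
  obtain ⟨χ₀, hχ₀⟩ : ∃ χ, χ ∈ Y := by
    obtain ⟨χ, hχ⟩ := Finset.card_pos.1 (show 0 < Yf.card by rw [hYcard]; omega)
    exact ⟨χ, (hYmem χ).1 hχ⟩
  have hb0 : m χ₀ = 0 :=
    no_exceptional hp h5 hsgn hε hdmod (hχ3 χ₀ hχ₀) (hχdeg χ₀ hχ₀) (hmrel χ₀ hχ₀) (hbudget χ₀ hχ₀)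
  have hsa : s = -1 ∧ m ξ = 1 := by
    have h := hmrel χ₀ hχ₀
    rw [hb0, Nat.cast_zero, mul_zero] at h
    rcases hsgn with hs | hs <;> rw [hs] at h ⊢ <;> omega
  obtain ⟨hsm, hmξ⟩ := hsa
  have hd' : d = p - 1 := by
    have hb := hbudget χ₀ hχ₀
    rw [hb0, zero_mul, mul_zero, hmξ, one_mul, zero_add] at hb
    rw [hsm, sub_neg_eq_add] at hdmod
    obtain ⟨k, hk⟩ : p ∣ d + 1 := by exact_mod_cast hdmod
    have hk3 : k ≤ 2 := by
      by_contra h
      have := Nat.mul_le_mul (le_refl p) (show 3 ≤ k by omega)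
      omega
    interval_cases k
    · omega
    · omega
    exfalso
    -- the permutation character would be `1 + ξ`
    refine hnot2 ((Cfsg.Agent.S0157.result Ω (by omega)).1 ?_)
    have hdec : ∀ g, π g = ∑ ψ : IrrCharacter G, (m ψ : ℂ) * (ψ : G → ℂ) g := by
      intro g
      have h := congrFun (classFunction_eq_sum (IsCharacter.isClassFunction hπc)) g
      simp only [Finset.sum_apply, Pi.smul_apply, smul_eq_mul, hm] at h
      exact h
    have hrest : ∀ ψ : IrrCharacter G, ψ ≠ one → ψ ≠ ξ → m ψ = 0 := by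
      intro ψ h1 h2
      have hdec1 := hdec 1
      simp only [irr_degree, ← Nat.cast_mul, ← Nat.cast_sum] at hdec1
      have hπone : π 1 = ((2 * p : ℕ) : ℂ) := by
        have : Nat.card (fixedBy Ω (1 : G)) = 2 * p := by
          rw [← hΩ]
          exact Nat.card_congr ((Equiv.setCongr (by ext a; simp)).trans (Equiv.Set.univ Ω))
        simp only [hπ, this]
      rw [hπone, Nat.cast_inj] at hdec1
      have hle := Finset.sum_le_sum_of_subset (Finset.subset_univ (insert ψ (insert one {ξ})))
        (f := fun φ : IrrCharacter G => m φ * charDegree (φ : G → ℂ))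
      rw [← hdec1, Finset.sum_insert (by simp [h1, h2]), Finset.sum_insert (by simp [hξ1.symm]),
        Finset.sum_singleton, hm1, h1deg, hmξ] at hle
      have h0 : m ψ * charDegree (ψ : G → ℂ) = 0 := by omega
      exact (Nat.mul_eq_zero.1 h0).resolve_right (hdeg0 ψ).ne'
    have hfun : (fun g => π g - 1) = (ξ : G → ℂ) := by
      funext g
      rw [hdec g, ← Finset.sum_subset (Finset.subset_univ {one, ξ}) (fun ψ _ hψ => by
        simp only [Finset.mem_insert, Finset.mem_singleton, not_or] at hψ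
        rw [hrest ψ hψ.1 hψ.2, Nat.cast_zero, zero_mul]), Finset.sum_pair hξ1.symm, hm1, hmξ, h1v]
      simp
    show Cfsg.IsIrrCharacter G (fun g => π g - 1)
    rw [hfun]
    exact ξ.2
  have hεm : ε = -1 := by
    have h := hχdeg χ₀ hχ₀
    rw [hsm, hd'] at h
    rcases hε with rfl | rfl
    · exfalso
      omega
    · rfl
  refine ⟨hsimple, one, ξ, Yf, ?_⟩
  refine
    { prime := hp
      five := h5
      sylow := hsyl
      normalizer := hnor
      card_centralizer := hcent
      one_apply := h1v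
      ne := hξ1.symm
      one_notMem := fun h => (hχne _ ((hYmem _).1 h)).1 rfl
      th_notMem := fun h => (hχne _ ((hYmem _).1 h)).2 rfl
      card_Y := hYcard
      deg := ?_
      sing := ?_
      degY := ?_
      regY := ?_
      ker := ?_ }
  · rw [irr_degree, ← hd, hd', Nat.cast_sub hp.one_le, Nat.cast_one]
  · intro g hg
    rw [hξsing g hg, hsm]; simp
  · intro χ hχ
    have h := hχdeg χ ((hYmem χ).1 hχ)
    rw [hεm, hsm, hd'] at h
    have e : charDegree (χ : G → ℂ) = p - 2 := by omega
    rw [irr_degree, e, Nat.cast_sub (by omega)]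
    simp
  · intro χ hχ g hg
    have h := hrel' χ ((hYmem χ).1 hχ) g hg
    rw [hεm, hsm] at h
    push_cast at h
    linear_combination -h
  · intro g hg
    obtain ⟨n, ρ, hρ, heq⟩ := ξ.2
    have hn : (n : ℂ) = (p : ℂ) - 1 := by
      have e : (ξ : G → ℂ) 1 = (p : ℂ) - 1 := by rw [irr_degree, ← hd, hd', Nat.cast_sub hp.one_le, Nat.cast_one]
      rw [← e, ← heq, Representation.char_one]
      simp
    have hn0 : n ≠ 0 := by
      rintro rfl
      have : (p : ℂ) = ((1 : ℕ) : ℂ) := by push_cast at hn ⊢; linear_combination -hn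
      rw [Nat.cast_inj] at this
      omega
    have hmem : ∀ z : G, ρ.character z = (n : ℂ) → ρ z = 1 := by
      intro z hz
      obtain ⟨ω, hω⟩ := (norm_char_eq_iff ρ z).1 (by rw [hz, Complex.norm_natCast]; simp)
      have : ρ.character z = ω * (n : ℂ) := by
        rw [Representation.character, hω, map_smul, LinearMap.trace_id]
        simp
      have hω1 : ω = 1 := by
        refine mul_right_cancel₀ (Nat.cast_ne_zero.2 hn0 : (n : ℂ) ≠ 0) ?_
        rw [← this, hz, one_mul]
      rw [hω, hω1, one_smul]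
      rfl
    have hg' : ρ g = 1 := hmem g (by rw [heq, hg, hn])
    rcases hsimp (MonoidHom.ker ρ) (MonoidHom.normal_ker ρ) with hk | hk
    · have : g ∈ MonoidHom.ker ρ := MonoidHom.mem_ker.2 hg'
      rw [hk, Subgroup.mem_bot] at this
      exact this
    · exfalso
      obtain ⟨x, hx⟩ := exists_prime_orderOf_dvd_card' (G := G) p hpG
      have hx1 : ρ x = 1 := MonoidHom.mem_ker.1 (hk ▸ Subgroup.mem_top x)
      have h1 : (ξ : G → ℂ) x = (n : ℂ) := by
        rw [← heq, Representation.character, hx1]; simp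
      rw [hξsing x (by rw [hx]), hsm, hn] at h1
      have h2 : (p : ℂ) = ((0 : ℕ) : ℂ) := by push_cast at h1 ⊢; linear_combination -h1
      rw [Nat.cast_inj] at h2
      omega

end Cfsg.Agent.DegreePTwo
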