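import Cfsg.Agent.Lib.DegreePTwo.FaithfulSetup
import Cfsg.Agent.Lib.Small.ClassCount

/-! Class sums attached to two elements inverting `P` and an element of order `p`: the central
character of a faithful character of degree `p - 2` extends to a linear character. -/

set_option autoImplicit false
set_option linter.unusedSectionVars false
set_option linter.style.haveILetI false

namespace Cfsg.Agent.DegreePTwo.Faithful

open Cfsg Cfsg.Agent.Char Cfsg.Agent.Blocks Cfsg.Agent.CCSylow Cfsg.Agent.DefOne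
open scoped ComplexConjugate

universe u

/-- The two class sums are incompatible. -/
theorem arith {p d m₀ a X s α m : ℤ} (hd : d = p - 2) (hp : 7 ≤ p) (hm₀ : 1 ≤ m₀)
    (ha1 : -(m₀ + 1) ≤ a) (ha2 : a ≤ m₀ + 1)
    (hX : (s = 1 ∧ X = m * p + 1 ∧ 0 ≤ m) ∨ (s = -1 ∧ X = m * p - 1 ∧ 1 ≤ m))
    (hα : α ≤ m - 1)
    (heq : (m₀ * p + 1 - d * a) ^ 2 * (X * (X + s)) =
      (X - α) ^ 2 * ((m₀ * p + 1) * (m₀ * p + 1 + d) * d)) : False := by
  subst hd
  have hm : 0 ≤ m := by rcases hX with ⟨-, -, h⟩ | ⟨-, -, h⟩ <;> omega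
  set Q := (m₀ * p + 1) * (m₀ * p + 1 + (p - 2)) with hQ
  have hQ1 : p ^ 2 * (m₀ * (m₀ + 1)) ≤ Q := by
    have e : Q = p ^ 2 * (m₀ * (m₀ + 1)) + (p - 1) := by rw [hQ]; ring
    omega
  have hQpos : 0 < Q := by
    have : 0 < p ^ 2 * (m₀ * (m₀ + 1)) := by positivity
    omega
  -- the first sum is small
  have hA : (m₀ * p + 1 - (p - 2) * a) ^ 2 ≤ ((p - 1) * (2 * m₀ + 1)) ^ 2 := by
    have h1 : 0 ≤ (p - 2) * (a + (m₀ + 1)) := mul_nonneg (by omega) (by omega)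
    have h2 : 0 ≤ (p - 2) * (m₀ + 1 - a) := mul_nonneg (by omega) (by omega)
    have h3 : 0 ≤ m₀ * p := mul_nonneg (by omega) (by omega)
    refine sq_le_sq' ?_ ?_ <;> linarith
  have h98 : 2 * (2 * m₀ + 1) ^ 2 ≤ 9 * (m₀ * (m₀ + 1)) := by
    have : 1 * 1 ≤ m₀ * m₀ := mul_le_mul hm₀ hm₀ (by norm_num) (by omega)
    linarith
  have hL : 2 * p ^ 2 * (m₀ * p + 1 - (p - 2) * a) ^ 2 ≤ 9 * (p - 1) ^ 2 * Q := by
    calc 2 * p ^ 2 * (m₀ * p + 1 - (p - 2) * a) ^ 2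
        ≤ 2 * p ^ 2 * ((p - 1) * (2 * m₀ + 1)) ^ 2 := mul_le_mul_of_nonneg_left hA (by positivity)
      _ = (p - 1) ^ 2 * (p ^ 2 * (2 * (2 * m₀ + 1) ^ 2)) := by ring
      _ ≤ (p - 1) ^ 2 * (p ^ 2 * (9 * (m₀ * (m₀ + 1)))) :=
          mul_le_mul_of_nonneg_left (mul_le_mul_of_nonneg_left h98 (by positivity)) (by positivity)
      _ = 9 * (p - 1) ^ 2 * (p ^ 2 * (m₀ * (m₀ + 1))) := by ring
      _ ≤ 9 * (p - 1) ^ 2 * Q := mul_le_mul_of_nonneg_left hQ1 (by positivity)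
  -- the second sum is large
  have hXs : 0 < X * (X + s) := by
    rcases hX with ⟨rfl, rfl, h⟩ | ⟨rfl, rfl, h⟩
    · have : 0 ≤ m * p := mul_nonneg h (by omega)
      exact mul_pos (by omega) (by omega)
    · have : 1 * 7 ≤ m * p := mul_le_mul h hp (by norm_num) (by omega)
      exact mul_pos (by omega) (by omega)
  have hR : (p - 1) ^ 2 * (X * (X + s)) ≤ p ^ 2 * (X - α) ^ 2 := by
    rcases hX with ⟨rfl, rfl, h⟩ | ⟨rfl, rfl, h⟩
    · calc (p - 1) ^ 2 * ((m * p + 1) * (m * p + 1 + 1))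
          ≤ p ^ 2 * (m * (p - 1) + 2) ^ 2 := by
            have h1 : 0 ≤ m * p * (p - 1) * (p + 3) :=
              mul_nonneg (mul_nonneg (mul_nonneg h (by omega)) (by omega)) (by omega)
            have h2 : 0 ≤ 4 * p ^ 2 - 2 * (p - 1) ^ 2 := by
              have e : 4 * p ^ 2 - 2 * (p - 1) ^ 2 = 2 * p ^ 2 + 4 * p - 2 := by ring
              have : 0 ≤ p ^ 2 := sq_nonneg p
              omega
            linarith
        _ ≤ p ^ 2 * (m * p + 1 - α) ^ 2 := by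
            refine mul_le_mul_of_nonneg_left (pow_le_pow_left₀ ?_ ?_ 2) (sq_nonneg p)
            · have : 0 ≤ m * (p - 1) := mul_nonneg h (by omega)
              omega
            · linarith
    · calc (p - 1) ^ 2 * ((m * p - 1) * (m * p - 1 + -1))
          ≤ p ^ 2 * (m * (p - 1)) ^ 2 := by
            have h1 : 0 ≤ (p - 1) ^ 2 * (3 * (m * p) - 2) := by
              have : 1 * 7 ≤ m * p := mul_le_mul h hp (by norm_num) (by omega)
              exact mul_nonneg (sq_nonneg _) (by omega)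
            linarith
        _ ≤ p ^ 2 * (m * p - 1 - α) ^ 2 := by
            refine mul_le_mul_of_nonneg_left (pow_le_pow_left₀ ?_ ?_ 2) (sq_nonneg p)
            · exact mul_nonneg (by omega) (by omega)
            · linarith
  have hfin : 2 * (p - 2) * ((p - 1) ^ 2 * (X * (X + s)) * Q) ≤ 9 * ((p - 1) ^ 2 * (X * (X + s)) * Q) := by
    calc 2 * (p - 2) * ((p - 1) ^ 2 * (X * (X + s)) * Q)
        ≤ 2 * (p - 2) * (p ^ 2 * (X - α) ^ 2 * Q) :=
          mul_le_mul_of_nonneg_left (mul_le_mul_of_nonneg_right hR hQpos.le) (by omega)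
      _ = 2 * p ^ 2 * ((X - α) ^ 2 * (Q * (p - 2))) := by ring
      _ = 2 * p ^ 2 * ((m₀ * p + 1 - (p - 2) * a) ^ 2 * (X * (X + s))) := by rw [heq]
      _ = 2 * p ^ 2 * (m₀ * p + 1 - (p - 2) * a) ^ 2 * (X * (X + s)) := by ring
      _ ≤ 9 * (p - 1) ^ 2 * Q * (X * (X + s)) := mul_le_mul_of_nonneg_right hL hXs.le
      _ = _ := by ring
  have hpos : 0 < (p - 1) ^ 2 * (X * (X + s)) * Q :=
    mul_pos (mul_pos (pow_pos (by omega) 2) hXs) hQpos
  have := le_of_mul_le_mul_right hfin hpos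
  omega

variable {G : Type u} [Group G] [Fintype G] {p : ℕ} {P V N : Subgroup G} {e : ℕ}
  (K : Conf p P V N e) [Fintype P] [Fintype V] [Fintype N] [Fintype (P →* ℂˣ)]
  {M : Ideal AlgInt} [M.IsPrime]

include K

/-- The orthogonality of a column with the identity. -/
theorem sum_deg_phi (b : IrrCharacter V) {y : P} (hy : y ≠ 1) :
    ∑ χ : IrrCharacter G, (χ : G → ℂ) 1 * phi (χ : G → ℂ) b y = 0 := by
  classical
  have hv : ∀ v : V, ∑ χ : IrrCharacter G, (χ : G → ℂ) ((y : G) * v) * (χ : G → ℂ) 1 = 0 := by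
    intro v
    have hne : ¬ IsConj ((y : G) * v) 1 := by
      intro h
      have h1 : (y : G) * v = 1 := isConj_one_left.1 h
      have h2 : (y : G) ∈ P ⊓ V := ⟨y.2, by rw [eq_inv_of_mul_eq_one_left h1]; exact V.inv_mem v.2⟩
      rw [Subgroup.inf_eq_bot_of_coprime K.D.cop, Subgroup.mem_bot] at h2
      exact hy (Subtype.ext h2)
    rw [← column_orth_of_not_isConj hne]
    refine Finset.sum_congr rfl fun χ _ => ?_
    rw [irr_one_eq_charDegree, map_natCast]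
  simp only [phi, Finset.mul_sum]
  rw [Finset.sum_comm]
  refine Finset.sum_eq_zero fun v _ => ?_
  calc ∑ χ : IrrCharacter G, (χ : G → ℂ) 1 * ((Nat.card V : ℂ)⁻¹ *
        ((χ : G → ℂ) ((y : G) * v) * conj ((b : V → ℂ) v)))
      = (Nat.card V : ℂ)⁻¹ * conj ((b : V → ℂ) v) *
        ∑ χ : IrrCharacter G, (χ : G → ℂ) ((y : G) * v) * (χ : G → ℂ) 1 := by
        rw [Finset.mul_sum]
        exact Finset.sum_congr rfl fun χ _ => by ring
    _ = 0 := by rw [hv, mul_zero]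

variable {b : IrrCharacter V} {eb : ℕ} {X Y : Finset (IrrCharacter G)} {δ : ℤ}
  {sg : IrrCharacter G → ℤ} (F : Families K b eb X Y δ sg)

include F

theorem phi_eq_zero_outside {χ : IrrCharacter G} (hX : χ ∉ X) (hY : χ ∉ Y) {y : P} (hy : y ≠ 1) :
    phi (χ : G → ℂ) b y = 0 := by
  rw [phi_eq_acoef K χ b hy]
  simp [F.zero χ hX hY]

/-- The sum of the exceptional components. -/
theorem sum_Y_phi {y : P} (hy : y ≠ 1) : ∑ θ ∈ Y, phi (θ : G → ℂ) b y = (δ : ℂ) := by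
  classical
  obtain ⟨θ, hθ⟩ := F.nonempty
  have h := sum_deg_phi K b hy
  rw [← Finset.sum_subset (Finset.subset_univ (X ∪ Y)) (fun χ _ hχ => by
      rw [Finset.mem_union, not_or] at hχ
      rw [phi_eq_zero_outside K F hχ.1 hχ.2 hy, mul_zero]), Finset.sum_union F.disj,
    Finset.sum_congr rfl (g := fun χ : IrrCharacter G => (sg χ : ℂ) * (χ : G → ℂ) 1) (fun χ hχ => by
      rw [Families.phi_X K F hχ hy, mul_comm]),
    Finset.sum_congr (s₁ := Y) rfl (g := fun χ : IrrCharacter G => (θ : G → ℂ) 1 * phi (χ : G → ℂ) b y)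
      (fun χ hχ => by
        rw [Families.agree K F hχ hθ (g := 1) (by rw [orderOf_one, Nat.dvd_one]; exact K.hp.ne_one)]),
    ← Finset.mul_sum] at h
  have h1 := Families.relation K F (θ := θ) hθ (g := 1) (by rw [orderOf_one, Nat.dvd_one]; exact K.hp.ne_one)
  refine mul_left_cancel₀ (IsIrrCharacter.one_ne_zero θ.2) ?_
  linear_combination h - h1

/-- The class sum of a `p'`-element with itself against the component of `b`. -/
theorem class_sum {t : G} (ht : ¬ p ∣ orderOf t) {y : P} (hy : y ≠ 1) {θ : IrrCharacter G}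
    (hθ : θ ∈ Y) :
    ∑ χ : IrrCharacter G, (χ : G → ℂ) t ^ 2 / (χ : G → ℂ) 1 * conj (phi (χ : G → ℂ) b y) =
      ∑ χ ∈ X, (sg χ : ℂ) * ((χ : G → ℂ) t ^ 2 / (χ : G → ℂ) 1) +
        (δ : ℂ) * ((θ : G → ℂ) t ^ 2 / (θ : G → ℂ) 1) := by
  classical
  rw [← Finset.sum_subset (Finset.subset_univ (X ∪ Y)) (fun χ _ hχ => by
      rw [Finset.mem_union, not_or] at hχ
      rw [phi_eq_zero_outside K F hχ.1 hχ.2 hy, map_zero, mul_zero]), Finset.sum_union F.disj,
    Finset.sum_congr rfl (g := fun χ : IrrCharacter G => (sg χ : ℂ) * ((χ : G → ℂ) t ^ 2 / (χ : G → ℂ) 1))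
      (fun χ hχ => by rw [Families.phi_X K F hχ hy, map_intCast, mul_comm]),
    Finset.sum_congr (s₁ := Y) rfl (g := fun χ : IrrCharacter G =>
        (θ : G → ℂ) t ^ 2 / (θ : G → ℂ) 1 * conj (phi (χ : G → ℂ) b y))
      (fun χ hχ => by
        rw [Families.agree K F hχ hθ (g := 1) (by rw [orderOf_one, Nat.dvd_one]; exact K.hp.ne_one),
          Families.agree K F hχ hθ ht]),
    ← Finset.mul_sum, ← map_sum, sum_Y_phi K F hy, map_intCast]
  ring

omit F

/-- The class multiplication formula summed against `b`. -/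
theorem weighted {t : G} {y : P} (b : IrrCharacter V) (z₀ : V)
    (hsupp : ∀ a : G, ∀ v : V, IsConj t a → IsConj t (a⁻¹ * ((y : G) * v)) → v = z₀) :
    (Nat.card {a : G // IsConj t a ∧ IsConj t (a⁻¹ * ((y : G) * z₀))} : ℂ) * (b : V → ℂ) z₀ *
        (Nat.card (Subgroup.centralizer ({t} : Set G)) : ℂ) ^ 2 =
      (Nat.card G : ℂ) * (Nat.card V : ℂ) *
        ∑ χ : IrrCharacter G, (χ : G → ℂ) t ^ 2 / (χ : G → ℂ) 1 * conj (phi (χ : G → ℂ) b y) := by
  classical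
  set C : ℂ := (Nat.card (Subgroup.centralizer ({t} : Set G)) : ℂ) with hC
  have hzero : ∀ v : V, v ≠ z₀ →
      (Nat.card {a : G // IsConj t a ∧ IsConj t (a⁻¹ * ((y : G) * v))} : ℂ) = 0 := by
    intro v hv
    rw [Nat.cast_eq_zero]
    haveI : IsEmpty {a : G // IsConj t a ∧ IsConj t (a⁻¹ * ((y : G) * v))} :=
      ⟨fun ⟨a, h1, h2⟩ => hv (hsupp a v h1 h2)⟩
    exact Nat.card_of_isEmpty
  calc (Nat.card {a : G // IsConj t a ∧ IsConj t (a⁻¹ * ((y : G) * z₀))} : ℂ) * (b : V → ℂ) z₀ * C ^ 2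
      = ∑ v : V, (b : V → ℂ) v *
          ((Nat.card {a : G // IsConj t a ∧ IsConj t (a⁻¹ * ((y : G) * v))} : ℂ) * C * C) := by
        rw [Finset.sum_eq_single z₀ (fun v _ hv => by rw [hzero v hv]; ring)
          (fun h => absurd (Finset.mem_univ _) h)]
        ring
    _ = ∑ v : V, (b : V → ℂ) v * ((Nat.card G : ℂ) * ∑ χ : IrrCharacter G,
          (χ : G → ℂ) t * (χ : G → ℂ) t * conj ((χ : G → ℂ) ((y : G) * v)) / (χ : G → ℂ) 1) := by
        refine Finset.sum_congr rfl fun v _ => ?_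
        rw [hC, ClassCount.pair_count t t ((y : G) * v)]
    _ = _ := by
        simp only [Finset.mul_sum]
        rw [Finset.sum_comm]
        refine Finset.sum_congr rfl fun χ _ => ?_
        simp only [phi, map_mul, map_inv₀, map_natCast, map_sum, Finset.mul_sum, Complex.conj_conj]
        refine Finset.sum_congr rfl fun v _ => ?_
        field_simp [show (Nat.card V : ℂ) ≠ 0 from Nat.cast_ne_zero.2 Nat.card_pos.ne']

variable (hV : V ≤ Subgroup.center G)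

include hV

omit [Fintype P] [Fintype (P →* ℂˣ)] in
/-- `V` is fixed by `N`. -/
theorem bT_eq (w : N) (b : IrrCharacter V) : bT K.D w b = b :=
  Subtype.ext (funext fun v => congrArg (b : V → ℂ) (Subtype.ext (by
    show (w : G) * (v : G) * (w : G)⁻¹ = v
    rw [Subgroup.mem_center_iff.1 (hV v.2) w, mul_inv_cancel_right])))

theorem stabB_eq (b : IrrCharacter V) : stabB K b = N :=
  le_antisymm (stabB_le K b) fun x hx => ⟨hx, bT_eq K hV ⟨x, hx⟩ b⟩

theorem eb_eq {b : IrrCharacter V} {eb : ℕ} {X Y : Finset (IrrCharacter G)} {δ : ℤ}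
    {sg : IrrCharacter G → ℤ} (F : Families K b eb X Y δ sg) : eb = e := by
  have h := F.card_stab
  rw [stabB_eq K hV b, K.D.hcard, K.hP] at h
  exact (Nat.eq_of_mul_eq_mul_right (Nat.mul_pos K.hp.pos Nat.card_pos) h).symm

variable (hM : IsPModular p M)

include hM

theorem inR_unique {χ : IrrCharacter G} {b b' : IrrCharacter V} (h : InR K χ b) (h' : InR K χ b') :
    b = b' := by
  obtain ⟨w, hw⟩ := exists_conj_of_block K hM h h' rfl
  rw [← hw, bT_eq K hV w b]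

theorem value {χ : IrrCharacter G} {b : IrrCharacter V} (h : InR K χ b) {y : P} (hy : y ≠ 1) (v : V) :
    (χ : G → ℂ) ((y : G) * v) = phi (χ : G → ℂ) b y * (b : V → ℂ) v := by
  rw [expansion_phi K χ y v, Finset.sum_eq_single b (fun b' _ hne => ?_)
    (fun h' => absurd (Finset.mem_univ _) h')]
  rw [phi_eq_zero_of_not_inR K (fun h' => hne (inR_unique K hV hM h h').symm) hy, zero_mul]

/-- The central character. -/
theorem scalar {χ : IrrCharacter G} {b : IrrCharacter V} (hb : (b : V → ℂ) 1 = 1) (h : InR K χ b)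
    (v : V) (g : G) : (χ : G → ℂ) ((v : G) * g) = (b : V → ℂ) v * (χ : G → ℂ) g := by
  obtain ⟨c, -, hc, -⟩ := IsIrrCharacter.exists_central_scalar χ.2 (hV v.2)
  obtain ⟨y, hy⟩ := exists_ne_one_P K
  have h1 := value K hV hM h hy 1
  rw [hb, mul_one, OneMemClass.coe_one, mul_one] at h1
  have h2 := value K hV hM h hy v
  rw [← (Subgroup.mem_center_iff.1 (hV v.2) (y : G)).symm, hc, h1, mul_comm] at h2
  rw [hc, mul_left_cancel₀ (phi_ne_zero K hM h hy) h2]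

theorem sum_P {χ : IrrCharacter G} {b : IrrCharacter V} (hb : (b : V → ℂ) 1 = 1) (h : InR K χ b) :
    ∑ y : P, (χ : G → ℂ) y =
      (((charDegree (χ : G → ℂ) : ℤ) + ∑ l, acoef K χ b l : ℤ) : ℂ) := by
  classical
  rw [← Finset.add_sum_erase _ _ (Finset.mem_univ (1 : P)), OneMemClass.coe_one,
    irr_one_eq_charDegree, Finset.sum_congr rfl
      (g := fun y : P => -∑ l : P →* ℂˣ, (acoef K χ b l : ℂ) * (l y : ℂ)) (fun y hy => ?_),
    Finset.sum_neg_distrib, Finset.sum_comm, ← Finset.sum_neg_distrib]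
  · push_cast
    congr 1
    refine Finset.sum_congr rfl fun l _ => ?_
    by_cases hl : l = 1
    · subst hl; simp [acoef_one]
    · have h0 : ∑ y : P, ((l y : ℂˣ) : ℂ) = 0 := by
        obtain ⟨y, hy⟩ : ∃ y : P, ((l y : ℂˣ) : ℂ) ≠ 1 := by
          obtain ⟨y, hy⟩ := exists_ne_one_P K
          exact ⟨y, fun h => hy ((linear_eq_one_iff K hl y).1 (Units.ext h))⟩
        have e : ((l y : ℂˣ) : ℂ) * ∑ z : P, ((l z : ℂˣ) : ℂ) = ∑ z : P, ((l z : ℂˣ) : ℂ) := by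
          rw [Finset.mul_sum]
          exact Fintype.sum_equiv (Equiv.mulLeft y) _ _ fun z => by
            rw [Equiv.coe_mulLeft, map_mul, Units.val_mul]
        exact (mul_left_eq_self₀.1 e).resolve_left hy
      rw [← Finset.add_sum_erase _ _ (Finset.mem_univ (1 : P)), map_one, Units.val_one] at h0
      rw [← Finset.mul_sum]
      linear_combination (-(acoef K χ b l : ℂ)) * h0
  · have hy1 := Finset.ne_of_mem_erase hy
    have h1 := value K hV hM h hy1 1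
    rw [hb, mul_one, OneMemClass.coe_one, mul_one] at h1
    rw [h1, phi_eq_acoef K χ b hy1]

theorem congr_deg {χ : IrrCharacter G} {b : IrrCharacter V} (hb : (b : V → ℂ) 1 = 1) (h : InR K χ b) :
    (p : ℤ) ∣ (charDegree (χ : G → ℂ) : ℤ) + ∑ l, acoef K χ b l := by
  classical
  have h1 := degree_congr' K hM h
  have ho : (orbB K b).card = 1 := by
    rw [Finset.card_eq_one]
    exact ⟨b, Finset.eq_singleton_iff_unique_mem.2 ⟨(mem_orbB K).2 ⟨1, bT_one K b⟩, fun b' hb' => by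
      obtain ⟨w, rfl⟩ := (mem_orbB K).1 hb'
      exact bT_eq K hV w b⟩⟩
  have hd : charDegree (b : V → ℂ) = 1 := by
    rw [irr_one_eq_charDegree] at hb
    exact_mod_cast hb
  rw [ho, hd, Nat.cast_one, one_mul, one_mul] at h1
  have h2 := Int.ModEq.dvd h1
  obtain ⟨c, hc⟩ := h2
  exact ⟨-c, by linear_combination -hc⟩

omit hM

/-- An element of the normalizer inverting `P`, squaring into `V`. -/
theorem exists_inverting (he : e = 2) :
    ∃ t ∈ N, (∀ y ∈ P, t * y * t⁻¹ = y⁻¹) ∧ t * t ∈ V ∧ ¬ p ∣ orderOf t := by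
  classical
  haveI := Fact.mk K.hp
  have hidx := K.D.he
  rw [he] at hidx
  set C := Subgroup.centralizer (P : Set G) with hC
  obtain ⟨w, hw⟩ : ∃ w : N, (w : G) ∉ C := by
    by_contra h
    push Not at h
    rw [show C.subgroupOf N = ⊤ from eq_top_iff.2 fun w _ => h w, Subgroup.index_top] at hidx
    omega
  have hw2 : (w : G) * w ∈ C := by
    have h := Subgroup.sq_mem_of_index_two hidx w
    rw [Subgroup.mem_subgroupOf, SubmonoidClass.coe_pow, pow_two] at h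
    exact h
  have hinv : ∀ y ∈ P, (w : G) * y * (w : G)⁻¹ = y⁻¹ := by
    intro y hy
    have h1 := K.D.hNP w w.2 y hy
    have h2 : (w : G) * ((w : G) * y * (w : G)⁻¹) * (w : G)⁻¹ = y := by
      calc (w : G) * ((w : G) * y * (w : G)⁻¹) * (w : G)⁻¹ = (w : G) * w * y * ((w : G) * w)⁻¹ := by group
        _ = y := by
          rw [← Subgroup.mem_centralizer_iff.1 hw2 y hy, mul_inv_cancel_right]
    have h3 : (w : G) * (y * ((w : G) * y * (w : G)⁻¹)) * (w : G)⁻¹ = y * ((w : G) * y * (w : G)⁻¹) := by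
      calc _ = (w : G) * y * (w : G)⁻¹ * ((w : G) * ((w : G) * y * (w : G)⁻¹) * (w : G)⁻¹) := by group
        _ = _ := by rw [h2, K.D.comm _ h1 _ hy]
    by_contra hne
    have h4 : y * ((w : G) * y * (w : G)⁻¹) ≠ 1 := fun e => hne (eq_inv_of_mul_eq_one_right e)
    refine hw (Subgroup.mem_centralizer_iff.2 fun z hz => ?_)
    exact (mul_inv_eq_iff_eq_mul.1 (K.D.hsemi w w.2 _ (P.mul_mem hy h1) h4 h3 z hz)).symm
  have hV2 : (w : G) * w ∈ V := by
    obtain ⟨y, hy, v, hv, hyv⟩ := (K.hC _).1 hw2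
    have h1 : (w : G) * y * (w : G)⁻¹ = y := by
      have e1 : y = (w : G) * w * v⁻¹ := by rw [← hyv, mul_inv_cancel_right]
      calc (w : G) * y * (w : G)⁻¹ = (w : G) * w * ((w : G) * v⁻¹) * (w : G)⁻¹ := by rw [e1]; group
        _ = (w : G) * w * (v⁻¹ * (w : G)) * (w : G)⁻¹ := by
          rw [Subgroup.mem_center_iff.1 (Subgroup.inv_mem _ (hV hv)) (w : G)]
        _ = y := by rw [e1]; group
    rw [hinv y hy] at h1
    have h2 : y ^ 2 = 1 := by rw [pow_two]; exact inv_eq_iff_mul_eq_one.1 h1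
    have h3 : y = 1 := by
      rw [← orderOf_eq_one_iff]
      refine Nat.dvd_one.1 ?_
      have h4 : orderOf y ∣ 2 := orderOf_dvd_of_pow_eq_one h2
      have h5 : orderOf y ∣ p := K.hP ▸ Subgroup.orderOf_dvd_natCard P hy
      have hp2 : p ≠ 2 := by
        intro hp2
        have h := dvd_card_sub_one K.D
        rw [K.hP, hp2, he] at h
        omega
      have h6 := Nat.dvd_gcd h4 h5
      rwa [(Nat.coprime_primes Nat.prime_two K.hp).2 (Ne.symm hp2)] at h6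
    rw [← hyv, h3, one_mul]
    exact hv
  refine ⟨w, w.2, hinv, hV2, fun h => ?_⟩
  refine hw ?_
  -- a power of `w` of order prime to `p` squares into `V`
  have h1 : orderOf ((w : G) ^ 2) ∣ Nat.card V := by
    rw [pow_two]; exact Subgroup.orderOf_dvd_natCard V hV2
  have h2 : orderOf (w : G) ∣ 2 * Nat.card V := by
    rw [orderOf_dvd_iff_pow_eq_one, pow_mul, ← orderOf_dvd_iff_pow_eq_one]
    exact h1
  rcases (Nat.Prime.dvd_mul K.hp).1 (h.trans h2) with h3 | h3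
  · exfalso
    have hp2 : p = 2 := (Nat.prime_dvd_prime_iff_eq K.hp Nat.prime_two).1 h3
    have h := dvd_card_sub_one K.D
    rw [K.hP, hp2, he] at h
    omega
  · exact absurd h3 K.hV

omit [Fintype (P →* ℂˣ)] in
/-- Two conjugates of `t` multiply into `y V` only at `y t²`. -/
theorem support {t : G} (htN : t ∈ N) (hinv : ∀ y ∈ P, t * y * t⁻¹ = y⁻¹) (ht2 : t * t ∈ V)
    (hrig : ∀ v ∈ V, IsConj t (t * v) → v = 1) (hodd : Odd p) {y : P} (hy : y ≠ 1) {a : G} {v : V}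
    (ha : IsConj t a) (hb : IsConj t (a⁻¹ * ((y : G) * v))) : v = (⟨t * t, ht2⟩ : V) := by
  haveI := Fact.mk K.hp
  have hsq : ∀ x : G, IsConj t x → x * x = t * t := by
    intro x hx
    obtain ⟨g, rfl⟩ := isConj_iff.1 hx
    calc g * t * g⁻¹ * (g * t * g⁻¹) = g * (t * t) * g⁻¹ := by group
      _ = t * t := by rw [Subgroup.mem_center_iff.1 (hV ht2) g, mul_inv_cancel_right]
  have hconj : ∀ x ∈ P, IsConj t (t * x) := by
    intro x hx
    obtain ⟨k, hk⟩ := hodd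
    have hxp : x ^ p = 1 := DefOne.pow_eq_one_of_card K.hP hx
    set w : G := x ^ k with hw
    have hwx : x * (w * w) = 1 := by rw [hw, ← pow_add, ← pow_succ', ← hxp, hk, two_mul]
    refine isConj_iff.2 ⟨w, ?_⟩
    have h1 := hinv w (P.pow_mem hx k)
    have h2 : x = (w * w)⁻¹ := eq_inv_of_mul_eq_one_left hwx
    rw [h2, mul_inv_rev]
    calc w * t * w⁻¹ = (t * w * t⁻¹)⁻¹ * t * w⁻¹ := by rw [h1, inv_inv]
      _ = _ := by group
  set z₀ := t * t with hz₀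
  have hv := hV v.2
  have hzc := hV ht2
  have hya : a⁻¹ * (y : G) * a⁻¹ * (y : G) * ((v : G) * v) = z₀ := by
    rw [← hsq _ hb]
    calc a⁻¹ * (y : G) * a⁻¹ * (y : G) * ((v : G) * v) = a⁻¹ * (y : G) * (a⁻¹ * (y : G) * v) * v := by group
      _ = a⁻¹ * (y : G) * ((v : G) * (a⁻¹ * (y : G) * v)) := by
        rw [mul_assoc (a⁻¹ * (y : G)), Subgroup.mem_center_iff.1 hv (a⁻¹ * (y : G) * v)]
      _ = _ := by group
  set c := z₀ * ((v : G) * v)⁻¹ * z₀ with hc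
  have hcC : c ∈ Subgroup.center G :=
    Subgroup.mul_mem _ (Subgroup.mul_mem _ hzc (Subgroup.inv_mem _ (Subgroup.mul_mem _ hv hv))) hzc
  have hcV : c ∈ V :=
    V.mul_mem (V.mul_mem ht2 (V.inv_mem (V.mul_mem v.2 v.2))) ht2
  have hay : a⁻¹ * (y : G) * a = c * (y : G)⁻¹ := by
    have h1 : a⁻¹ * (y : G) * a⁻¹ = z₀ * ((v : G) * v)⁻¹ * (y : G)⁻¹ := by
      rw [← hya]
      calc a⁻¹ * (y : G) * a⁻¹ = a⁻¹ * (y : G) * a⁻¹ * (y : G) * (y : G)⁻¹ := by group
        _ = _ := by group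
    calc a⁻¹ * (y : G) * a = a⁻¹ * (y : G) * a⁻¹ * (a * a) := by group
      _ = z₀ * ((v : G) * v)⁻¹ * ((y : G)⁻¹ * z₀) := by rw [h1, hsq a ha]; group
      _ = _ := by rw [Subgroup.mem_center_iff.1 hzc (y : G)⁻¹, hc]; group
  have hc1 : c = 1 := by
    have h1 : (a⁻¹ * (y : G) * a) ^ p = 1 := by
      have := conj_pow (i := p) (a := a⁻¹) (b := (y : G))
      rw [inv_inv] at this
      rw [this, DefOne.pow_eq_one_of_card K.hP y.2, mul_one, inv_mul_cancel]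
    rw [hay, (show Commute c (y : G)⁻¹ from (Subgroup.mem_center_iff.1 hcC _).symm).mul_pow, inv_pow,
      DefOne.pow_eq_one_of_card K.hP y.2, inv_one, mul_one] at h1
    refine CharExtend.eq_one_of_pow_coprime h1
      (show c ^ Nat.card V = 1 from congrArg Subtype.val (pow_card_eq_one' (x := (⟨c, hcV⟩ : V)))) ?_
    exact (K.hp.coprime_iff_not_dvd.2 K.hV)
  rw [hc1, one_mul] at hay
  have hay2 : a * (y : G) * a⁻¹ = (y : G)⁻¹ := by
    have : a * (a⁻¹ * (y : G) * a) * a⁻¹ = (y : G) := by group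
    rw [hay] at this
    calc a * (y : G) * a⁻¹ = (a * (y : G)⁻¹ * a⁻¹)⁻¹ := by group
      _ = (y : G)⁻¹ := by rw [this]
  have hy1 : (y : G) ≠ 1 := fun h => hy (Subtype.ext h)
  have haN : a ∈ N := K.D.hTI y y.2 hy1 a (by rw [hay2]; exact P.inv_mem y.2)
  have hfix : t⁻¹ * a ∈ Subgroup.centralizer (P : Set G) := by
    have h1 : (t⁻¹ * a) * (y : G) * (t⁻¹ * a)⁻¹ = y := by
      calc (t⁻¹ * a) * (y : G) * (t⁻¹ * a)⁻¹ = t⁻¹ * (a * (y : G) * a⁻¹) * t := by group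
        _ = t⁻¹ * (y : G)⁻¹ * t := by rw [hay2]
        _ = t⁻¹ * (t * (y : G) * t⁻¹) * t := by rw [hinv _ y.2]
        _ = y := by group
    refine Subgroup.mem_centralizer_iff.2 fun z hz => ?_
    exact (mul_inv_eq_iff_eq_mul.1 (K.D.hsemi _ (N.mul_mem (N.inv_mem htN) haN) _ y.2 hy1 h1 z hz)).symm
  obtain ⟨y', hy', v', hv', hyv⟩ := (K.hC _).1 hfix
  have hat : a = t * y' * v' := by rw [mul_assoc, hyv, mul_inv_cancel_left]
  have hv'1 : v' = 1 := by
    refine hrig v' hv' ?_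
    obtain ⟨g, hg⟩ := isConj_iff.1 (hconj y' hy')
    refine ha.trans (isConj_iff.2 ⟨g⁻¹, ?_⟩)
    calc g⁻¹ * a * g⁻¹⁻¹ = g⁻¹ * (g * t * g⁻¹) * (v' * g) := by rw [hat, hg]; group
      _ = g⁻¹ * (g * t * g⁻¹) * (g * v') := by rw [Subgroup.mem_center_iff.1 (hV hv') g]
      _ = t * v' := by group
  rw [hv'1, mul_one] at hat
  -- the second factor
  have hb' : a⁻¹ * ((y : G) * v) = t * (y' * y) * (z₀⁻¹ * v) := by
    have hti : ∀ x ∈ P, t⁻¹ * x = x⁻¹ * t⁻¹ := by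
      intro x hx
      calc t⁻¹ * x = t⁻¹ * (t * x⁻¹ * t⁻¹) := by rw [hinv _ (P.inv_mem hx), inv_inv]
        _ = x⁻¹ * t⁻¹ := by group
    have e2 : a⁻¹ * (y : G) = t⁻¹ * (y' * y) := by
      calc a⁻¹ * (y : G) = y'⁻¹ * (t⁻¹ * (y : G)) := by rw [hat]; group
        _ = y'⁻¹ * (y : G)⁻¹ * t⁻¹ := by rw [hti _ y.2, mul_assoc]
        _ = (y' * y)⁻¹ * t⁻¹ := by rw [← mul_inv_rev, K.D.comm _ y.2 _ hy']
        _ = t⁻¹ * (y' * y) := (hti _ (P.mul_mem hy' y.2)).symm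
    calc a⁻¹ * ((y : G) * v) = t * (t * t)⁻¹ * (y' * y) * v := by rw [← mul_assoc, e2]; group
      _ = t * ((t * t)⁻¹ * (y' * y)) * v := by group
      _ = t * ((y' * y) * (t * t)⁻¹) * v := by
        rw [← Subgroup.mem_center_iff.1 (Subgroup.inv_mem _ hzc) (y' * y)]
      _ = _ := by rw [← hz₀]; group
  rw [hb'] at hb
  obtain ⟨g, hg⟩ := isConj_iff.1 (hconj _ (P.mul_mem hy' y.2))
  have hz : z₀⁻¹ * v = 1 := by
    refine hrig _ (V.mul_mem (V.inv_mem ht2) v.2) (hb.trans (isConj_iff.2 ⟨g⁻¹, ?_⟩))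
    have hzv : z₀⁻¹ * v ∈ Subgroup.center G := Subgroup.mul_mem _ (Subgroup.inv_mem _ hzc) hv
    calc g⁻¹ * (t * (y' * y) * (z₀⁻¹ * v)) * g⁻¹⁻¹ = g⁻¹ * (g * t * g⁻¹) * ((z₀⁻¹ * v) * g) := by
          rw [hg]; group
      _ = g⁻¹ * (g * t * g⁻¹) * (g * (z₀⁻¹ * v)) := by rw [Subgroup.mem_center_iff.1 hzv g]
      _ = _ := by group
  exact Subtype.ext (inv_mul_eq_one.1 hz).symm

include hM

/-- The nonexceptional characters over `b` and over `1` give two values of one class sum. -/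
theorem exists_linear_ext (h7 : 7 ≤ p) (he : e = 2) (ζ : IrrCharacter G)
    (hf : ∀ g, (ζ : G → ℂ) g = (ζ : G → ℂ) 1 → g = 1) (hd : charDegree (ζ : G → ℂ) = p - 2)
    (b : IrrCharacter V) (hb : (b : V → ℂ) 1 = 1) (hζ : InR K ζ b) :
    ∃ L : G →* ℂˣ, ∀ v : V, ((L (v : G) : ℂˣ) : ℂ) = (b : V → ℂ) v := by
  classical
  haveI := Fact.mk K.hp
  have hodd : Odd p := K.hp.odd_of_ne_two (by omega)
  have hoddP : Odd (Nat.card P) := by rwa [K.hP]
  obtain ⟨y, hy⟩ := exists_ne_one_P K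
  have hreg1 : ¬ p ∣ orderOf (1 : G) := by rw [orderOf_one, Nat.dvd_one]; exact K.hp.ne_one
  obtain ⟨t, htN, hinv, ht2, htreg⟩ := exists_inverting K hV he
  obtain ⟨eb, X, Y, δ, sg, F⟩ := DefOne.exists_families K hM b
  obtain rfl : eb = 2 := (eb_eq K hV F).trans he
  have hXR : ∀ χ ∈ X, InR K χ b := fun χ h => (mem_iff_inR K F χ).1 (Or.inl h)
  have hdz : (charDegree (ζ : G → ℂ) : ℤ) = (p : ℤ) - 2 := by rw [hd]; omega
  have hζY : ζ ∈ Y := by
    rcases (mem_iff_inR K F ζ).2 hζ with h | h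
    · exfalso
      have h1 := congr_deg K hV hM hb hζ
      rw [hdz, Families.sum_X K F h] at h1
      rcases F.signX ζ h with hs | hs <;> rw [hs] at h1
      · have h2 : (p : ℤ) ∣ 3 := by
          obtain ⟨c, hc⟩ := h1
          exact ⟨2 - c, by linear_combination -hc⟩
        have := Int.le_of_dvd (by norm_num) h2
        omega
      · have h2 : (p : ℤ) ∣ 1 := by
          obtain ⟨c, hc⟩ := h1
          exact ⟨-c, by linear_combination -hc⟩
        have := Int.le_of_dvd (by norm_num) h2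
        omega
    · exact h
  have hδ : δ = 1 := by
    rcases F.sign with h | h
    · exact h
    · exfalso
      have h1 := congr_deg K hV hM hb hζ
      rw [hdz, F.sumY ζ hζY, h] at h1
      have h2 : (p : ℤ) ∣ 4 := by
        obtain ⟨c, hc⟩ := h1
        exact ⟨1 - c, by push_cast at hc; linear_combination -hc⟩
      have := Int.le_of_dvd (by norm_num) h2
      omega
  subst hδ
  -- the two nonexceptional characters
  obtain ⟨χ₀, χ₁, hne, hX⟩ := Finset.card_eq_two.1 F.cardX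
  have hχ₀ : χ₀ ∈ X := by rw [hX]; simp
  have hχ₁ : χ₁ ∈ X := by rw [hX]; simp
  have hrel : ∀ g : G, ¬ p ∣ orderOf g →
      (sg χ₀ : ℂ) * (χ₀ : G → ℂ) g + (sg χ₁ : ℂ) * (χ₁ : G → ℂ) g + (ζ : G → ℂ) g = 0 := by
    intro g hg
    have h := Families.relation K F (θ := ζ) hζY hg
    rw [hX, Finset.sum_pair hne, Int.cast_one, one_mul] at h
    exact h
  have hcongr : ∀ χ ∈ X, (p : ℤ) ∣ (charDegree (χ : G → ℂ) : ℤ) - sg χ := by
    intro χ hχ
    have h1 := congr_deg K hV hM hb (hXR χ hχ)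
    rw [Families.sum_X K F hχ] at h1
    obtain ⟨c, hc⟩ := h1
    exact ⟨c - sg χ, by linear_combination hc⟩
  have hrel1 : sg χ₀ * (charDegree (χ₀ : G → ℂ) : ℤ) + sg χ₁ * (charDegree (χ₁ : G → ℂ) : ℤ) +
      ((p : ℤ) - 2) = 0 := by
    have h := hrel 1 hreg1
    rw [irr_one_eq_charDegree, irr_one_eq_charDegree, irr_one_eq_charDegree] at h
    rw [← hdz]
    exact_mod_cast h
  obtain ⟨φ₀, φ₁, hne', hφ, hs0, hs1⟩ : ∃ φ₀ φ₁ : IrrCharacter G, φ₀ ≠ φ₁ ∧ X = {φ₀, φ₁} ∧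
      sg φ₀ = 1 ∧ sg φ₁ = -1 := by
    rcases F.signX χ₀ hχ₀ with h0 | h0 <;> rcases F.signX χ₁ hχ₁ with h1 | h1
    · exfalso
      rw [h0, h1] at hrel1
      omega
    · exact ⟨χ₀, χ₁, hne, hX, h0, h1⟩
    · exact ⟨χ₁, χ₀, hne.symm, by rw [hX, Finset.pair_comm], h1, h0⟩
    · exfalso
      obtain ⟨k0, hk0⟩ := hcongr χ₀ hχ₀
      obtain ⟨k1, hk1⟩ := hcongr χ₁ hχ₁
      rw [h0] at hk0 hrel1
      rw [h1] at hk1 hrel1
      have h0' : 1 ≤ k0 := by
        by_contra h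
        have := mul_nonpos_of_nonneg_of_nonpos (show (0 : ℤ) ≤ p by omega) (show k0 ≤ 0 by omega)
        omega
      have h1' : 1 ≤ k1 := by
        by_contra h
        have := mul_nonpos_of_nonneg_of_nonpos (show (0 : ℤ) ≤ p by omega) (show k1 ≤ 0 by omega)
        omega
      have := mul_le_mul_of_nonneg_left h0' (show (0 : ℤ) ≤ p by omega)
      have := mul_le_mul_of_nonneg_left h1' (show (0 : ℤ) ≤ p by omega)
      omega
  have hm0 : φ₀ ∈ X := by rw [hφ]; simp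
  have hm1 : φ₁ ∈ X := by rw [hφ]; simp
  have hrel' : ∀ g : G, ¬ p ∣ orderOf g →
      (φ₀ : G → ℂ) g - (φ₁ : G → ℂ) g + (ζ : G → ℂ) g = 0 := by
    intro g hg
    have h := Families.relation K F (θ := ζ) hζY hg
    rw [hφ, Finset.sum_pair hne', hs0, hs1] at h
    push_cast at h
    linear_combination h
  obtain ⟨k0, hk0⟩ := hcongr φ₀ hm0
  rw [hs0] at hk0
  by_cases hk : k0 = 0
  · -- the extension
    rw [hk, mul_zero, sub_eq_zero] at hk0
    have h1 : (φ₀ : G → ℂ) 1 = 1 := by rw [irr_one_eq_charDegree]; exact_mod_cast hk0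
    obtain ⟨L, hL⟩ := exists_hom_of_degree_one (IsIrrCharacter.isCharacter φ₀.2) h1
    refine ⟨L, fun v => ?_⟩
    have h2 := scalar K hV hM hb (hXR φ₀ hm0) v 1
    rw [mul_one, h1, mul_one] at h2
    rw [← h2, hL]
  exfalso
  have hk1 : 1 ≤ k0 := by
    by_contra h
    have : k0 ≤ -1 := by omega
    have := mul_le_mul_of_nonneg_left this (show (0 : ℤ) ≤ p by omega)
    omega
  -- the value of `ζ` at `t`
  set z₀ : V := ⟨t * t, ht2⟩ with hz₀
  have hbz : ∀ χ : IrrCharacter G, InR K χ b →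
      (χ : G → ℂ) (t * t) = (b : V → ℂ) z₀ * (χ : G → ℂ) 1 := fun χ hχ => by
    rw [← scalar K hV hM hb hχ z₀ 1, mul_one]
  have hb0 : (b : V → ℂ) z₀ ≠ 0 := by
    obtain ⟨f, hf'⟩ := exists_hom_of_degree_one (IsIrrCharacter.isCharacter b.2) hb
    rw [hf']
    exact Units.ne_zero _
  obtain ⟨μ₀, hμ₀⟩ := IsAlgClosed.exists_pow_nat_eq ((b : V → ℂ) z₀) (n := 2) (by norm_num)
  have hμ₀' : μ₀ ≠ 0 := fun h => hb0 (by rw [← hμ₀, h, zero_pow (by norm_num)])
  set μ := (ζ : G → ℂ) t with hμ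
  have hμ2 : μ ^ 2 = (b : V → ℂ) z₀ := by
    obtain ⟨r, r', hval, hsum⟩ := exists_split_irr ζ P hoddP t hinv (hV ht2) μ₀ hμ₀'
      (by rw [hbz ζ hζ, hμ₀])
    rw [sum_P K hV hM hb hζ, hdz, F.sumY ζ hζY, K.hP] at hsum
    have hrr : r + r' = 1 := by
      have h : (p : ℂ) * ((r : ℂ) + r') = (p : ℂ) * 1 := by rw [hsum]; push_cast; ring
      have := mul_left_cancel₀ (Nat.cast_ne_zero.2 K.hp.ne_zero) h
      exact_mod_cast this
    rw [hμ, hval, mul_pow, hμ₀]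
    rcases (show (r = 1 ∧ r' = 0) ∨ (r = 0 ∧ r' = 1) by omega) with ⟨h1, h2⟩ | ⟨h1, h2⟩ <;>
      rw [h1, h2] <;> push_cast <;> ring
  have hμ0 : μ ≠ 0 := fun h => hb0 (by rw [← hμ2, h, zero_pow (by norm_num)])
  have hrig : ∀ v ∈ V, IsConj t (t * v) → v = 1 := by
    intro v hv hc
    obtain ⟨g, hg⟩ := isConj_iff.1 hc
    have h1 : (ζ : G → ℂ) (t * v) = μ := by
      rw [← hg]; exact IsCharacter.isClassFunction (IsIrrCharacter.isCharacter ζ.2) _ _
    rw [Subgroup.mem_center_iff.1 (hV hv) t, scalar K hV hM hb hζ ⟨v, hv⟩] at h1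
    refine hf v ?_
    have h2 := scalar K hV hM hb hζ ⟨v, hv⟩ 1
    rw [mul_one] at h2
    rw [h2, (mul_left_eq_self₀.1 h1).resolve_right hμ0, one_mul]
  have hμsq : ∀ χ ∈ X, (χ : G → ℂ) (t * t) = μ ^ 2 * (χ : G → ℂ) 1 := fun χ hχ => by
    rw [hbz χ (hXR χ hχ), hμ2]
  obtain ⟨r, r', hval, hsum⟩ := exists_split_irr φ₀ P hoddP t hinv (hV ht2) μ hμ0 (hμsq φ₀ hm0)
  rw [sum_P K hV hM hb (hXR φ₀ hm0), Families.sum_X K F hm0, hs0, K.hP] at hsum
  have hrr : (r : ℤ) + r' = k0 + 1 := by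
    have h : (p : ℂ) * ((((r : ℤ) + r' : ℤ) : ℂ)) = (p : ℂ) * (((k0 + 1 : ℤ) : ℂ)) := by
      push_cast
      rw [hsum, show (charDegree (φ₀ : G → ℂ) : ℤ) = (p : ℤ) * k0 + 1 by omega]
      push_cast
      ring
    exact_mod_cast mul_left_cancel₀ (Nat.cast_ne_zero.2 K.hp.ne_zero) h
  set a : ℤ := (r : ℤ) - r' with ha
  have hA0 : (φ₀ : G → ℂ) t = μ * (a : ℂ) := by rw [hval, ha]; push_cast; ring
  have hA1 : (φ₁ : G → ℂ) t = μ * ((a : ℂ) + 1) := by
    have h := hrel' t htreg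
    rw [hA0] at h
    linear_combination -h
  have hD0 : (φ₀ : G → ℂ) 1 = (((k0 * p + 1 : ℤ)) : ℂ) := by
    rw [irr_one_eq_charDegree, show k0 * (p : ℤ) + 1 = (charDegree (φ₀ : G → ℂ) : ℤ) by
      rw [mul_comm]; omega]
    push_cast; rfl
  have hDζ : (ζ : G → ℂ) 1 = (((p : ℤ) - 2 : ℤ) : ℂ) := by
    rw [irr_one_eq_charDegree, ← hdz]; push_cast; rfl
  have hD1 : (φ₁ : G → ℂ) 1 = (((k0 * p + 1 + ((p : ℤ) - 2) : ℤ)) : ℂ) := by
    have h := hrel' 1 hreg1
    rw [hD0, hDζ] at h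
    push_cast at h ⊢
    linear_combination -h
  -- the principal block
  obtain ⟨eb', X', Y', δ', sg', F'⟩ := DefOne.exists_families K hM (trivB V)
  obtain rfl : eb' = 2 := (eb_eq K hV F').trans he
  have hX'R : ∀ χ ∈ X', InR K χ (trivB V) := fun χ h => (mem_iff_inR K F' χ).1 (Or.inl h)
  have ht1 : ((trivB V : IrrCharacter V) : V → ℂ) 1 = 1 := rfl
  have hphi1 : phi ((Char.principal G : IrrCharacter G) : G → ℂ) (trivB V) y = 1 := by
    show (Nat.card V : ℂ)⁻¹ * ∑ v : V, (1 : ℂ) * conj (1 : ℂ) = 1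
    rw [map_one, mul_one, Finset.sum_const, Finset.card_univ, ← Nat.card_eq_fintype_card, nsmul_eq_mul,
      mul_one, inv_mul_cancel₀ (Nat.cast_ne_zero.2 Nat.card_pos.ne')]
  have hprR : InR K (Char.principal G) (trivB V) := by
    by_contra h
    rw [phi_eq_zero_of_not_inR K h hy] at hphi1
    exact zero_ne_one hphi1
  have hprX : Char.principal G ∈ X' := by
    rcases (mem_iff_inR K F' _).2 hprR with h | h
    · exact h
    · exfalso
      have h1 := congr_deg K hV hM ht1 hprR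
      rw [F'.sumY _ h, show charDegree ((Char.principal G : IrrCharacter G) : G → ℂ) = 1 from
        CharX.charDegree_one] at h1
      push_cast at h1
      rcases F'.sign with hs | hs <;> rw [hs] at h1
      · have := Int.le_of_dvd (by norm_num) h1
        omega
      · have h2 : (p : ℤ) ∣ 1 := by
          obtain ⟨c, hc⟩ := h1
          exact ⟨-c, by linear_combination -hc⟩
        have := Int.le_of_dvd (by norm_num) h2
        omega
  have hs' : sg' (Char.principal G) = 1 := by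
    have h := Families.phi_X K F' hprX hy
    rw [hphi1] at h
    exact_mod_cast h.symm
  obtain ⟨ξ, hξ⟩ : ∃ ξ, X'.erase (Char.principal G) = {ξ} := Finset.card_eq_one.1 (by
    rw [Finset.card_erase_of_mem hprX, F'.cardX])
  have hξX : ξ ∈ X' := Finset.mem_of_mem_erase (hξ ▸ Finset.mem_singleton_self ξ)
  obtain ⟨θ, hθ⟩ := F'.nonempty
  set s := sg' ξ with hs
  have hsum' : ∀ f : IrrCharacter G → ℂ, ∑ χ ∈ X', f χ = f (Char.principal G) + f ξ := fun f => by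
    rw [← Finset.add_sum_erase _ _ hprX, hξ, Finset.sum_singleton]
  have hrelP : ∀ g : G, ¬ p ∣ orderOf g →
      1 + (s : ℂ) * (ξ : G → ℂ) g + (δ' : ℂ) * (θ : G → ℂ) g = 0 := by
    intro g hg
    have h := Families.relation K F' (θ := θ) hθ hg
    rw [hsum', hs', Int.cast_one, one_mul] at h
    exact h
  have htt : ∀ χ, InR K χ (trivB V) → (χ : G → ℂ) (t * t) = (1 : ℂ) ^ 2 * (χ : G → ℂ) 1 := by
    intro χ hχ
    have h := scalar K hV hM ht1 hχ z₀ 1
    rw [mul_one] at h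
    rw [one_pow, h]
    rfl
  have hθR : InR K θ (trivB V) := (mem_iff_inR K F' θ).1 (Or.inr hθ)
  obtain ⟨u, u', huval, husum⟩ := exists_split_irr ξ P hoddP t hinv (hV ht2) 1 one_ne_zero
    (htt ξ (hX'R ξ hξX))
  obtain ⟨w, w', hwval, hwsum⟩ := exists_split_irr θ P hoddP t hinv (hV ht2) 1 one_ne_zero (htt θ hθR)
  rw [sum_P K hV hM ht1 (hX'R ξ hξX), Families.sum_X K F' hξX, ← hs, K.hP] at husum
  rw [sum_P K hV hM ht1 hθR, F'.sumY θ hθ, K.hP] at hwsum
  set D : ℤ := (charDegree (ξ : G → ℂ) : ℤ) with hD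
  set E : ℤ := (charDegree (θ : G → ℂ) : ℤ) with hE
  have hu : (p : ℤ) * (u + u') = D + ((p : ℤ) - 1) * s := by exact_mod_cast husum
  have hw : (p : ℤ) * (w + w') = E + δ' * 2 := by exact_mod_cast hwsum
  set α : ℤ := (u : ℤ) - u' with hα
  have hξt : (ξ : G → ℂ) t = (α : ℂ) := by rw [huval, hα]; push_cast; ring
  have hθt : 1 + (s : ℂ) * (α : ℂ) + (δ' : ℂ) * ((((w : ℤ) - w' : ℤ)) : ℂ) = 0 := by
    have h := hrelP t htreg
    rw [hξt, hwval] at h
    push_cast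
    linear_combination h
  have hθt' : 1 + s * α + δ' * ((w : ℤ) - w') = 0 := by exact_mod_cast hθt
  have hdeg : 1 + s * D + δ' * E = 0 := by
    have h := hrelP 1 hreg1
    rw [irr_one_eq_charDegree, irr_one_eq_charDegree] at h
    rw [hD, hE]
    exact_mod_cast h
  have hDpos : 1 ≤ D := by have := CharX.irr_deg_pos ξ; omega
  have hEpos : 1 ≤ E := by have := CharX.irr_deg_pos θ; omega
  obtain ⟨m, hm, hα', hD'⟩ : ∃ m : ℤ, ((s = 1 ∧ D = m * p + 1 ∧ 0 ≤ m) ∨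
      (s = -1 ∧ D = m * p - 1 ∧ 1 ≤ m)) ∧ α ≤ m - 1 ∧ D + s ≠ 0 := by
    rcases F'.signX ξ hξX with hs1 | hs1 <;> rw [← hs] at hs1 <;> rw [hs1] at hu hdeg hθt' ⊢
    · have hδ' : δ' = -1 := by
        rcases F'.sign with h | h
        · rw [h] at hdeg; omega
        · exact h
      rw [hδ'] at hdeg hw hθt'
      have hm : ((u : ℤ) + u' - 1) * p = D - 1 := by linear_combination hu
      have hww : (w : ℤ) + w' = (u : ℤ) + u' - 1 := by
        refine mul_left_cancel₀ (show (p : ℤ) ≠ 0 by omega) ?_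
        linear_combination hw - hdeg - hu
      refine ⟨(u : ℤ) + u' - 1, Or.inl ⟨rfl, by omega, ?_⟩, by omega, by omega⟩
      omega
    · have hm : ((u : ℤ) + u' + 1) * p = D + 1 := by linear_combination hu
      refine ⟨(u : ℤ) + u' + 1, Or.inr ⟨rfl, by omega, ?_⟩, by omega, ?_⟩
      · omega
      · have : 1 * (p : ℤ) ≤ ((u : ℤ) + u' + 1) * p := mul_le_mul_of_nonneg_right (by omega) (by omega)
        omega
  -- the two class sums
  have hsupp : ∀ a : G, ∀ v : V, IsConj t a → IsConj t (a⁻¹ * ((y : G) * v)) → v = z₀ :=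
    fun a v h1 h2 => support K hV htN hinv ht2 hrig hodd hy h1 h2
  have eb1 := weighted K (t := t) (y := y) b z₀ hsupp
  have et1 := weighted K (t := t) (y := y) (trivB V) z₀ hsupp
  rw [class_sum K F htreg hy hζY, hφ, Finset.sum_pair hne', hs0, hs1, hA0, hA1, hD0, hD1, ← hμ, hDζ,
    ← hμ2] at eb1
  rw [class_sum K F' htreg hy hθ, hsum', hs', ← hs, hξt,
    show ((trivB V : IrrCharacter V) : V → ℂ) z₀ = 1 from rfl,
    show ((Char.principal G : IrrCharacter G) : G → ℂ) t = 1 from rfl,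
    show ((Char.principal G : IrrCharacter G) : G → ℂ) 1 = 1 from rfl,
    irr_one_eq_charDegree ξ, irr_one_eq_charDegree θ, hwval] at et1
  have hx0 : ((k0 * p + 1 : ℤ) : ℂ) ≠ 0 := by rw [← hD0]; exact IsIrrCharacter.one_ne_zero φ₀.2
  have hx1 : ((k0 * p + 1 + ((p : ℤ) - 2) : ℤ) : ℂ) ≠ 0 := by
    rw [← hD1]; exact IsIrrCharacter.one_ne_zero φ₁.2
  have hd0 : (((p : ℤ) - 2 : ℤ) : ℂ) ≠ 0 := by rw [← hDζ]; exact IsIrrCharacter.one_ne_zero ζ.2
  have hDc : (D : ℂ) ≠ 0 := Int.cast_ne_zero.2 (by omega)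
  have hDs : ((D + s : ℤ) : ℂ) ≠ 0 := Int.cast_ne_zero.2 hD'
  have hEc : (E : ℂ) ≠ 0 := Int.cast_ne_zero.2 (by omega)
  have hs2 : (s : ℂ) * s = 1 := by
    rcases hm with ⟨h, -⟩ | ⟨h, -⟩ <;> simp [h]
  have hδ2 : (δ' : ℂ) * δ' = 1 := by
    rcases F'.sign with h | h <;> simp [h]
  set R : ℂ := 1 + (s : ℂ) * ((α : ℂ) ^ 2 / (D : ℂ)) +
    (δ' : ℂ) * (((((w : ℤ) - w' : ℤ)) : ℂ) ^ 2 / (E : ℂ)) with hR
  set T : ℂ := (a : ℂ) ^ 2 / ((k0 * p + 1 : ℤ) : ℂ) -
    ((a : ℂ) + 1) ^ 2 / ((k0 * p + 1 + ((p : ℤ) - 2) : ℤ) : ℂ) + 1 / (((p : ℤ) - 2 : ℤ) : ℂ) with hT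
  have hTR : T = R := by
    refine mul_left_cancel₀ (mul_ne_zero (mul_ne_zero (Nat.cast_ne_zero.2 (Nat.card_pos (α := G)).ne')
      (Nat.cast_ne_zero.2 (Nat.card_pos (α := V)).ne')) (pow_ne_zero 2 hμ0)) ?_
    rw [hT, hR, hD, hE]
    push_cast at eb1 et1 ⊢
    linear_combination μ ^ 2 * et1 - eb1
  have hRval : R * ((D : ℂ) * ((D + s : ℤ) : ℂ)) = ((D : ℂ) - (α : ℂ)) ^ 2 := by
    have h1 : (δ' : ℂ) * ((((w : ℤ) - w' : ℤ)) : ℂ) = -(1 + (s : ℂ) * α) := by linear_combination hθt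
    have h2 : (δ' : ℂ) * (E : ℂ) = -(1 + (s : ℂ) * D) := by
      have : (((1 + s * D + δ' * E : ℤ)) : ℂ) = 0 := by rw [hdeg]; simp
      push_cast at this
      linear_combination this
    have h3 : (δ' : ℂ) * (((((w : ℤ) - w' : ℤ)) : ℂ) ^ 2 / (E : ℂ)) =
        (1 + (s : ℂ) * α) ^ 2 / (-(1 + (s : ℂ) * D)) := by
      rw [show (1 + (s : ℂ) * α) ^ 2 = (-(1 + (s : ℂ) * α)) ^ 2 by ring, ← h1, ← h2, mul_pow,
        show (δ' : ℂ) ^ 2 = 1 by rw [sq, hδ2], one_mul]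
      rw [eq_div_iff (mul_ne_zero (fun h => by rw [h, mul_zero] at hδ2; exact zero_ne_one hδ2) hEc)]
      calc _ = (δ' : ℂ) * δ' * ((((((w : ℤ) - w' : ℤ)) : ℂ) ^ 2 / (E : ℂ)) * (E : ℂ)) := by ring
        _ = _ := by rw [hδ2, one_mul, div_mul_cancel₀ _ hEc]
    have h4 : -(1 + (s : ℂ) * D) = -(s : ℂ) * ((D + s : ℤ) : ℂ) := by
      push_cast
      linear_combination hs2
    have hs0' : (s : ℂ) ≠ 0 := fun h => by rw [h, mul_zero] at hs2; exact zero_ne_one hs2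
    rw [hR, h3, h4]
    field_simp
    push_cast
    rcases hm with ⟨h, -⟩ | ⟨h, -⟩ <;> rw [h] <;> push_cast <;> ring
  have hTval : T * (((k0 * p + 1 : ℤ) : ℂ) * ((k0 * p + 1 + ((p : ℤ) - 2) : ℤ) : ℂ) *
      (((p : ℤ) - 2 : ℤ) : ℂ)) = (((k0 * p + 1 - ((p : ℤ) - 2) * a : ℤ)) : ℂ) ^ 2 := by
    rw [hT]
    field_simp
    push_cast
    ring
  have heq : (k0 * p + 1 - ((p : ℤ) - 2) * a) ^ 2 * (D * (D + s)) =
      (D - α) ^ 2 * ((k0 * p + 1) * (k0 * p + 1 + ((p : ℤ) - 2)) * ((p : ℤ) - 2)) := by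
    have h : ((((k0 * p + 1 - ((p : ℤ) - 2) * a) ^ 2 * (D * (D + s)) : ℤ)) : ℂ) =
        ((((D - α) ^ 2 * ((k0 * p + 1) * (k0 * p + 1 + ((p : ℤ) - 2)) * ((p : ℤ) - 2)) : ℤ)) : ℂ) := by
      rw [Int.cast_mul, Int.cast_pow, ← hTval, Int.cast_mul D, Int.cast_mul ((D - α) ^ 2), Int.cast_pow,
        Int.cast_sub D, ← hRval, ← hTR, Int.cast_mul, Int.cast_mul]
      ring
    exact_mod_cast h
  exact arith rfl (by omega) hk1 (by omega) (by omega) hm hα' heq

end Cfsg.Agent.DegreePTwo.Faithful
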