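import Cfsg.Agent.Lib.DegreePTwo.FaithfulCount
import Cfsg.Agent.Lib.DegreePTwo.BlkSL
import Cfsg.Agent.Lib.Char.Degree
import Mathlib.RingTheory.RootsOfUnity.Complex

/-! The quotient by the centre, and the product decomposition. -/

set_option autoImplicit false
set_option linter.unusedSectionVars false
set_option linter.style.haveILetI false

namespace Cfsg.Agent.DegreePTwo.Faithful

open Cfsg Cfsg.Agent.Char Cfsg.Agent.Blocks Cfsg.Agent.CCSylow Cfsg.Agent.DefOne
open scoped ComplexConjugate

universe u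

variable {G : Type u} [Group G] [Fintype G]

omit [Fintype G] in
theorem card_map_mul [Finite G] {H' : Type u} [Group H'] (f : G →* H') (H : Subgroup G) :
    Nat.card (H.map f) * Nat.card (f.ker ⊓ H : Subgroup G) = Nat.card H := by
  set g := f.comp H.subtype with hg
  have h1 : g.range = H.map f := by
    rw [hg, MonoidHom.range_comp, Subgroup.range_subtype]
  have h2 : Nat.card g.ker = Nat.card (f.ker ⊓ H : Subgroup G) := by
    have e : (f.ker ⊓ H).subgroupOf H = g.ker := by
      ext x
      simp [hg, Subgroup.mem_subgroupOf]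
    rw [← e, Nat.card_congr (Subgroup.subgroupOfEquivOfLe inf_le_right).toEquiv]
  rw [Subgroup.card_eq_card_quotient_mul_card_subgroup g.ker,
    Nat.card_congr (QuotientGroup.quotientKerEquivRange g).toEquiv, h1, h2]

variable {p : ℕ} {P N : Subgroup G} {e : ℕ} (K : Conf p P (Subgroup.center G) N e)
  [Fintype P] [Fintype (Subgroup.center G)] [Fintype N] [Fintype (P →* ℂˣ)]
  {M : Ideal AlgInt} [M.IsPrime]

include K

theorem eq_one_of_mem_center {x : G} (hx : x ∈ P) (hc : x ∈ Subgroup.center G) : x = 1 := by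
  have h : x ∈ P ⊓ Subgroup.center G := ⟨hx, hc⟩
  rwa [Subgroup.inf_eq_bot_of_coprime K.D.cop, Subgroup.mem_bot] at h

theorem mem_centralizer_of_quot {y : G} (hy : y ∈ P) (hy1 : y ≠ 1) {g : G}
    (h : (g : G ⧸ Subgroup.center G) * y = y * g) : g ∈ Subgroup.centralizer (P : Set G) := by
  rw [← QuotientGroup.mk_mul, ← QuotientGroup.mk_mul, QuotientGroup.eq] at h
  have hc : g * y * g⁻¹ * y⁻¹ ∈ Subgroup.center G := by
    have e1 : g * y * g⁻¹ * y⁻¹ = (y * g) * ((g * y)⁻¹ * (y * g))⁻¹ * (y * g)⁻¹ := by group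
    rw [e1]
    exact (inferInstance : (Subgroup.center G).Normal).conj_mem _ (Subgroup.inv_mem _ h) _
  have hpow : (g * y * g⁻¹) ^ p = 1 := by
    rw [conj_pow, DefOne.pow_eq_one_of_card K.hP hy, mul_one, mul_inv_cancel]
  set c := g * y * g⁻¹ * y⁻¹ with hcd
  have hc1 : c = 1 := by
    have h1 : (c * y) ^ p = 1 := by rw [hcd, inv_mul_cancel_right, hpow]
    rw [(show Commute c y from (Subgroup.mem_center_iff.1 hc y).symm).mul_pow,
      DefOne.pow_eq_one_of_card K.hP hy, mul_one] at h1
    refine CharExtend.eq_one_of_pow_coprime h1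
      (show c ^ Nat.card (Subgroup.center G) = 1 from
        congrArg Subtype.val (pow_card_eq_one' (x := (⟨c, hc⟩ : Subgroup.center G)))) ?_
    exact K.hp.coprime_iff_not_dvd.2 K.hV
  have hgy : g * y * g⁻¹ = y := mul_inv_eq_one.1 hc1
  have hgN : g ∈ N := K.D.hTI y hy hy1 g (by rw [hgy]; exact hy)
  exact Subgroup.mem_centralizer_iff.2 fun z hz =>
    (mul_inv_eq_iff_eq_mul.1 (K.D.hsemi g hgN y hy hy1 hgy z hz)).symm

theorem normalizer_quot :
    Subgroup.normalizer ((P.map (QuotientGroup.mk' (Subgroup.center G)) : Subgroup (G ⧸ Subgroup.center G)) :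
      Set (G ⧸ Subgroup.center G)) = N.map (QuotientGroup.mk' (Subgroup.center G)) := by
  ext x
  obtain ⟨g, rfl⟩ := QuotientGroup.mk_surjective x
  constructor
  · intro hg
    obtain ⟨y, hy⟩ := exists_ne_one_P K
    have hy1 : (y : G) ≠ 1 := fun h => hy (Subtype.ext h)
    obtain ⟨y', hy', he⟩ := (Subgroup.mem_normalizer_iff.1 hg _).1 ⟨(y : G), y.2, rfl⟩
    have hc : y'⁻¹ * (g * y * g⁻¹) ∈ Subgroup.center G := QuotientGroup.eq.1 he
    set c := y'⁻¹ * (g * y * g⁻¹) with hcd
    have hc1 : c = 1 := by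
      have h1 : (y' * c) ^ p = 1 := by
        rw [hcd, mul_inv_cancel_left, conj_pow, DefOne.pow_eq_one_of_card K.hP y.2, mul_one, mul_inv_cancel]
      rw [(show Commute y' c from Subgroup.mem_center_iff.1 hc y').mul_pow,
        DefOne.pow_eq_one_of_card K.hP hy', one_mul] at h1
      refine CharExtend.eq_one_of_pow_coprime h1
        (show c ^ Nat.card (Subgroup.center G) = 1 from
          congrArg Subtype.val (pow_card_eq_one' (x := (⟨c, hc⟩ : Subgroup.center G)))) ?_
      exact K.hp.coprime_iff_not_dvd.2 K.hV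
    have h2 : g * y * g⁻¹ = y' := (inv_mul_eq_one.1 hc1).symm
    exact ⟨g, K.D.hTI y y.2 hy1 g (by rw [h2]; exact hy'), rfl⟩
  · rintro ⟨w, hw, hwe⟩
    change (w : G ⧸ Subgroup.center G) = (g : G ⧸ Subgroup.center G) at hwe
    rw [← hwe, Subgroup.mem_normalizer_iff]
    intro z
    constructor
    · rintro ⟨y, hy, rfl⟩
      exact ⟨w * y * w⁻¹, K.D.hNP w hw y hy, rfl⟩
    · rintro ⟨y, hy, hye⟩
      change (y : G ⧸ Subgroup.center G) = (w : G ⧸ Subgroup.center G) * z * (w : G ⧸ Subgroup.center G)⁻¹ at hye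
      refine ⟨w⁻¹ * y * w, ?_, ?_⟩
      · have := K.D.hNP w⁻¹ (N.inv_mem hw) y hy
        rwa [inv_inv] at this
      · show (((w⁻¹ * y * w : G)) : G ⧸ Subgroup.center G) = z
        rw [QuotientGroup.mk_mul, QuotientGroup.mk_mul, QuotientGroup.mk_inv, hye]
        group

variable (hM : IsPModular p M)

include hM

set_option maxHeartbeats 400000 in
/-- The structure of `G`. -/
theorem main (h7 : 7 ≤ p) (he : e = 2) (hPn : ¬ P.Normal) (ζ : IrrCharacter G)
    (hf : ∀ g, (ζ : G → ℂ) g = (ζ : G → ℂ) 1 → g = 1) (hd : charDegree (ζ : G → ℂ) = p - 2)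
    (b : IrrCharacter (Subgroup.center G)) (hb : (b : Subgroup.center G → ℂ) 1 = 1) (hζ : InR K ζ b) :
    (∃ (one θ : IrrCharacter (G ⧸ Subgroup.center G)) (Y : Finset (IrrCharacter (G ⧸ Subgroup.center G))),
      @Blk (G ⧸ Subgroup.center G) _ p one θ Y) ∧
      Nonempty (G ≃* (G ⧸ Subgroup.center G) × Subgroup.center G) := by
  classical
  haveI := Fact.mk K.hp
  have hV : Subgroup.center G ≤ Subgroup.center G := le_rfl
  have hreg1 : ¬ p ∣ orderOf (1 : G) := by rw [orderOf_one, Nat.dvd_one]; exact K.hp.ne_one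
  obtain ⟨L, hL⟩ := exists_linear_ext K hV hM h7 he ζ hf hd b hb hζ
  have hinjL : ∀ v : Subgroup.center G, L (v : G) = 1 → v = 1 := by
    intro v hv
    have h1 := scalar K hV hM hb hζ v 1
    rw [mul_one, ← hL v, hv, Units.val_one, one_mul] at h1
    exact Subtype.ext (hf v h1)
  have ht1 : ((trivB (Subgroup.center G) : IrrCharacter (Subgroup.center G)) :
      Subgroup.center G → ℂ) 1 = 1 := rfl
  -- the twist
  let ζf : G → ℂ := fun g => (((L⁻¹ : G →* ℂˣ) g : ℂˣ) : ℂ) * (ζ : G → ℂ) g
  have hζc : IsCharacter G ζf :=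
    IsCharacter.mul (IsIrrCharacter.isCharacter (isIrrCharacter_linear L⁻¹)) (IsIrrCharacter.isCharacter ζ.2)
  have hnorm : ∀ g : G, (((L g : ℂˣ) : ℂ)) * conj (((L g : ℂˣ) : ℂ)) = 1 := by
    intro g
    have hn : ‖((L g : ℂˣ) : ℂ)‖ = 1 := norm_eq_one_of_pow (m := Nat.card G) Nat.card_pos.ne' (by
      rw [← Units.val_pow_eq_pow_val, ← map_pow, pow_card_eq_one', map_one, Units.val_one])
    rw [Complex.mul_conj, Complex.normSq_eq_norm_sq, hn]
    simp
  have hζn : classInner ζf ζf = 1 := by
    rw [← classInner_self_irr ζ.2, classInner, classInner]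
    congr 1
    refine Finset.sum_congr rfl fun g _ => ?_
    have h := hnorm g⁻¹
    rw [map_inv] at h
    simp only [ζf, MonoidHom.inv_apply, map_mul]
    linear_combination ((ζ : G → ℂ) g * conj ((ζ : G → ℂ) g)) * h
  set ζ' : IrrCharacter G := ⟨ζf, IsCharacter.isIrr_of_norm_one hζc hζn⟩ with hζ'
  have hζ'deg : charDegree (ζ' : G → ℂ) = p - 2 := by
    have h : (ζ' : G → ℂ) 1 = (ζ : G → ℂ) 1 := by
      show ζf 1 = _
      simp [ζf]
    simp only [charDegree] at hd ⊢
    rw [h, hd]
  have hinv : ∀ (v : Subgroup.center G) (g : G), (ζ' : G → ℂ) ((v : G) * g) = (ζ' : G → ℂ) g := by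
    intro v g
    show ζf _ = ζf _
    simp only [ζf, scalar K hV hM hb hζ v g, ← hL v, MonoidHom.inv_apply, map_mul, mul_inv, Units.val_mul]
    have h : (((L (v : G))⁻¹ : ℂˣ) : ℂ) * ((L (v : G) : ℂˣ) : ℂ) = 1 := by
      rw [← Units.val_mul, inv_mul_cancel, Units.val_one]
    linear_combination ((((L g)⁻¹ : ℂˣ) : ℂ) * (ζ : G → ℂ) g) * h
  have hdp : ¬ p ∣ charDegree (ζ' : G → ℂ) := by
    rw [hζ'deg]
    intro h
    have := Nat.le_of_dvd (by omega) h
    omega
  obtain ⟨b', hb'⟩ := exists_inR K hM hdp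
  obtain ⟨y₀, hy₀⟩ := exists_ne_one_P K
  have hy₀1 : (y₀ : G) ≠ 1 := fun h => hy₀ (Subtype.ext h)
  have hζ'R : InR K ζ' (trivB (Subgroup.center G)) := by
    by_contra h
    have h0 := phi_eq_zero_of_not_inR K h hy₀
    have hne := phi_ne_zero K hM hb' hy₀
    have hc : ∀ v : Subgroup.center G, (ζ' : G → ℂ) ((y₀ : G) * v) = (ζ' : G → ℂ) y₀ := fun v => by
      rw [Subgroup.mem_center_iff.1 v.2 (y₀ : G), hinv]
    have hsum : (ζ' : G → ℂ) y₀ = 0 := by
      rw [phi, Finset.sum_congr rfl (g := fun _ => (ζ' : G → ℂ) y₀) (fun v _ => by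
        rw [hc v, show ((trivB (Subgroup.center G) : IrrCharacter _) : Subgroup.center G → ℂ) v = 1 from rfl,
          map_one, mul_one]), Finset.sum_const, Finset.card_univ, ← Nat.card_eq_fintype_card, nsmul_eq_mul,
        ← mul_assoc, inv_mul_cancel₀ (Nat.cast_ne_zero.2 Nat.card_pos.ne'), one_mul] at h0
      exact h0
    refine hne ?_
    rw [phi, Finset.sum_eq_zero (fun v _ => by rw [hc v, hsum, zero_mul]), mul_zero]
  obtain ⟨eb, X, Y, δ, sg, F⟩ := DefOne.exists_families K hM (trivB (Subgroup.center G))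
  obtain rfl : eb = 2 := (eb_eq K hV F).trans he
  have hXR : ∀ χ ∈ X, InR K χ (trivB _) := fun χ h => (mem_iff_inR K F χ).1 (Or.inl h)
  have hYR : ∀ χ ∈ Y, InR K χ (trivB _) := fun χ h => (mem_iff_inR K F χ).1 (Or.inr h)
  have hsingle : ∀ χ : IrrCharacter G, InR K χ (trivB _) → ∀ x ∈ Subgroup.center G,
      (χ : G → ℂ) x = (χ : G → ℂ) 1 := by
    intro χ hχ x hx
    have h := scalar K hV hM ht1 hχ ⟨x, hx⟩ 1
    rw [mul_one] at h
    rw [h]
    exact one_mul _
  have hcongr : ∀ χ : IrrCharacter G, InR K χ (trivB _) →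
      ∀ c : ℤ, ∑ l, acoef K χ (trivB _) l = c → (p : ℤ) ∣ (charDegree (χ : G → ℂ) : ℤ) + c :=
    fun χ hχ c hc => hc ▸ congr_deg K hV hM ht1 hχ
  have hdz : ((p - 2 : ℕ) : ℤ) = (p : ℤ) - 2 := by omega
  have hζY : ζ' ∈ Y := by
    rcases (mem_iff_inR K F ζ').2 hζ'R with h | h
    · exfalso
      have h1 := hcongr ζ' hζ'R _ (Families.sum_X K F h)
      rw [hζ'deg, hdz] at h1
      obtain ⟨c, hc⟩ := h1
      rcases F.signX ζ' h with hs | hs <;> rw [hs] at hc
      · have h2 : (p : ℤ) ∣ 3 := ⟨2 - c, by linear_combination -hc⟩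
        have := Int.le_of_dvd (by norm_num) h2
        omega
      · have h2 : (p : ℤ) ∣ 1 := ⟨-c, by linear_combination -hc⟩
        have := Int.le_of_dvd (by norm_num) h2
        omega
    · exact h
  have hphi1 : phi ((Char.principal G : IrrCharacter G) : G → ℂ) (trivB (Subgroup.center G)) y₀ = 1 := by
    show (Nat.card (Subgroup.center G) : ℂ)⁻¹ * ∑ v : Subgroup.center G, (1 : ℂ) * conj (1 : ℂ) = 1
    rw [map_one, mul_one, Finset.sum_const, Finset.card_univ, ← Nat.card_eq_fintype_card, nsmul_eq_mul,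
      mul_one, inv_mul_cancel₀ (Nat.cast_ne_zero.2 Nat.card_pos.ne')]
  have hprR : InR K (Char.principal G) (trivB _) := by
    by_contra h
    rw [phi_eq_zero_of_not_inR K h hy₀] at hphi1
    exact zero_ne_one hphi1
  have hpr1 : charDegree ((Char.principal G : IrrCharacter G) : G → ℂ) = 1 := CharX.charDegree_one
  have hYdeg : ∀ χ ∈ Y, charDegree (χ : G → ℂ) = p - 2 := by
    intro χ hχ
    have h := Families.agree K F hχ hζY hreg1
    rw [irr_one_eq_charDegree, irr_one_eq_charDegree, hζ'deg] at h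
    exact_mod_cast h
  have hprX : Char.principal G ∈ X := by
    rcases (mem_iff_inR K F _).2 hprR with h | h
    · exact h
    · have := hYdeg _ h
      omega
  have hs1 : sg (Char.principal G) = 1 := by
    have h := Families.phi_X K F hprX hy₀
    rw [hphi1] at h
    exact_mod_cast h.symm
  obtain ⟨ξ, hξ⟩ : ∃ ξ, X.erase (Char.principal G) = {ξ} := Finset.card_eq_one.1 (by
    rw [Finset.card_erase_of_mem hprX, F.cardX])
  have hξe : ξ ∈ X.erase (Char.principal G) := hξ ▸ Finset.mem_singleton_self ξ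
  have hξX : ξ ∈ X := Finset.mem_of_mem_erase hξe
  have hXmem : ∀ χ ∈ X, χ = Char.principal G ∨ χ = ξ := fun χ hχ => by
    by_cases h : χ = Char.principal G
    · exact Or.inl h
    · exact Or.inr (Finset.mem_singleton.1 (hξ ▸ Finset.mem_erase.2 ⟨h, hχ⟩))
  have hrelg : ∀ θ ∈ Y, ∀ g : G, ¬ p ∣ orderOf g →
      1 + (sg ξ : ℂ) * (ξ : G → ℂ) g + (δ : ℂ) * (θ : G → ℂ) g = 0 := by
    intro θ hθ g hg
    have h := Families.relation K F (θ := θ) hθ hg
    rw [← Finset.add_sum_erase _ _ hprX, hξ, Finset.sum_singleton, hs1, Int.cast_one, one_mul] at h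
    exact h
  have hrel1 : 1 + sg ξ * (charDegree (ξ : G → ℂ) : ℤ) + δ * ((p : ℤ) - 2) = 0 := by
    have h := hrelg ζ' hζY 1 hreg1
    rw [irr_one_eq_charDegree, irr_one_eq_charDegree, hζ'deg] at h
    rw [← hdz]
    exact_mod_cast h
  have hξpos : 1 ≤ charDegree (ξ : G → ℂ) := CharX.irr_deg_pos ξ
  obtain ⟨hsξ, hδ, hξdeg⟩ : sg ξ = -1 ∧ δ = 1 ∧ charDegree (ξ : G → ℂ) = p - 1 := by
    obtain ⟨c, hc⟩ := hcongr ξ (hXR ξ hξX) _ (Families.sum_X K F hξX)
    rcases F.signX ξ hξX with h | h <;> rcases F.sign with h' | h' <;> rw [h, h'] at hrel1 <;> rw [h] at hc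
    · omega
    · exfalso
      have h2 : (p : ℤ) ∣ 4 := ⟨2 - c, by linear_combination hrel1 - hc⟩
      have := Int.le_of_dvd (by norm_num) h2
      omega
    · exact ⟨h, h', by omega⟩
    · omega
  -- linear characters trivial on the centre
  have hlin : ∀ f : G →* ℂˣ, (∀ x ∈ Subgroup.center G, f x = 1) → ∀ g, f g = 1 := by
    intro f hf1 g
    set χ : IrrCharacter G := ⟨fun g => (f g : ℂ), isIrrCharacter_linear f⟩ with hχ
    have hχd : charDegree (χ : G → ℂ) = 1 := by
      simp only [charDegree, hχ, map_one, Units.val_one, Complex.one_re, Nat.floor_one]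
    have hχR : InR K χ (trivB _) := by
      obtain ⟨c, hc⟩ := exists_inR K hM (χ := χ) (by rw [hχd, Nat.dvd_one]; exact K.hp.ne_one)
      by_contra h
      have h1 : phi (χ : G → ℂ) c y₀ ≠ 0 := phi_ne_zero K hM hc hy₀
      have h2 := phi_eq_zero_of_not_inR K h hy₀
      have hcv : ∀ v : Subgroup.center G, (χ : G → ℂ) ((y₀ : G) * v) = (f y₀ : ℂ) := fun v => by
        show ((f ((y₀ : G) * v) : ℂˣ) : ℂ) = _
        rw [map_mul, hf1 v v.2, mul_one]
      rw [phi, Finset.sum_congr rfl (g := fun _ => ((f y₀ : ℂˣ) : ℂ)) (fun v _ => by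
        rw [hcv v, show ((trivB (Subgroup.center G) : IrrCharacter _) : Subgroup.center G → ℂ) v = 1 from rfl,
          map_one, mul_one]), Finset.sum_const, Finset.card_univ, ← Nat.card_eq_fintype_card, nsmul_eq_mul,
        ← mul_assoc, inv_mul_cancel₀ (Nat.cast_ne_zero.2 Nat.card_pos.ne'), one_mul] at h2
      exact Units.ne_zero _ h2
    have hχp : χ = Char.principal G := by
      rcases (mem_iff_inR K F χ).2 hχR with h | h
      · rcases hXmem χ h with h' | h'
        · exact h'
        · rw [h', hξdeg] at hχd; omega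
      · have := hYdeg χ h
        omega
    have h := congrFun (congrArg Subtype.val hχp) g
    exact Units.ext h
  refine ⟨?_, ?_⟩
  · -- the block of the quotient
    set q := QuotientGroup.mk' (Subgroup.center G) with hq
    have hqs : Function.Surjective q := QuotientGroup.mk'_surjective _
    obtain ⟨R, hR⟩ := (IsPGroup.of_card (n := 1) (show Nat.card P = p ^ 1 by
      rw [K.hP, pow_one])).exists_le_sylow
    have hRP : (R : Subgroup G) = P := by
      refine (Subgroup.eq_of_le_of_card_ge hR ?_).symm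
      rw [Sylow.card_eq_multiplicity, DefOne.factorization_card K, pow_one, K.hP]
    set Rq := R.mapSurjective hqs with hRq
    have hRqc : (Rq : Subgroup (G ⧸ Subgroup.center G)) = P.map q := by
      rw [hRq, Sylow.coe_mapSurjective, hRP]
    have hPq : Nat.card (P.map q) = p := by
      have h := card_map_mul q P
      have hbot : q.ker ⊓ P = ⊥ := by
        rw [hq, QuotientGroup.ker_mk', inf_comm, Subgroup.inf_eq_bot_of_coprime K.D.cop]
      rw [hbot, Subgroup.card_bot, mul_one, K.hP] at h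
      exact h
    have hcard : ∀ S : Sylow p (G ⧸ Subgroup.center G), Nat.card (S : Subgroup (G ⧸ Subgroup.center G)) = p := by
      intro S
      refine Eq.trans ?_ hPq
      rw [← hRqc, S.card_eq_multiplicity, Rq.card_eq_multiplicity]
    have hnormq : ∀ S : Sylow p (G ⧸ Subgroup.center G),
        Nat.card (Subgroup.normalizer ((S : Subgroup (G ⧸ Subgroup.center G)) : Set (G ⧸ Subgroup.center G))) = 2 * p := by
      intro S
      have hN1 : Nat.card (Subgroup.normalizer ((Rq : Subgroup (G ⧸ Subgroup.center G)) : Set (G ⧸ Subgroup.center G))) = 2 * p := by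
        rw [hRqc, hq, normalizer_quot K]
        have h := card_map_mul (QuotientGroup.mk' (Subgroup.center G)) N
        have hZN : Subgroup.center G ≤ N := fun z hz => by
          rw [K.hN]
          exact Subgroup.centralizer_le_normalizer _ (Subgroup.center_le_centralizer _ hz)
        rw [QuotientGroup.ker_mk', inf_eq_left.2 hZN, K.D.hcard, K.hP, he, ← mul_assoc] at h
        exact Nat.eq_of_mul_eq_mul_right Nat.card_pos h
      have e1 : Nat.card (Sylow p (G ⧸ Subgroup.center G)) =
          (Subgroup.normalizer ((Rq : Subgroup (G ⧸ Subgroup.center G)) : Set (G ⧸ Subgroup.center G))).index :=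
        Sylow.card_eq_index_normalizer Rq
      have e2 : Nat.card (Sylow p (G ⧸ Subgroup.center G)) =
          (Subgroup.normalizer ((S : Subgroup (G ⧸ Subgroup.center G)) : Set (G ⧸ Subgroup.center G))).index :=
        Sylow.card_eq_index_normalizer S
      have h1 := Subgroup.index_mul_card
        (Subgroup.normalizer ((Rq : Subgroup (G ⧸ Subgroup.center G)) : Set (G ⧸ Subgroup.center G)))
      have h2 := Subgroup.index_mul_card
        (Subgroup.normalizer ((S : Subgroup (G ⧸ Subgroup.center G)) : Set (G ⧸ Subgroup.center G)))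
      rw [← e1, hN1] at h1
      rw [← e2] at h2
      exact Nat.eq_of_mul_eq_mul_left Nat.card_pos (h2.trans h1.symm)
    -- elements of order `p` are conjugate into the image of `P`
    have hconj : ∀ x : G ⧸ Subgroup.center G, orderOf x = p →
        ∃ k : G ⧸ Subgroup.center G, ∃ y ∈ P, y ≠ 1 ∧ k * x * k⁻¹ = (y : G ⧸ Subgroup.center G) := by
      intro x hx
      obtain ⟨S, hS⟩ := (IsPGroup.of_card (n := 1) (show Nat.card (Subgroup.zpowers x) = p ^ 1 by
        rw [Nat.card_zpowers, hx, pow_one])).exists_le_sylow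
      obtain ⟨k, hk⟩ := MulAction.exists_smul_eq (G ⧸ Subgroup.center G) S Rq
      have hm : k * x * k⁻¹ ∈ P.map q := by
        rw [← hRqc, ← hk, Sylow.coe_subgroup_smul]
        exact ⟨x, hS (Subgroup.mem_zpowers x), rfl⟩
      obtain ⟨y, hy, hye⟩ := hm
      refine ⟨k, y, hy, fun h => ?_, hye.symm⟩
      rw [h, map_one, eq_comm, conj_eq_one_iff] at hye
      rw [hye, orderOf_one] at hx
      exact K.hp.ne_one hx.symm
    have hcentq : ∀ x : G ⧸ Subgroup.center G, orderOf x = p →
        Nat.card (Subgroup.centralizer ({x} : Set (G ⧸ Subgroup.center G))) = p := by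
      intro x hx
      obtain ⟨k, y, hy, hy1, hk⟩ := hconj x hx
      have e1 : Subgroup.centralizer ({k * x * k⁻¹} : Set (G ⧸ Subgroup.center G)) = P.map q := by
        rw [hk]
        ext z
        obtain ⟨g, rfl⟩ := QuotientGroup.mk_surjective z
        rw [Subgroup.mem_centralizer_singleton_iff]
        constructor
        · intro h
          obtain ⟨a, ha, v, hv, rfl⟩ := (K.hC g).1 (mem_centralizer_of_quot K hy hy1 h)
          refine ⟨a, ha, ?_⟩
          show (a : G ⧸ Subgroup.center G) = ((a * v : G) : G ⧸ Subgroup.center G)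
          rw [QuotientGroup.mk_mul, (QuotientGroup.eq_one_iff v).2 hv, mul_one]
        · rintro ⟨a, ha, hae⟩
          rw [← hae]
          show (a : G ⧸ Subgroup.center G) * y = y * a
          rw [← QuotientGroup.mk_mul, ← QuotientGroup.mk_mul, K.D.comm a ha y hy]
      have e2 : (Subgroup.centralizer ({x} : Set (G ⧸ Subgroup.center G))).map (MulAut.conj k).toMonoidHom =
          Subgroup.centralizer ({k * x * k⁻¹} : Set (G ⧸ Subgroup.center G)) := by
        ext z
        rw [Subgroup.mem_centralizer_singleton_iff]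
        constructor
        · rintro ⟨w, hw, rfl⟩
          have hw' := Subgroup.mem_centralizer_singleton_iff.1 hw
          simp only [MulEquiv.toMonoidHom_eq_coe, MonoidHom.coe_coe, MulAut.conj_apply]
          calc k * w * k⁻¹ * (k * x * k⁻¹) = k * (w * x) * k⁻¹ := by group
            _ = _ := by rw [hw']; group
        · intro hz
          refine ⟨k⁻¹ * z * k, Subgroup.mem_centralizer_singleton_iff.2 ?_, by simp [mul_assoc]⟩
          calc k⁻¹ * z * k * x = k⁻¹ * (z * (k * x * k⁻¹)) * k := by group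
            _ = _ := by rw [hz]; group
      rw [← hPq, ← e1, ← e2, Subgroup.card_map_of_injective (MulAut.conj k).injective]
    have hex : ∀ χ : {χ : IrrCharacter G // InR K χ (trivB (Subgroup.center G))},
        ∃ χ' : IrrCharacter (G ⧸ Subgroup.center G), ∀ g : G,
          (χ' : G ⧸ Subgroup.center G → ℂ) (g : G ⧸ Subgroup.center G) = ((χ : IrrCharacter G) : G → ℂ) g := by
      intro χ
      obtain ⟨χ', -, he', hirr⟩ :=
        IsCharacter.deflate (IsIrrCharacter.isCharacter χ.1.2) _ (hsingle χ.1 χ.2)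
      exact ⟨⟨χ', hirr χ.1.2⟩, he'⟩
    choose ofS hofS using hex
    set ofR := fun (χ : IrrCharacter G) (hχ : InR K χ (trivB (Subgroup.center G))) => ofS ⟨χ, hχ⟩
    have hof : ∀ χ hχ (g : G), (ofR χ hχ : G ⧸ Subgroup.center G → ℂ) (g : G ⧸ Subgroup.center G) =
        (χ : G → ℂ) g := fun χ hχ g => hofS ⟨χ, hχ⟩ g
    clear_value ofR
    have hofinj : ∀ χ χ' hχ hχ', ofR χ hχ = ofR χ' hχ' → χ = χ' := by
      intro χ χ' hχ hχ' h
      refine Subtype.ext (funext fun g => ?_)
      rw [← hof χ hχ g, ← hof χ' hχ' g, h]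
    have hlift : ∀ g : G, ¬ p ∣ orderOf (g : G ⧸ Subgroup.center G) → ¬ p ∣ orderOf g := by
      intro g hg h
      have h1 : orderOf g ∣ orderOf (g : G ⧸ Subgroup.center G) * Nat.card (Subgroup.center G) := by
        rw [orderOf_dvd_iff_pow_eq_one, pow_mul]
        have hmem : g ^ orderOf (g : G ⧸ Subgroup.center G) ∈ Subgroup.center G := by
          rw [← QuotientGroup.eq_one_iff, QuotientGroup.mk_pow, pow_orderOf_eq_one]
        exact congrArg Subtype.val (pow_card_eq_one' (x := (⟨_, hmem⟩ : Subgroup.center G)))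
      rcases (Nat.Prime.dvd_mul K.hp).1 (h.trans h1) with h2 | h2
      · exact hg h2
      · exact K.hV h2
    have hξy : ∀ y : P, y ≠ 1 → (ξ : G → ℂ) y = -1 := by
      intro y hy
      have h := value K hV hM (hXR ξ hξX) hy 1
      rw [OneMemClass.coe_one, mul_one, ht1, mul_one, Families.phi_X K F hξX hy, hsξ] at h
      rw [h]; simp
    let fY : {χ : IrrCharacter G // χ ∈ Y} → IrrCharacter (G ⧸ Subgroup.center G) :=
      fun χ => ofR χ.1 (hYR χ.1 χ.2)
    let Y₁ : Finset (IrrCharacter (G ⧸ Subgroup.center G)) := Finset.image fY Y.attach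
    refine ⟨ofR _ hprR, ofR ξ (hXR ξ hξX), Y₁, ?_⟩
    refine
      { prime := K.hp
        five := by omega
        sylow := hcard
        normalizer := hnormq
        card_centralizer := hcentq
        one_apply := ?_
        ne := ?_
        one_notMem := ?_
        th_notMem := ?_
        card_Y := ?_
        deg := ?_
        sing := ?_
        degY := ?_
        regY := ?_
        ker := ?_ }
    · intro x
      obtain ⟨g, rfl⟩ := QuotientGroup.mk_surjective x
      rw [hof]
      rfl
    · exact fun h => (Finset.mem_erase.1 hξe).1 (hofinj _ _ _ _ h).symm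
    · intro hmem
      obtain ⟨⟨χ, hχ⟩, -, h⟩ := Finset.mem_image.1 hmem
      exact Finset.disjoint_left.1 F.disj hprX (hofinj _ _ _ _ h ▸ hχ)
    · intro hmem
      obtain ⟨⟨χ, hχ⟩, -, h⟩ := Finset.mem_image.1 hmem
      exact Finset.disjoint_left.1 F.disj hξX (hofinj _ _ _ _ h ▸ hχ)
    · rw [Finset.card_image_of_injective _ (fun a a' h => Subtype.ext (hofinj _ _ _ _ h)), Finset.card_attach,
        Families.card_Y K F]
    · rw [← QuotientGroup.mk_one, hof, irr_one_eq_charDegree, hξdeg, Nat.cast_sub K.hp.one_le, Nat.cast_one]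
    · intro x hx
      have hxp : orderOf x = p := by
        have hpow : orderOf (x ^ (orderOf x / p)) = p := orderOf_pow_orderOf_div (orderOf_pos x).ne' hx
        have hmem : x ∈ Subgroup.centralizer ({x ^ (orderOf x / p)} : Set (G ⧸ Subgroup.center G)) :=
          Subgroup.mem_centralizer_singleton_iff.2 ((Commute.refl x).pow_right _).eq
        have h1 := Subgroup.orderOf_dvd_natCard _ hmem
        rw [hcentq _ hpow] at h1
        exact Nat.dvd_antisymm h1 hx
      obtain ⟨k, y, hy, hy1, hk⟩ := hconj x hxp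
      have hcl := IsCharacter.isClassFunction (IsIrrCharacter.isCharacter (ofR ξ (hXR ξ hξX)).2)
      rw [← hcl x k, hk, hof, hξy ⟨y, hy⟩ fun h => hy1 (congrArg Subtype.val h)]
    · intro χ hχ
      obtain ⟨⟨χ', hχ'⟩, -, rfl⟩ := Finset.mem_image.1 hχ
      rw [← QuotientGroup.mk_one, hof, irr_one_eq_charDegree, hYdeg χ' hχ', Nat.cast_sub (by omega)]
      simp
    · intro χ hχ x hx
      obtain ⟨⟨χ', hχ'⟩, -, rfl⟩ := Finset.mem_image.1 hχ
      obtain ⟨g, rfl⟩ := QuotientGroup.mk_surjective x
      rw [hof, hof]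
      have h := hrelg χ' hχ' g (hlift g hx)
      rw [hsξ, hδ] at h
      push_cast at h
      linear_combination h
    · intro x hx
      obtain ⟨g, rfl⟩ := QuotientGroup.mk_surjective x
      rw [hof] at hx
      rw [QuotientGroup.eq_one_iff]
      obtain ⟨H, hHn, hH, -⟩ := IsCharacter.exists_kernel (IsIrrCharacter.isCharacter ξ.2)
      haveI := hHn
      have hξ1 : (ξ : G → ℂ) 1 = (p : ℂ) - 1 := by
        rw [irr_one_eq_charDegree, hξdeg, Nat.cast_sub K.hp.one_le, Nat.cast_one]
      have hgH : g ∈ H := (hH g).2 (hx.trans hξ1.symm)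
      have hHp : ¬ p ∣ Nat.card H := by
        intro h
        obtain ⟨z, hz⟩ := exists_prime_orderOf_dvd_card' (G := H) p h
        obtain ⟨k, hk⟩ := exists_conj_mem K (x := (z : G)) (by rw [Subgroup.orderOf_coe, hz])
        have hne : k * (z : G) * k⁻¹ ≠ 1 := fun e => by
          rw [conj_eq_one_iff] at e
          rw [show z = 1 from Subtype.ext e, orderOf_one] at hz
          exact K.hp.ne_one hz.symm
        have h2 := (hH _).1 (hHn.conj_mem _ z.2 k)
        have h3 := hξy ⟨_, hk⟩ fun e => hne (congrArg Subtype.val e)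
        rw [h3, hξ1] at h2
        have : (p : ℂ) = ((0 : ℕ) : ℂ) := by push_cast; linear_combination -h2
        rw [Nat.cast_inj] at this
        omega
      have hcom := le_V_of_normal K hPn ζ hf (by omega) H hHp g hgH
      refine mem_V_of_regular K (Subgroup.mem_centralizer_iff.2 fun y hy => (hcom y hy).symm) fun h => hHp ?_
      exact h.trans (Subgroup.orderOf_dvd_natCard _ hgH)
  · -- the product
    set n := Nat.card (Subgroup.center G) with hn
    let ι : Subgroup.center G →* rootsOfUnity n ℂ :=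
      (L.comp (Subgroup.center G).subtype).codRestrict (rootsOfUnity n ℂ) fun v => by
        rw [mem_rootsOfUnity]
        show L (v : G) ^ n = 1
        rw [← map_pow, hn, show (v : G) ^ Nat.card (Subgroup.center G) = 1 from
          congrArg Subtype.val (pow_card_eq_one' (x := v)), map_one]
    have hι : Function.Bijective ι := by
      rw [Nat.bijective_iff_injective_and_card]
      refine ⟨(injective_iff_map_eq_one ι).2 fun v hv => hinjL v (congrArg Subtype.val hv), ?_⟩
      haveI : NeZero n := ⟨Nat.card_pos.ne'⟩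
      rw [Complex.card_rootsOfUnity]
    let ιe := MulEquiv.ofBijective ι hι
    have hpow : ∀ g : G, L g ∈ rootsOfUnity n ℂ := by
      intro g
      rw [mem_rootsOfUnity]
      refine hlin ((powMonoidHom n).comp L) (fun x hx => ?_) g
      show L x ^ n = 1
      have h := (ι ⟨x, hx⟩).2
      rw [mem_rootsOfUnity] at h
      exact h
    let π : G →* Subgroup.center G := ιe.symm.toMonoidHom.comp (L.codRestrict (rootsOfUnity n ℂ) hpow)
    let Φ : G →* (G ⧸ Subgroup.center G) × Subgroup.center G := (QuotientGroup.mk' _).prod π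
    refine ⟨MulEquiv.ofBijective Φ ?_⟩
    rw [Nat.bijective_iff_injective_and_card]
    refine ⟨(injective_iff_map_eq_one Φ).2 fun g hg => ?_, ?_⟩
    · have h1 : g ∈ Subgroup.center G := (QuotientGroup.eq_one_iff g).1 (congrArg Prod.fst hg)
      have h2 : π g = 1 := congrArg Prod.snd hg
      have h3 : L.codRestrict (rootsOfUnity n ℂ) hpow g = 1 := by
        have := congrArg ιe h2
        rw [map_one] at this
        rw [← this]
        exact (ιe.apply_symm_apply _).symm
      exact congrArg Subtype.val (hinjL ⟨g, h1⟩ (congrArg Subtype.val h3))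
    · rw [Nat.card_prod, ← Subgroup.card_eq_card_quotient_mul_card_subgroup]

end Cfsg.Agent.DegreePTwo.Faithful
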