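import Cfsg.Agent.Lib.DefOne.DegreeMain
import Cfsg.Agent.Lib.SmallDim.Reduce
import Cfsg.Agent.Lib.SmallDim.HalfDegree
import Mathlib.GroupTheory.Transfer

/-! A faithful irreducible character of degree `p - 2`: the normalizer of a Sylow subgroup of
order `p`. -/

set_option autoImplicit false
set_option linter.unusedSectionVars false
set_option linter.style.haveILetI false

namespace Cfsg.Agent.DegreePTwo.Faithful

open Cfsg Cfsg.Agent.Char Cfsg.Agent.Blocks Cfsg.Agent.CCSylow Cfsg.Agent.DefOne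
open scoped ComplexConjugate

universe u

variable {G : Type u} [Group G] [Fintype G] {p : ℕ}

/-- A value of an involution modulo scalars, and the dimension of the fixed points of `P`. -/
theorem exists_split {n : ℕ} (ρ : Representation ℂ G (Fin n → ℂ)) (P : Subgroup G) [Fintype P]
    (hodd : Odd (Nat.card P)) (t : G) (hinv : ∀ y ∈ P, t * y * t⁻¹ = y⁻¹) (μ : ℂ) (hμ : μ ≠ 0)
    (hsq : ρ t * ρ t = μ ^ 2 • 1) :
    ∃ r r' : ℕ, ρ.character t = μ * ((r : ℂ) - (r' : ℂ)) ∧
      (Nat.card P : ℂ) * ((r : ℂ) + (r' : ℂ)) = ∑ y : P, ρ.character y := by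
  have hc0 : (Nat.card P : ℂ) ≠ 0 := Nat.cast_ne_zero.2 Nat.card_pos.ne'
  set c : ℂ := (Nat.card P : ℂ) with hc
  set π : Module.End ℂ (Fin n → ℂ) := c⁻¹ • ∑ y : P, ρ (y : G) with hπ
  have hxπ : ∀ x : P, ρ (x : G) * π = π := by
    intro x
    rw [hπ, mul_smul_comm, Finset.mul_sum]
    congr 1
    exact Fintype.sum_equiv (Equiv.mulLeft x) _ _ fun y => by
      rw [← map_mul, Equiv.coe_mulLeft, Subgroup.coe_mul]
  have hππ : π * π = π := by
    conv_lhs => rw [hπ, smul_mul_assoc, Finset.sum_mul]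
    rw [← hπ, Finset.sum_congr rfl (g := fun _ => π) (fun y _ => hxπ y), Finset.sum_const,
      Finset.card_univ, ← Nat.card_eq_fintype_card, ← Nat.cast_smul_eq_nsmul ℂ, ← hc, inv_smul_smul₀ hc0]
  have htπ : ρ t * π = π * ρ t := by
    rw [hπ, mul_smul_comm, smul_mul_assoc, Finset.mul_sum, Finset.sum_mul]
    congr 1
    refine Fintype.sum_equiv (Equiv.inv P) _ _ fun y => ?_
    rw [← map_mul, ← map_mul, Equiv.inv_apply, Subgroup.coe_inv, ← hinv _ y.2, inv_mul_cancel_right]
  set A : Module.End ℂ (Fin n → ℂ) := μ⁻¹ • (ρ t * π) with hA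
  have hAA : A * A = π := by
    rw [hA, smul_mul_smul_comm, show ρ t * π * (ρ t * π) = ρ t * ρ t * (π * π) by
      rw [mul_assoc, ← mul_assoc π, ← htπ]; simp only [mul_assoc], hππ, hsq, smul_mul_assoc, one_mul,
      smul_smul, show μ⁻¹ * μ⁻¹ * μ ^ 2 = 1 by field_simp, one_smul]
  have hAπ : A * π = A := by rw [hA, smul_mul_assoc, mul_assoc, hππ]
  have hπA : π * A = A := by rw [hA, mul_smul_comm, ← mul_assoc, ← htπ, mul_assoc, hππ]
  clear_value A π
  have hidem : ∀ s : ℂ, s ^ 2 = 1 → ∃ r : ℕ,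
      (2 : ℂ)⁻¹ * (LinearMap.trace ℂ _ π + s * LinearMap.trace ℂ _ A) = (r : ℂ) := by
    intro s hs
    have hEE : IsIdempotentElem ((2 : ℂ)⁻¹ • (π + s • A)) := by
      rw [IsIdempotentElem, smul_mul_smul_comm, mul_add, add_mul, add_mul, smul_mul_assoc,
        mul_smul_comm, mul_smul_comm, smul_mul_assoc, hππ, hAπ, hπA, hAA, smul_smul,
        show s * s = 1 by rw [← sq, hs], one_smul]
      module
    refine ⟨_, Eq.trans ?_ (LinearMap.IsIdempotentElem.isProj_range _ hEE).trace⟩
    rw [map_smul, map_add, map_smul, smul_eq_mul, smul_eq_mul]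
  obtain ⟨r, hr⟩ := hidem 1 (one_pow 2)
  obtain ⟨r', hr'⟩ := hidem (-1) (by norm_num)
  have hcl : Cfsg.IsClassFunction G ρ.character :=
    IsCharacter.isClassFunction (isCharacter_of_rep ρ)
  have htrπ : c * LinearMap.trace ℂ _ π = ∑ y : P, ρ.character y := by
    rw [hπ, map_smul, map_sum, smul_eq_mul, ← mul_assoc, mul_inv_cancel₀ hc0, one_mul]
    rfl
  have htrA : μ * LinearMap.trace ℂ _ A = ρ.character t := by
    rw [hA, map_smul, smul_eq_mul, ← mul_assoc, mul_inv_cancel₀ hμ, one_mul, hπ, mul_smul_comm,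
      map_smul, smul_eq_mul, Finset.mul_sum, map_sum,
      Finset.sum_congr rfl (g := fun _ => ρ.character t) (fun (y : P) _ => ?_), Finset.sum_const,
      Finset.card_univ, ← Nat.card_eq_fintype_card, nsmul_eq_mul, ← hc, ← mul_assoc,
      inv_mul_cancel₀ hc0, one_mul]
    obtain ⟨k, hk⟩ := hodd
    have hy : (y : G) ^ Nat.card P = 1 := congrArg Subtype.val (pow_card_eq_one' (x := y))
    set w : G := (y : G) ^ k with hw
    have hwy : (y : G) * (w * w) = 1 := by rw [hw, ← pow_add, ← pow_succ', ← hy, hk, two_mul]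
    have hwP : w ∈ P := P.pow_mem y.2 k
    have e1 : w * t * w⁻¹ = t * (y : G) := by
      have h1 := hinv w hwP
      have h2 : (y : G) = (w * w)⁻¹ := eq_inv_of_mul_eq_one_left hwy
      rw [h2, mul_inv_rev]
      calc w * t * w⁻¹ = (t * w * t⁻¹)⁻¹ * t * w⁻¹ := by rw [h1, inv_inv]
        _ = _ := by group
    rw [← map_mul]
    show ρ.character (t * y) = ρ.character t
    rw [← e1]
    exact hcl _ _
  refine ⟨r, r', ?_, ?_⟩
  · rw [← htrA]
    linear_combination μ * hr - μ * hr'
  · rw [← htrπ]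
    linear_combination (-c) * hr + (-c) * hr'

/-- The same for an irreducible character. -/
theorem exists_split_irr (χ : IrrCharacter G) (P : Subgroup G) [Fintype P]
    (hodd : Odd (Nat.card P)) (t : G) (hinv : ∀ y ∈ P, t * y * t⁻¹ = y⁻¹)
    (hc : t * t ∈ Subgroup.center G) (μ : ℂ) (hμ : μ ≠ 0)
    (hsq : (χ : G → ℂ) (t * t) = μ ^ 2 * (χ : G → ℂ) 1) :
    ∃ r r' : ℕ, (χ : G → ℂ) t = μ * ((r : ℂ) - (r' : ℂ)) ∧
      (Nat.card P : ℂ) * ((r : ℂ) + (r' : ℂ)) = ∑ y : P, (χ : G → ℂ) y := by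
  obtain ⟨n, ρ, hρ, hχ⟩ := χ.2
  rw [← hχ] at hsq ⊢
  obtain ⟨c, hcs⟩ := schur_scalar ρ (ρ (t * t)) fun g x => by
    rw [← Module.End.mul_apply, ← map_mul, ← Module.End.mul_apply, ← map_mul,
      Subgroup.mem_center_iff.mp hc g]
  refine exists_split ρ P hodd t hinv μ hμ ?_
  have hn : (Module.finrank ℂ (Fin n → ℂ) : ℂ) ≠ 0 :=
    Nat.cast_ne_zero.2 (finrank_pos_of_irreducible ρ).ne'
  have e : c = μ ^ 2 := by
    rw [Representation.char_one] at hsq
    refine mul_right_cancel₀ hn ?_
    rw [← hsq, Representation.character, hcs, map_smul, LinearMap.trace_id, smul_eq_mul]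
  rw [← map_mul, hcs, e]
  rfl

variable {P V N : Subgroup G} {e : ℕ} (K : Conf p P V N e)
  [Fintype P] [Fintype V] [Fintype N] [Fintype (P →* ℂˣ)] {M : Ideal AlgInt} [M.IsPrime]

include K

/-- A subgroup containing an element of order `p` contains a conjugate of `P`. -/
theorem exists_conj_mem {x : G} (hx : orderOf x = p) : ∃ g : G, g * x * g⁻¹ ∈ P := by
  haveI := Fact.mk K.hp
  obtain ⟨Q, hQ⟩ := (IsPGroup.of_card (n := 1) (show Nat.card (Subgroup.zpowers x) = p ^ 1 by
    rw [Nat.card_zpowers, hx, pow_one])).exists_le_sylow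
  obtain ⟨R, hR⟩ := (IsPGroup.of_card (n := 1) (show Nat.card P = p ^ 1 by
    rw [K.hP, pow_one])).exists_le_sylow
  have hRP : (R : Subgroup G) = P := by
    refine (Subgroup.eq_of_le_of_card_ge hR ?_).symm
    rw [Sylow.card_eq_multiplicity, DefOne.factorization_card K, pow_one, K.hP]
  obtain ⟨g, hg⟩ := MulAction.exists_smul_eq G Q R
  refine ⟨g, ?_⟩
  rw [← hRP, ← hg, Sylow.coe_subgroup_smul]
  exact ⟨x, hQ (Subgroup.mem_zpowers x), rfl⟩

/-- The reduction argument: normal `p'`-subgroups lie in `V`. -/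
theorem le_V_of_normal (hPn : ¬ P.Normal) (ζ : IrrCharacter G)
    (hf : ∀ g, (ζ : G → ℂ) g = (ζ : G → ℂ) 1 → g = 1)
    (hd : charDegree (ζ : G → ℂ) + 2 ≤ p) (H : Subgroup G) [H.Normal] (hH : ¬ p ∣ Nat.card H) :
    ∀ h ∈ H, ∀ y ∈ P, h * y = y * h := by
  haveI := Fact.mk K.hp
  obtain ⟨n, ρ, hρ, hχ⟩ := id ζ.2
  have hinj : Function.Injective ρ := by
    intro a b hab
    refine mul_inv_eq_one.1 (hf _ ?_)
    rw [← hχ, Representation.character, map_mul, hab, ← map_mul, mul_inv_cancel]
    rfl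
  have hn : n = charDegree (ζ : G → ℂ) := by
    have h1 := CharX.irr_deg ζ
    rw [← hχ, Representation.char_one, Module.finrank_fin_fun] at h1
    rw [← hχ]
    exact_mod_cast h1
  have hnn : ∀ U : Subgroup G, U.Normal → IsPGroup p U → U = ⊥ := by
    intro U hU hUp
    by_contra hne
    obtain ⟨i, hi⟩ := hUp.exists_card_eq
    rcases (show i = 0 ∨ i = 1 ∨ 2 ≤ i by omega) with h | h | h
    · rw [h, pow_zero, Subgroup.card_eq_one] at hi
      exact hne hi
    · rw [h, pow_one] at hi
      refine hPn ?_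
      have hle : P ≤ U := fun y hy =>
        DefOne.mem_of_normal_prime K.hp K.hsq hi (DefOne.pow_eq_one_of_card K.hP hy)
      rw [Subgroup.eq_of_le_of_card_ge hle (by rw [hi, K.hP])]
      exact hU
    · exact K.hsq ((pow_dvd_pow p h).trans (hi ▸ Subgroup.card_subgroup_dvd_card U))
  obtain ⟨W, hpW, hch, m, σ, -, hσ, -⟩ := SmallDim.exists_reduction hnn ρ hinj
  intro h hh y hy
  exact SmallDim.commute_of_normal_compl σ hσ (by rw [Module.finrank_fin_fun, hn]; exact hd) K.hsq H hH
    (DefOne.pow_eq_one_of_card K.hP hy) hh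

/-- `N` is larger than the centralizer of `P`. -/
theorem e_ne_one (hPn : ¬ P.Normal) (ζ : IrrCharacter G)
    (hf : ∀ g, (ζ : G → ℂ) g = (ζ : G → ℂ) 1 → g = 1)
    (hd : charDegree (ζ : G → ℂ) + 2 ≤ p) : e ≠ 1 := by
  intro he
  haveI := Fact.mk K.hp
  obtain ⟨R, hR⟩ := (IsPGroup.of_card (n := 1) (show Nat.card P = p ^ 1 by
    rw [K.hP, pow_one])).exists_le_sylow
  have hRP : (R : Subgroup G) = P := by
    refine (Subgroup.eq_of_le_of_card_ge hR ?_).symm
    rw [Sylow.card_eq_multiplicity, DefOne.factorization_card K, pow_one, K.hP]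
  have hNC : Subgroup.normalizer ((R : Subgroup G) : Set G) ≤ Subgroup.centralizer ((R : Subgroup G) : Set G) := by
    rw [hRP, ← K.hN]
    have h := K.D.he
    rw [he, Subgroup.index_eq_one, Subgroup.subgroupOf_eq_top] at h
    exact h
  have hc := MonoidHom.ker_transferSylow_isComplement' R hNC
  set H := (MonoidHom.transferSylow R hNC).ker with hH
  have hHp : ¬ p ∣ Nat.card H := MonoidHom.not_dvd_card_ker_transferSylow R hNC
  have hcom := le_V_of_normal K hPn ζ hf hd H hHp
  refine hPn ⟨fun y hy g => ?_⟩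
  obtain ⟨⟨h, r⟩, hg⟩ := hc.2 g
  have hrP : (r : G) ∈ P := by rw [← hRP]; exact r.2
  have hgy : g * y = y * g := by
    rw [← hg]
    show (h : G) * (r : G) * y = y * ((h : G) * (r : G))
    rw [mul_assoc, K.D.comm _ hrP _ hy, ← mul_assoc, hcom h h.2 y hy, mul_assoc]
  rwa [hgy, mul_inv_cancel_right]

variable (hM : IsPModular p M)

include hM

open scoped Classical in
/-- The centralizer of `P` is `P × Z(G)` and has index two in the normalizer. -/
theorem conf_small (h5 : 5 < p) (hPn : ¬ P.Normal) (ζ : IrrCharacter G)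
    (hf : ∀ g, (ζ : G → ℂ) g = (ζ : G → ℂ) 1 → g = 1)
    (hd : charDegree (ζ : G → ℂ) = p - 2) :
    e = 2 ∧ V = Subgroup.center G ∧
      ∃ b : IrrCharacter V, (b : V → ℂ) 1 = 1 ∧ InR K ζ b := by
  haveI := Fact.mk K.hp
  have hne1 := e_ne_one K hPn ζ hf (by omega)
  have hdp : ¬ p ∣ charDegree (ζ : G → ℂ) := by
    rw [hd]
    intro h
    have := Nat.le_of_dvd (by omega) h
    omega
  obtain ⟨b, hb⟩ := exists_inR K hM hdp
  have hζc := IsIrrCharacter.isCharacter ζ.2
  have hbdeg : 0 < charDegree (b : V → ℂ) := CharX.irr_deg_pos b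
  -- the rows outside the orbit vanish
  have hout : ∀ γ, γ ∉ orbB K b → ∀ l, nco K.D hζc l γ = 0 := by
    intro γ hγ l
    have hnR : ¬ InR K ζ γ := fun h => hγ ((mem_orbB K).2 (exists_conj_of_block K hM hb h rfl))
    rw [const_of_not_inR K hnR l]
    by_contra hne
    have h1 := deg_eq_nat K ζ
    have h2 : (∑ m, nco K.D hζc m γ) * charDegree (γ : V → ℂ) ≤ charDegree (ζ : G → ℂ) :=
      (Finset.single_le_sum (f := fun δ : IrrCharacter V => (∑ m, nco K.D hζc m δ) *
        charDegree (δ : V → ℂ)) (fun _ _ => Nat.zero_le _) (Finset.mem_univ γ)).trans h1.le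
    rw [Finset.sum_congr rfl (g := fun _ => nco K.D hζc 1 γ) (fun m _ => const_of_not_inR K hnR m),
      Finset.sum_const, Finset.card_univ, card_dual_eq K, smul_eq_mul, hd] at h2
    have h3 : p * 1 * 1 ≤ p * nco K.D hζc 1 γ * charDegree (γ : V → ℂ) :=
      Nat.mul_le_mul (Nat.mul_le_mul le_rfl (Nat.pos_of_ne_zero hne)) (CharX.irr_deg_pos γ)
    omega
  -- the column sum
  set S := ∑ l, nco K.D hζc l b with hS
  have hdeg : (orbB K b).card * (S * charDegree (b : V → ℂ)) = p - 2 := by
    rw [← hd, ← deg_eq_nat K ζ, ← Finset.sum_subset (Finset.subset_univ (orbB K b))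
      (fun γ _ hγ => by simp [hout γ hγ]), Finset.sum_congr rfl (g := fun _ => S * charDegree (b : V → ℂ))
      (fun γ hγ => ?_), Finset.sum_const, smul_eq_mul]
    obtain ⟨w, rfl⟩ := (mem_orbB K).1 hγ
    rw [charDegree_bT K, hS, ← Fintype.sum_bijective _ (lT_bijective K w)
      (fun l => nco K.D hζc (lT K.D w l) (bT K.D w b)) (fun l => nco K.D hζc l (bT K.D w b)) fun _ => rfl,
      Finset.sum_congr rfl fun l _ => nco_inv K.D hζc w l b]
  obtain ⟨eb, X, Y, δ, sg, F⟩ := DefOne.exists_families K hM b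
  set k := nco K.D hζc 1 b with hk
  have hnco : ∀ l, (nco K.D hζc l b : ℤ) = (k : ℤ) - acoef K ζ b l := fun l => by
    simp only [acoef, hk]; ring
  have hSz : (S : ℤ) = (p : ℤ) * k - ∑ l, acoef K ζ b l := by
    rw [hS, Nat.cast_sum, Finset.sum_congr rfl fun l _ => hnco l, Finset.sum_sub_distrib,
      Finset.sum_const, Finset.card_univ, card_dual_eq K, nsmul_eq_mul]
  have horb : 0 < (orbB K b).card := Finset.card_pos.2 ⟨b, (mem_orbB K).2 ⟨1, bT_one K b⟩⟩
  have hSle : S ≤ p - 2 := by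
    rw [← hdeg]
    calc S = 1 * (S * 1) := by ring
      _ ≤ _ := Nat.mul_le_mul horb (Nat.mul_le_mul le_rfl hbdeg)
  have htriv : (∀ l, l ≠ 1 → nco K.D hζc l b = 0) → False := by
    intro h0
    obtain ⟨y, hy⟩ := exists_ne_one_P K
    refine hy (Subtype.ext (hf y ?_))
    have e1 := expansion K.D (IsCharacter.isClassFunction hζc) y 1
    have e2 := expansion K.D (IsCharacter.isClassFunction hζc) 1 1
    rw [OneMemClass.coe_one, mul_one] at e1
    simp only [OneMemClass.coe_one, mul_one] at e2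
    rw [e1, e2]
    refine Finset.sum_congr rfl fun l _ => Finset.sum_congr rfl fun γ _ => ?_
    by_cases hl : l = 1
    · simp [hl]
    · have hz : nco K.D hζc l γ = 0 := by
        by_cases hγ : γ ∈ orbB K b
        · obtain ⟨w, rfl⟩ := (mem_orbB K).1 hγ
          obtain ⟨l', rfl⟩ := (lT_bijective K w).2 l
          rw [nco_inv K.D hζc w l' b]
          exact h0 l' fun e => hl (by rw [e, lT_triv])
        · exact hout γ hγ l
      simp [co_eq K.D hζc, hz]
  -- the character is exceptional with sign `1`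
  have hebd : eb ∣ p - 1 := Families.eb_dvd K F
  have hebp := Families.eb_pos K F
  have heble : eb ≤ p - 1 := Nat.le_of_dvd (by omega) hebd
  have hY : ζ ∈ Y := by
    rcases (mem_iff_inR K F ζ).2 hb with hX | hY
    · exfalso
      rw [Families.sum_X K F hX] at hSz
      rcases F.signX ζ hX with hs | hs <;> rw [hs] at hSz
      · have hk1 : k = 1 := by
          rcases (show k = 0 ∨ k = 1 ∨ 2 ≤ k by omega) with h | h | h
          · rw [h] at hSz; push_cast at hSz; omega
          · exact h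
          · have := Nat.mul_le_mul (le_refl p) h
            have h' : (p : ℤ) * 2 ≤ (p : ℤ) * k := by exact_mod_cast this
            omega
        refine htriv fun l hl => ?_
        have h1 := hnco l
        rw [F.rowX ζ hX l hl, hs, hk1] at h1
        omega
      · have h' : 0 ≤ (p : ℤ) * k := by positivity
        omega
    · exact hY
  have hcase : S + eb = p ∨ S = eb := by
      rw [F.sumY ζ hY] at hSz
      rcases F.sign with hs | hs <;> rw [hs] at hSz
      · left
        rcases (show k = 0 ∨ k = 1 ∨ 2 ≤ k by omega) with h | h | h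
        · rw [h] at hSz; push_cast at hSz; omega
        · rw [h] at hSz; push_cast at hSz; omega
        · have := Nat.mul_le_mul (le_refl p) h
          have h' : (p : ℤ) * 2 ≤ (p : ℤ) * k := by exact_mod_cast this
          omega
      · right
        rcases (show k = 0 ∨ 1 ≤ k by omega) with h | h
        · rw [h] at hSz; push_cast at hSz; omega
        · have := Nat.mul_le_mul (le_refl p) h
          have h' : (p : ℤ) * 1 ≤ (p : ℤ) * k := by exact_mod_cast this
          omega
  have hNcard : Nat.card N = e * (p * Nat.card V) := by rw [K.D.hcard, K.hP]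
  have he_orb : (orbB K b).card * eb = e := by
    have h := card_orbB K b
    rw [F.card_stab, hNcard, ← mul_assoc] at h
    exact Nat.eq_of_mul_eq_mul_right (Nat.mul_pos K.hp.pos Nat.card_pos) h
  have hep : e ∣ p - 1 := by
    have h := dvd_card_sub_one K.D
    rwa [K.hP] at h
  have hcop : ∀ m, m ∣ p - 1 → m ∣ p - 2 → m = 1 := by
    intro m h1 h2
    have h := Nat.dvd_sub h1 h2
    rw [show (p - 1) - (p - 2) = 1 by omega] at h
    exact Nat.dvd_one.1 h
  have hSeb : S + eb = p := by
    refine hcase.resolve_right fun h => hne1 (hcop e hep ?_)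
    refine ⟨charDegree (b : V → ℂ), ?_⟩
    rw [← hdeg, h]
    conv_rhs => arg 1; rw [← he_orb]
    ring
  have heb2 : eb ≠ p - 1 := by
    intro h
    have hS1 : S = 1 := by omega
    rw [F.sumY ζ hY] at hSz
    have hk1 : k = 1 := by
      rcases F.sign with hs | hs <;> rw [hs] at hSz
      · rcases (show k = 0 ∨ k = 1 ∨ 2 ≤ k by omega) with h' | h' | h'
        · rw [h'] at hSz; push_cast at hSz; omega
        · exact h'
        · have := Nat.mul_le_mul (le_refl p) h'
          have h'' : (p : ℤ) * 2 ≤ (p : ℤ) * k := by exact_mod_cast this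
          omega
      · exfalso
        have h' : 0 ≤ (p : ℤ) * k := by positivity
        omega
    refine htriv fun l hl => ?_
    have h1 : nco K.D hζc 1 b + nco K.D hζc l b ≤ S := by
      rw [hS, ← Finset.sum_pair hl.symm (f := fun m => nco K.D hζc m b)]
      exact Finset.sum_le_sum_of_subset (Finset.subset_univ _)
    omega
  obtain ⟨q, hq⟩ := hebd
  have h2eb : 2 * eb ≤ p - 1 := by
    rw [hq]
    have hq2 : 2 ≤ q := by
      rcases (show q = 0 ∨ q = 1 ∨ 2 ≤ q by omega) with h | h | h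
      · rw [h, mul_zero] at hq; omega
      · rw [h, mul_one] at hq; omega
      · exact h
    calc 2 * eb = eb * 2 := mul_comm _ _
      _ ≤ eb * q := Nat.mul_le_mul le_rfl hq2
  have hS2 : S = p - 2 ∧ (orbB K b).card = 1 ∧ charDegree (b : V → ℂ) = 1 := by
    have h1 : (orbB K b).card * charDegree (b : V → ℂ) = 1 := by
      by_contra hne
      have h2 : 2 ≤ (orbB K b).card * charDegree (b : V → ℂ) := by
        have := Nat.mul_pos horb hbdeg
        omega
      have h3 : 2 * S ≤ p - 2 := by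
        rw [← hdeg, show (orbB K b).card * (S * charDegree (b : V → ℂ)) =
          (orbB K b).card * charDegree (b : V → ℂ) * S by ring]
        exact Nat.mul_le_mul h2 le_rfl
      omega
    obtain ⟨h2, h3⟩ := mul_eq_one.1 h1
    rw [h2, h3, one_mul, mul_one] at hdeg
    exact ⟨hdeg, h2, h3⟩
  obtain ⟨hS2, horb1, hb1⟩ := hS2
  have hb1' : (b : V → ℂ) 1 = 1 := by rw [irr_one_eq_charDegree, hb1, Nat.cast_one]
  have hZC : Subgroup.center G ≤ Subgroup.centralizer (P : Set G) :=
    Subgroup.center_le_centralizer _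
  have hres : ∀ v : V, (ζ : G → ℂ) v = (ζ : G → ℂ) 1 * (b : V → ℂ) v := by
    intro v
    have h1 := expansion_one K.D (IsCharacter.isClassFunction hζc) v
    rw [h1, Finset.sum_eq_single b (fun γ _ hγ => ?_) (fun h => absurd (Finset.mem_univ _) h),
      irr_one_eq_charDegree, hd, ← hS2, hS, Nat.cast_sum]
    · congr 1
      exact Finset.sum_congr rfl fun l _ => co_eq K.D hζc l b
    · have hγ' : γ ∉ orbB K b := fun h => hγ (Finset.card_le_one.1 horb1.le γ h b
        ((mem_orbB K).2 ⟨1, bT_one K b⟩))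
      simp [co_eq K.D hζc, hout γ hγ']
  refine ⟨?_, ?_, b, hb1', hb⟩
  · rw [← he_orb, horb1, one_mul]; omega
  · refine le_antisymm (fun v hv => ?_) fun z hz => mem_V_of_regular K (hZC hz) fun h => ?_
    · refine mem_center_of_norm ζ.2 hf (d := p - 2) (by rw [irr_one_eq_charDegree, hd]) ?_
      rw [hres ⟨v, hv⟩, norm_mul, irr_one_eq_charDegree, hd, Complex.norm_natCast]
      obtain ⟨f, hf'⟩ := exists_hom_of_degree_one (IsIrrCharacter.isCharacter b.2) hb1'
      rw [hf', norm_eq_one_of_pow (m := Nat.card V) Nat.card_pos.ne' ?_, mul_one]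
      rw [← Units.val_pow_eq_pow_val, ← map_pow, pow_card_eq_one', map_one, Units.val_one]
    · exact not_dvd_center K.hp K.hP K.hsq hPn
        (h.trans (Subgroup.orderOf_dvd_natCard _ hz))

end Cfsg.Agent.DegreePTwo.Faithful
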