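import Cfsg.Agent.Lib.DegreePTwo.Chars

/-! Groups of prime degree `p` with Sylow normalizer of order `2 p`: orbit bound, involutions. -/

set_option autoImplicit false
set_option linter.style.haveILetI false

namespace Cfsg.Agent.DegreePTwo

open MulAction Cfsg Cfsg.Agent.Char
open scoped ComplexConjugate

universe u v

variable {G : Type u} [Group G] [Fintype G] {Ω : Type v} [MulAction G Ω] {p : ℕ}

namespace Setup

variable (S : Setup G Ω p)

include S

theorem sum_singular [DecidablePred fun g : G => p ∣ orderOf g] :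
    (p : ℂ) * ((Finset.univ.filter fun g : G => p ∣ orderOf g).card : ℂ) =
      (((p - 1) / 2 : ℕ) : ℂ) * (Nat.card G : ℂ) := by
  have h := S.card_singular
  rw [Nat.card_eq_fintype_card (α := {g : G // p ∣ orderOf g}), Fintype.card_subtype] at h
  have h2 : (p - 1) = 2 * ((p - 1) / 2) := by
    have := S.five
    obtain ⟨r, hr⟩ := S.prime.odd_of_ne_two (by omega)
    omega
  rw [h2] at h
  have h3 : p * (Finset.univ.filter fun g : G => p ∣ orderOf g).card =
      (p - 1) / 2 * Nat.card G := by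
    refine Nat.eq_of_mul_eq_mul_left (show 0 < 2 by norm_num) ?_
    rw [← mul_assoc, h]
    ring
  exact_mod_cast h3

theorem sum_th_sq_mul {χ : IrrCharacter G} (hne : ∀ one : IrrCharacter G,
      (∀ g, (one : G → ℂ) g = 1) → χ ≠ one)
    (hχ : ∀ g : G, ¬ p ∣ orderOf g → (χ : G → ℂ) g = th Ω g - 1) :
    ∑ g : G, th Ω g ^ 2 * conj ((χ : G → ℂ) g) = (Nat.card G : ℂ) := by
  classical
  obtain ⟨m1, m2, m3, -⟩ := S.moments
  have hn : ∑ _g : G, (1 : ℂ) = (Nat.card G : ℂ) := by simp [Nat.card_eq_fintype_card]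
  have hχ0 : ∑ g : G, conj ((χ : G → ℂ) g) = 0 := by
    have h := sum_irr χ (principal G)
    rw [if_neg (hne _ fun g => rfl)] at h
    have h' : ∀ g : G, conj ((χ : G → ℂ) g) = conj ((χ : G → ℂ) g * conj ((principal G : G → ℂ) g)) := by
      intro g
      rw [show ((principal G : G → ℂ) g) = 1 from rfl]
      simp
    rw [Finset.sum_congr rfl (fun g _ => h' g), ← map_sum, h, map_zero]
  have hpt : ∀ g : G, th Ω g ^ 2 * conj ((χ : G → ℂ) g) =
      th Ω g ^ 3 - th Ω g ^ 2 - (th Ω g - 1 - conj ((χ : G → ℂ) g)) := by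
    intro g
    by_cases hg : p ∣ orderOf g
    · rw [S.th_singular hg]; ring
    · rw [hχ g hg, map_sub, conj_th, map_one]; ring
  rw [Finset.sum_congr rfl (fun g _ => hpt g)]
  simp only [Finset.sum_sub_distrib]
  rw [m1, m2, m3, hn, hχ0]
  ring

/-- There are at least `(p - 1) / 2` orbits on ordered quadruples. -/
theorem orbits_quadruples :
    (p - 1) / 2 ≤ Nat.card (Quotient (orbitRel G (Fin 4 ↪ Ω))) := by
  classical
  obtain ⟨one, Θ, Y, h1, hΘ, hne, h1Y, hΘY, hYc, hY1, hYr⟩ := S.block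
  obtain ⟨-, m2, m3, m4⟩ := S.moments
  set B : Finset (IrrCharacter G) := insert one (insert Θ Y) with hB
  have h1B : one ∉ insert Θ Y := by simp [hne, h1Y]
  have hBc : B.card = (p - 1) / 2 + 2 := by
    rw [hB, Finset.card_insert_of_notMem h1B, Finset.card_insert_of_notMem hΘY, hYc]
  have hin : ∀ ψ ∈ B, ∑ g : G, th Ω g ^ 2 * conj ((ψ : G → ℂ) g) = (Nat.card G : ℂ) := by
    intro ψ hψ
    rw [hB, Finset.mem_insert, Finset.mem_insert] at hψ
    rcases hψ with rfl | rfl | hψ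
    · rw [← m2]; exact Finset.sum_congr rfl fun g _ => by simp [h1]
    · rw [← m3]; exact Finset.sum_congr rfl fun g _ => by rw [hΘ, conj_th]; ring
    · refine S.sum_th_sq_mul (fun o ho h => ?_) (hYr ψ hψ)
      have e : o = one := Subtype.ext (funext fun g => (ho g).trans (h1 g).symm)
      exact h1Y (e ▸ h ▸ hψ)
  set R : G → ℂ := fun g => th Ω g ^ 2 - ∑ ψ ∈ B, (ψ : G → ℂ) g with hR
  have hR1 : R 1 = (p : ℂ) * ((p : ℂ) - 3) / 2 := by
    simp only [hR, hB]
    rw [Finset.sum_insert h1B, Finset.sum_insert hΘY, Finset.sum_congr rfl hY1, Finset.sum_const,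
      hYc, h1, hΘ, S.th_one, nsmul_eq_mul, Nat.cast_div ?_ (by norm_num), Nat.cast_sub S.prime.one_le]
    · push_cast; ring
    · have := S.five
      obtain ⟨r, hr⟩ := S.prime.odd_of_ne_two (by omega)
      omega
  have hRR : ∑ g : G, R g * conj (R g) =
      ((Nat.card (Quotient (orbitRel G (Fin 4 ↪ Ω))) : ℂ) + 3 - (B.card : ℂ)) * (Nat.card G : ℂ) := by
    have hpt : ∀ g : G, R g * conj (R g) = th Ω g ^ 4 - ∑ ψ ∈ B, th Ω g ^ 2 * conj ((ψ : G → ℂ) g)
        - ∑ ψ ∈ B, conj (th Ω g ^ 2 * conj ((ψ : G → ℂ) g))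
        + ∑ ψ ∈ B, ∑ φ ∈ B, (ψ : G → ℂ) g * conj ((φ : G → ℂ) g) := by
      intro g
      simp only [hR, map_sub, map_sum, map_pow, map_mul, conj_th, Complex.conj_conj,
        ← Finset.mul_sum, ← Finset.sum_mul]
      ring
    rw [Finset.sum_congr rfl (fun g _ => hpt g), Finset.sum_add_distrib, Finset.sum_sub_distrib,
      Finset.sum_sub_distrib, m4, Finset.sum_comm (t := B), Finset.sum_congr rfl hin,
      Finset.sum_comm (t := B) (f := fun g ψ => conj (th Ω g ^ 2 * conj ((ψ : G → ℂ) g)))]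
    have e1 : ∀ ψ ∈ B, ∑ g : G, conj (th Ω g ^ 2 * conj ((ψ : G → ℂ) g)) = (Nat.card G : ℂ) := by
      intro ψ hψ
      rw [← map_sum, hin ψ hψ, map_natCast]
    rw [Finset.sum_congr rfl e1, Finset.sum_comm (t := B) (f := fun g ψ =>
      ∑ φ ∈ B, (ψ : G → ℂ) g * conj ((φ : G → ℂ) g))]
    have e2 : ∀ ψ ∈ B, ∑ g : G, ∑ φ ∈ B, (ψ : G → ℂ) g * conj ((φ : G → ℂ) g) =
        (Nat.card G : ℂ) := by
      intro ψ hψ
      rw [Finset.sum_comm, Finset.sum_congr rfl (fun φ _ => sum_irr ψ φ), Finset.sum_ite_eq, if_pos hψ]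
    rw [Finset.sum_congr rfl e2, Finset.sum_const, nsmul_eq_mul]
    ring
  have hpos : 0 < ∑ g : G, Complex.normSq (R g) := by
    refine Finset.sum_pos' (fun g _ => Complex.normSq_nonneg _) ⟨1, Finset.mem_univ _, ?_⟩
    refine Complex.normSq_pos.2 fun h => ?_
    rw [hR1, div_eq_zero_iff, mul_eq_zero, sub_eq_zero, Nat.cast_eq_zero] at h
    rcases h with (h | h) | h
    · exact S.prime.ne_zero h
    · have h3 : (p : ℂ) = ((3 : ℕ) : ℂ) := by exact_mod_cast h
      rw [Nat.cast_inj] at h3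
      have := S.five
      omega
    · norm_num at h
  have hreal : ∑ g : G, Complex.normSq (R g) =
      ((Nat.card (Quotient (orbitRel G (Fin 4 ↪ Ω))) : ℝ) + 3 - (B.card : ℝ)) * (Nat.card G : ℝ) := by
    apply Complex.ofReal_injective
    push_cast
    rw [← hRR]
    exact Finset.sum_congr rfl fun g _ => (Complex.mul_conj (R g)).symm
  rw [hreal] at hpos
  have h4 := (pos_iff_pos_of_mul_pos hpos).2 (by exact_mod_cast Nat.card_pos)
  have h5 : B.card < Nat.card (Quotient (orbitRel G (Fin 4 ↪ Ω))) + 3 := by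
    exact_mod_cast (sub_pos.1 h4)
  omega

/-- An involution inverting an element of order `p` fixes at most one point. -/
theorem inverting_fix {s y : G} (hs : orderOf s = 2) (hy : orderOf y = p)
    (h : s * y * s⁻¹ ∈ Subgroup.zpowers y) : Nat.card (fixedBy Ω s) ≤ 1 := by
  haveI := S.finite_points
  haveI : Fintype Ω := Fintype.ofFinite Ω
  rw [Finite.card_le_one_iff_subsingleton]
  refine ⟨fun a b => Subtype.ext ?_⟩
  by_contra hab
  obtain ⟨z, hz, hzab⟩ := S.orbit_univ hy (a : Ω) (b : Ω)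
  have hz1 : z ≠ 1 := fun e => hab (by rw [← hzab, e, one_smul])
  have hord : ∀ w ∈ Subgroup.zpowers y, w ≠ 1 → orderOf w = p := fun w hw hw1 =>
    (S.prime.eq_one_or_self_of_dvd _ (hy ▸ orderOf_dvd_of_mem_zpowers hw)).resolve_left
      fun e => hw1 (orderOf_eq_one_iff.1 e)
  have hsz : s * z * s⁻¹ ∈ Subgroup.zpowers y := by
    obtain ⟨i, rfl⟩ := hz
    simpa [conj_zpow] using (Subgroup.zpowers y).zpow_mem h i
  have hfix : ∀ w : fixedBy Ω s, s⁻¹ • (w : Ω) = w := fun w => by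
    rw [inv_smul_eq_iff]; exact w.2.symm
  have hpt : (z⁻¹ * (s * z * s⁻¹)) • (a : Ω) = a := by
    rw [mul_smul, mul_smul, mul_smul, hfix a, hzab, b.2, inv_smul_eq_iff, hzab]
  have heq : s * z * s⁻¹ = z := by
    by_contra hne
    exact S.no_fixed (hord _ (Subgroup.mul_mem _ ((Subgroup.zpowers y).inv_mem hz) hsz)
      fun e => hne (inv_mul_eq_one.1 e).symm) a hpt
  have hmem : s ∈ Subgroup.centralizer ({z} : Set G) :=
    Subgroup.mem_centralizer_singleton_iff.2 (mul_inv_eq_iff_eq_mul.1 heq)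
  have := Subgroup.orderOf_dvd_natCard _ hmem
  rw [hs, S.card_centralizer (hord z hz hz1)] at this
  have h2 := (Nat.prime_dvd_prime_iff_eq Nat.prime_two S.prime).1 this
  have := S.five
  omega

omit S [Fintype G] in
theorem fix_conj (j s : G) :
    Nat.card (fixedBy Ω (j⁻¹ * s * j)) = Nat.card (fixedBy Ω s) :=
  Nat.card_congr ((MulAction.toPerm j).subtypeEquiv fun a => by
    simp only [mem_fixedBy, mul_smul, MulAction.toPerm_apply, inv_smul_eq_iff])

omit S in
theorem parity_fix [Finite Ω] {s : G} (hs : orderOf s = 2) :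
    Nat.card (fixedBy Ω s) ≡ Nat.card Ω [MOD 2] := by
  have hp : IsPGroup 2 (Subgroup.zpowers s) :=
    IsPGroup.of_card (n := 1) (by rw [Nat.card_zpowers, hs, pow_one])
  haveI := Fact.mk Nat.prime_two
  refine Nat.ModEq.trans ?_ (hp.card_modEq_card_fixedPoints Ω).symm
  rw [Nat.card_congr (Equiv.setCongr (show fixedBy Ω s = fixedPoints (Subgroup.zpowers s) Ω from ?_))]
  ext a
  simp only [mem_fixedBy, mem_fixedPoints, Subtype.forall]
  refine ⟨fun ha g hg => ?_, fun ha => ha s (Subgroup.mem_zpowers s)⟩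
  exact (Subgroup.zpowers_le (H := stabilizer G a)).2 ha hg

/-- Every involution fixes at most one point. -/
theorem invol_fix {s : G} (hs : orderOf s = 2) : Nat.card (fixedBy Ω s) ≤ 1 := by
  classical
  haveI := Fact.mk S.prime
  haveI := S.finite_points
  haveI : Fintype Ω := Fintype.ofFinite Ω
  by_contra hf
  rw [not_le] at hf
  obtain ⟨one, Θ, Y, h1, hΘ, hne, h1Y, hΘY, hYc, hY1, hYr⟩ := S.block
  obtain ⟨-, m2, -, -⟩ := S.moments
  obtain ⟨P⟩ : Nonempty (Sylow p G) := inferInstance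
  obtain ⟨x, hx⟩ := exists_prime_orderOf_dvd_card' (G := (P : Subgroup G)) p (by rw [S.sylow P])
  have hx' : orderOf (x : G) = p := by rw [Subgroup.orderOf_coe, hx]
  have hzp : Subgroup.zpowers (x : G) = (P : Subgroup G) :=
    Subgroup.eq_of_le_of_card_ge (Subgroup.zpowers_le.2 x.2) (by
      rw [S.sylow P, Nat.card_zpowers, hx'])
  haveI := Fact.mk Nat.prime_two
  obtain ⟨v, hv⟩ := exists_prime_orderOf_dvd_card'
    (G := Subgroup.normalizer ((P : Subgroup G) : Set G)) 2 (by rw [S.normalizer P]; exact Dvd.intro _ rfl)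
  have hv' : orderOf (v : G) = 2 := by rw [Subgroup.orderOf_coe, hv]
  have hvx : (v : G) * x * (v : G)⁻¹ ∈ Subgroup.zpowers (x : G) := by
    rw [hzp]
    exact (Subgroup.mem_normalizer_iff.1 v.2 x).1 x.2
  have hp2 : p ≠ 2 := by have := S.five; omega
  have hv1 : Nat.card (fixedBy Ω (v : G)) = 1 := by
    have h1' := S.inverting_fix hv' hx' hvx
    have h2' := parity_fix (Ω := Ω) hv'
    rw [S.card] at h2'
    obtain ⟨r, hr⟩ := S.prime.odd_of_ne_two hp2
    unfold Nat.ModEq at h2'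
    omega
  have hcl : ∀ χ : IrrCharacter G, Cfsg.IsClassFunction G (χ : G → ℂ) := fun χ =>
    IsCharacter.isClassFunction (IsIrrCharacter.isCharacter χ.2)
  have hreg : ∀ w : G, orderOf w = 2 ∨ w = 1 → ¬ p ∣ orderOf w := by
    rintro w (h | rfl) hd
    · rw [h] at hd; exact hp2 ((Nat.prime_dvd_prime_iff_eq S.prime Nat.prime_two).1 hd)
    · rw [orderOf_one] at hd; exact S.prime.not_dvd_one hd
  set B : Finset (IrrCharacter G) := insert one (insert Θ Y) with hB
  have h1B : one ∉ insert Θ Y := by simp [hne, h1Y]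
  have hzero : ∀ ψ : IrrCharacter G, ψ ∉ B → ∀ g : G, p ∣ orderOf g → (ψ : G → ℂ) g = 0 := by
    set T : Finset G := Finset.univ.filter fun g : G => p ∣ orderOf g with hT
    have hsp := S.sum_singular
    rw [← hT] at hsp
    have hcol : ∀ g ∈ T, ∑ ψ : IrrCharacter G, (ψ : G → ℂ) g * conj ((ψ : G → ℂ) g) = (p : ℂ) := by
      intro g hg
      rw [column_orth_of_isConj (IsConj.refl g),
        S.card_centralizer (S.singular (Finset.mem_filter.1 hg).2).1]
    have hsY : ∀ χ ∈ Y, ∑ g ∈ T, (χ : G → ℂ) g * conj ((χ : G → ℂ) g) =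
        4 * (T.card : ℂ) - (Nat.card G : ℂ) := by
      intro χ hχ
      obtain ⟨m1, -, -, -⟩ := S.moments
      have hn : ∑ _g : G, (1 : ℂ) = (Nat.card G : ℂ) := by simp [Nat.card_eq_fintype_card]
      have hall : ∑ g : G, (χ : G → ℂ) g * conj ((χ : G → ℂ) g) = (Nat.card G : ℂ) := by
        rw [sum_irr, if_pos rfl]
      have hall' : ∑ g : G, (th Ω g - 1) ^ 2 = 2 * (Nat.card G : ℂ) := by
        have e : ∀ g : G, (th Ω g - 1) ^ 2 = th Ω g ^ 2 - (th Ω g + th Ω g) + 1 := fun g => by ring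
        rw [Finset.sum_congr rfl (fun g _ => e g), Finset.sum_add_distrib, Finset.sum_sub_distrib,
          Finset.sum_add_distrib, m1, m2, hn]
        ring
      have hdiff : ∑ g : G, ((χ : G → ℂ) g * conj ((χ : G → ℂ) g) - (th Ω g - 1) ^ 2) =
          ∑ g ∈ T, ((χ : G → ℂ) g * conj ((χ : G → ℂ) g) - 4) := by
        rw [hT, Finset.sum_filter]
        refine Finset.sum_congr rfl fun g _ => ?_
        split_ifs with hg
        · rw [S.th_singular hg]; ring
        · rw [hYr χ hχ g hg, map_sub, conj_th, map_one]; ring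
      rw [Finset.sum_sub_distrib, Finset.sum_sub_distrib, hall, hall', Finset.sum_const,
        nsmul_eq_mul] at hdiff
      linear_combination -hdiff
    have htot : ∑ ψ ∈ B, ∑ g ∈ T, (ψ : G → ℂ) g * conj ((ψ : G → ℂ) g) = (p : ℂ) * (T.card : ℂ) := by
      have e1 : ∑ g ∈ T, (one : G → ℂ) g * conj ((one : G → ℂ) g) = (T.card : ℂ) := by
        simp [h1]
      have e2 : ∑ g ∈ T, (Θ : G → ℂ) g * conj ((Θ : G → ℂ) g) = (T.card : ℂ) := by
        rw [Finset.card_eq_sum_ones T, Nat.cast_sum]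
        refine Finset.sum_congr rfl fun g hg => ?_
        rw [hΘ, conj_th, S.th_singular (Finset.mem_filter.1 hg).2]
        norm_num
      rw [hB, Finset.sum_insert h1B, Finset.sum_insert hΘY, e1, e2, Finset.sum_congr rfl hsY,
        Finset.sum_const, hYc, nsmul_eq_mul]
      have hh : (2 : ℂ) * (((p - 1) / 2 : ℕ) : ℂ) + 1 = (p : ℂ) := by
        obtain ⟨r, hr⟩ := S.prime.odd_of_ne_two hp2
        have : 2 * ((p - 1) / 2) + 1 = p := by omega
        exact_mod_cast this
      linear_combination hsp + 2 * (T.card : ℂ) * hh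
    have hrest : ∑ ψ ∈ Finset.univ \ B, ∑ g ∈ T, (ψ : G → ℂ) g * conj ((ψ : G → ℂ) g) = 0 := by
      have h := Finset.sum_sdiff (Finset.subset_univ B)
        (f := fun ψ : IrrCharacter G => ∑ g ∈ T, (ψ : G → ℂ) g * conj ((ψ : G → ℂ) g))
      rw [Finset.sum_comm (s := Finset.univ), Finset.sum_congr rfl hcol, Finset.sum_const,
        nsmul_eq_mul] at h
      linear_combination h - htot
    intro ψ hψ g hg
    have hr : ∑ ψ ∈ Finset.univ \ B, ∑ g ∈ T, Complex.normSq ((ψ : G → ℂ) g) = 0 := by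
      apply Complex.ofReal_injective
      push_cast
      rw [← hrest]
      exact Finset.sum_congr rfl fun _ _ => Finset.sum_congr rfl fun g _ => (Complex.mul_conj _).symm
    have h' := (Finset.sum_eq_zero_iff_of_nonneg
      (fun _ _ => Finset.sum_nonneg fun _ _ => Complex.normSq_nonneg _)).1 hr ψ (by simp [hψ])
    exact Complex.normSq_eq_zero.1 ((Finset.sum_eq_zero_iff_of_nonneg
      (fun _ _ => Complex.normSq_nonneg _)).1 h' g (Finset.mem_filter.2 ⟨Finset.mem_univ _, hg⟩))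
  have hxs : p ∣ orderOf (x : G) := by rw [hx']
  have hcolY : ∑ χ ∈ Y, conj ((χ : G → ℂ) (x : G)) = 1 := by
    have hn1 : ¬ IsConj (1 : G) (x : G) := fun h => by
      have e : (x : G) = 1 := isConj_one_right.1 h
      rw [e, orderOf_one] at hx'
      exact S.prime.ne_one hx'.symm
    have h := column_orth_of_not_isConj hn1
    rw [← Finset.sum_subset (Finset.subset_univ B) (fun ψ _ hψ => by
      rw [hzero ψ hψ _ hxs, map_zero, mul_zero]), hB, Finset.sum_insert h1B, Finset.sum_insert hΘY,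
      h1, h1, hΘ, hΘ, S.th_one, conj_th, S.th_singular hxs] at h
    rw [Finset.sum_congr rfl (fun (χ : IrrCharacter G) hχ => show (χ : G → ℂ) 1 * conj ((χ : G → ℂ) (x : G)) =
      ((p : ℂ) - 2) * conj ((χ : G → ℂ) (x : G)) by rw [hY1 χ hχ]), ← Finset.mul_sum, map_one] at h
    have hp : (p : ℂ) - 2 ≠ 0 := by
      rw [sub_ne_zero]; exact_mod_cast hp2
    refine mul_left_cancel₀ hp ?_
    linear_combination h
  have hno : ∀ j : G, ¬ IsConj (j⁻¹ * s * j * (v : G)) (x : G) := by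
    intro j hc
    obtain ⟨c, hcx⟩ := isConj_iff.1 hc
    set y := j⁻¹ * s * j * (v : G) with hy
    have hyord : orderOf y = p := by
      rw [← hx', ← hcx]
      exact (MulEquiv.orderOf_eq (MulAut.conj c) y).symm
    have hu : orderOf (j⁻¹ * s * j) = 2 := by
      have := MulEquiv.orderOf_eq (MulAut.conj j⁻¹) s
      simpa [hs] using this
    have hu2 : (j⁻¹ * s * j) * (j⁻¹ * s * j) = 1 := by
      rw [← sq, ← hu]; exact pow_orderOf_eq_one _
    have hv2 : (v : G) * v = 1 := by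
      rw [← sq, ← hv']; exact pow_orderOf_eq_one _
    have hinv : (j⁻¹ * s * j) * y * (j⁻¹ * s * j)⁻¹ = y⁻¹ := by
      have e : (j⁻¹ * s * j)⁻¹ = j⁻¹ * s * j := inv_eq_of_mul_eq_one_right hu2
      have e' : (v : G)⁻¹ = v := inv_eq_of_mul_eq_one_right hv2
      simp only [hy]
      generalize hw : j⁻¹ * s * j = w at hu2 e ⊢
      rw [mul_inv_rev, e, e', ← mul_assoc, hu2, one_mul]
    have := S.inverting_fix hu hyord (hinv ▸ (Subgroup.zpowers y).inv_mem (Subgroup.mem_zpowers y))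
    rw [fix_conj] at this
    omega
  have hkey : ∑ ψ : IrrCharacter G, (Nat.card G : ℂ) * (ψ : G → ℂ) s * (ψ : G → ℂ) (v : G) /
      (ψ : G → ℂ) 1 * conj ((ψ : G → ℂ) (x : G)) = 0 := by
    simp only [← Agent.Blocks.irr_sum_conj_mul, Finset.sum_mul]
    rw [Finset.sum_comm]
    exact Finset.sum_eq_zero fun j _ => column_orth_of_not_isConj (hno j)
  rw [← Finset.sum_subset (Finset.subset_univ B) (fun ψ _ hψ => by
      rw [hzero ψ hψ _ hxs, map_zero, mul_zero]), hB, Finset.sum_insert h1B, Finset.sum_insert hΘY,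
    h1, h1, h1, h1, hΘ, hΘ] at hkey
  have hth0 : th Ω (v : G) = 0 := by rw [th, hv1]; simp
  rw [hth0, Finset.sum_congr rfl (fun (χ : IrrCharacter G) hχ => show
    (Nat.card G : ℂ) * (χ : G → ℂ) s * (χ : G → ℂ) (v : G) / (χ : G → ℂ) 1 *
      conj ((χ : G → ℂ) (x : G)) =
    (-((Nat.card G : ℂ) * (th Ω s - 1)) / ((p : ℂ) - 2)) * conj ((χ : G → ℂ) (x : G)) by
      rw [hY1 χ hχ, hYr χ hχ s (hreg s (Or.inl hs)), hYr χ hχ _ (hreg _ (Or.inl hv'))]
      rw [hth0]
      ring), ← Finset.mul_sum, hcolY, map_one] at hkey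
  have hp : (p : ℂ) - 2 ≠ 0 := by
    rw [sub_ne_zero]; exact_mod_cast hp2
  have hN : (Nat.card G : ℂ) ≠ 0 := Nat.cast_ne_zero.2 Nat.card_pos.ne'
  simp only [mul_zero, zero_mul, zero_div, zero_add, mul_one, div_one] at hkey
  field_simp at hkey
  have hth : th Ω s = (p : ℂ) - 1 := by
    refine mul_left_cancel₀ hN ?_
    linear_combination -hkey
  rw [th] at hth
  have hcard : Nat.card (fixedBy Ω s) = Nat.card Ω := by
    rw [S.card]
    have : (Nat.card (fixedBy Ω s) : ℂ) = (p : ℂ) := by linear_combination hth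
    exact_mod_cast this
  haveI := S.faithful
  have hall : fixedBy Ω s = Set.univ := by
    apply Set.eq_of_subset_of_ncard_le (Set.subset_univ _)
    rw [Set.ncard_univ, ← Nat.card_coe_set_eq, hcard]
  have : s = 1 := FaithfulSMul.eq_of_smul_eq_smul (α := Ω) fun a => by
    have ha : a ∈ fixedBy Ω s := hall ▸ Set.mem_univ a
    rw [one_smul]; exact ha
  rw [this, orderOf_one] at hs
  omega

end Setup

end Cfsg.Agent.DegreePTwo
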